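import Cfsg.Agent.M23Nse.ModelData
import Cfsg.Agent.Golay.NormalForm
import Cfsg.Agent.Golay.MathieuFusion

/-!
# Conjugating elements in the model, found by a search along the base
-/

set_option autoImplicit false

namespace CfsgLib.M23Nse.Model

open Cfsg CfsgLib.Golay CfsgLib.Golay.Cert

/-- The base position of a level. -/
def bpos (k : ℕ) : ℕ := q5.getD k 0

/-- The transversal of a level. -/
def tbl (k : ℕ) : List (List ℕ) := tblData.getD k []

/-- The values at `0, …, n - 1`, packed in blocks of five binary digits. -/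
def pack : ℕ → (ℕ → ℕ) → ℕ
  | 0, _ => 0
  | n + 1, f => f 0 + 32 * pack n fun i => f (i + 1)

/-- Reading a packed value. -/
def ev (c i : ℕ) : ℕ := c / 32 ^ i % 32

/-- Passing on an evaluated number. -/
def force {β : Type} (n : ℕ) (k : ℕ → β) : β :=
  match n with
  | 0 => k 0
  | m + 1 => k (m + 1)

theorem force_eq {β : Type} (n : ℕ) (k : ℕ → β) : force n k = k n := by cases n <;> rfl

theorem ev_pack : ∀ (n : ℕ) (f : ℕ → ℕ) (i : ℕ), (∀ j < n, f j < 32) → i < n → ev (pack n f) i = f i
  | 0, _, _, _, h => absurd h (Nat.not_lt_zero _)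
  | n + 1, f, 0, hf, _ => by
    rw [ev, pow_zero, Nat.div_one, pack, Nat.add_mul_mod_self_left, Nat.mod_eq_of_lt (hf 0 (Nat.succ_pos n))]
  | n + 1, f, i + 1, hf, hi => by
    rw [ev, pack, pow_succ', ← Nat.div_div_eq_div_mul, Nat.add_mul_div_left _ _ (by norm_num : 0 < 32),
      Nat.div_eq_of_lt (hf 0 (Nat.succ_pos n)), zero_add]
    exact ev_pack n (fun j => f (j + 1)) i (fun j hj => hf (j + 1) (by omega)) (by omega)

theorem pack_congr : ∀ (n : ℕ) {f g : ℕ → ℕ}, (∀ i < n, f i = g i) → pack n f = pack n g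
  | 0, _, _, _ => rfl
  | n + 1, f, g, h => by
    rw [pack, pack, h 0 (Nat.succ_pos n), pack_congr n fun i hi => h (i + 1) (by omega)]

/-- The packed form of a list. -/
def packL (L : List ℕ) : ℕ := pack 24 fun i => L.getD i 0

/-- Packed composition. -/
def comp (g t : ℕ) : ℕ := pack 24 fun i => ev g (ev t i)

/-- The partial agreement test at a level. -/
def okB (X Y k g : ℕ) : Bool :=
  (List.range (k + 1)).all fun i =>
    !((q5.take (k + 1)).contains (ev X (bpos i))) ||
      Nat.beq (ev g (ev X (bpos i))) (ev Y (ev g (bpos i)))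

/-- The surviving candidates after each level. -/
def level (X Y : ℕ) : ℕ → List ℕ
  | 0 => [packL (List.range 24)]
  | k + 1 => (level X Y k).flatMap fun g => force g fun g =>
      ((tblCode.getD (k + 1) []).map (comp g)).filter fun h => force h fun h => okB X Y (k + 1) h

/-- Whether the product of the two elements takes `X` to `Y`. -/
def commB (X Y g f : ℕ) : Bool :=
  (List.range 24).all fun i => Nat.beq (ev g (ev f (ev X i))) (ev Y (ev g (ev f i)))

/-- The packed elements fixing the extra position and taking `X` to `Y`. -/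
def conjs (X Y : List ℕ) : List ℕ :=
  force (packL X) fun X => force (packL Y) fun Y =>
    (level X Y 4).flatMap fun g => force g fun g => (fiveCode.filter fun f => commB X Y g f).map (comp g)

/-- The packed form of an element. -/
noncomputable def code (g : M24) : ℕ := pack 24 fun i => (toList (g : Equiv.Perm GolayPt)).getD i 0

theorem code_eq {g : M24} {L : List ℕ} (h : toList (g : Equiv.Perm GolayPt) = L) : code g = packL L := by
  subst h; rfl

theorem ev_code (g : M24) {i : ℕ} (hi : i < 24) : ev (code g) i = idx ((g : Equiv.Perm GolayPt) (pt i)) := by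
  rw [code, ev_pack 24 _ i (fun j hj => ?_) hi, toList_getD _ hi]
  rw [toList_getD _ hj]
  exact lt_trans (idx_lt _) (by norm_num)

theorem ev_code_idx (g : M24) (p : GolayPt) : ev (code g) (idx p) = idx ((g : Equiv.Perm GolayPt) p) := by
  rw [ev_code g (idx_lt p), pt_idx]

theorem comp_code (a b : M24) : comp (code a) (code b) = code (a * b) := by
  refine pack_congr 24 fun i hi => ?_
  rw [ev_code b hi, ev_code_idx, toList_getD _ hi, Subgroup.coe_mul, Equiv.Perm.mul_apply]

theorem code_injective : Function.Injective code := fun a b h => Subtype.ext (Equiv.ext fun p =>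
  idx_injective (by rw [← ev_code_idx, ← ev_code_idx, h]))

theorem tblCode_eq : ∀ k ∈ List.range 4, tblCode.getD (k + 1) [] = (tbl (k + 1)).map packL := by
  decide +kernel

theorem fiveCode_eq : fiveCode = fiveList.map packL := by decide +kernel

theorem tbl_gen : ∀ k ∈ List.range 4, ∀ t ∈ tbl (k + 1), genOK t = true ∧
    ∀ i ∈ List.range (k + 1), t.getD (bpos i) 0 = bpos i := by decide +kernel

theorem tbl_cover : ∀ k ∈ List.range 4, ∀ v ∈ List.range 24,
    v ∈ q5.take (k + 1) ∨ ∃ t ∈ tbl (k + 1), t.getD (bpos (k + 1)) 0 = v := by decide +kernel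

theorem bpos_lt : ∀ i ∈ List.range 5, bpos i < 24 := by decide

theorem mem_take : ∀ k ∈ List.range 5, ∀ a ∈ q5.take (k + 1), ∃ i ∈ List.range (k + 1), bpos i = a := by
  decide

theorem bpos_not_mem : ∀ k ∈ List.range 4, bpos (k + 1) ∉ q5.take (k + 1) := by decide

theorem q5_eq : q5 = (List.range 5).map bpos := by decide

section Sound

variable {x y g : M24} {X Y : List ℕ} (hX : toList (x : Equiv.Perm GolayPt) = X)
  (hY : toList (y : Equiv.Perm GolayPt) = Y)
  (hg : (toList (g : Equiv.Perm GolayPt)).getD 23 0 = 23) (h : g * x = y * g)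
include hX hY hg h

theorem exists_level : ∀ k ≤ 4, ∃ c : M24, code c ∈ level (packL X) (packL Y) k ∧
    ∀ i ≤ k, (c : Equiv.Perm GolayPt) (pt (bpos i)) = (g : Equiv.Perm GolayPt) (pt (bpos i))
  | 0, _ => by
    refine ⟨1, by simp [level, code_eq (g := 1) toList_one], fun i hi => ?_⟩
    obtain rfl : i = 0 := by omega
    have h23 : bpos 0 = 23 := by decide
    rw [toList_getD _ (by norm_num)] at hg
    refine idx_injective ?_
    rw [h23, OneMemClass.coe_one, Equiv.Perm.one_apply, hg, idx_pt 23 (by norm_num)]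
  | k + 1, hk => by
    obtain ⟨c, hc, hag⟩ := exists_level k (by omega)
    have hk4 : k ∈ List.range 4 := List.mem_range.2 (by omega)
    have hlt : ∀ i ≤ k + 1, bpos i < 24 := fun i hi => bpos_lt i (List.mem_range.2 (by omega))
    set v := idx (((c⁻¹ * g : M24) : Equiv.Perm GolayPt) (pt (bpos (k + 1)))) with hv
    rcases tbl_cover k hk4 v (List.mem_range.2 (idx_lt _)) with hin | ⟨t, ht, htv⟩
    · obtain ⟨i, hi, hiv⟩ := mem_take k (List.mem_range.2 (by omega)) v hin
      have hi' : i < k + 1 := List.mem_range.1 hi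
      exfalso
      refine bpos_not_mem k hk4 ?_
      have e1 : ((c⁻¹ * g : M24) : Equiv.Perm GolayPt) (pt (bpos i)) = pt (bpos i) := by
        rw [Subgroup.coe_mul, Subgroup.coe_inv, Equiv.Perm.mul_apply, ← hag i (by omega)]
        simp
      have e2 : pt (bpos (k + 1)) = pt (bpos i) := by
        refine ((c⁻¹ * g : M24) : Equiv.Perm GolayPt).injective (e1.symm ▸ ?_)
        rw [← pt_idx (((c⁻¹ * g : M24) : Equiv.Perm GolayPt) (pt (bpos (k + 1)))), ← hv, ← hiv]
      rw [← idx_pt _ (hlt (k + 1) le_rfl), e2, idx_pt _ (hlt i (by omega)), hiv]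
      exact hin
    · obtain ⟨htg, htfix⟩ := tbl_gen k hk4 t ht
      obtain ⟨τ, hτ⟩ := genOK_spec htg
      have hτap : ∀ i ≤ k + 1, (τ : Equiv.Perm GolayPt) (pt (bpos i)) =
          pt (t.getD (bpos i) 0) := fun i hi => by
        rw [← hτ, toList_getD _ (hlt i hi), pt_idx]
      have hag' : ∀ i ≤ k + 1, ((c * τ : M24) : Equiv.Perm GolayPt) (pt (bpos i)) =
          (g : Equiv.Perm GolayPt) (pt (bpos i)) := by
        intro i hi
        rw [Subgroup.coe_mul, Equiv.Perm.mul_apply, hτap i hi]
        rcases Nat.lt_or_eq_of_le hi with hlt' | rfl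
        · rw [htfix i (List.mem_range.2 hlt'), hag i (by omega)]
        · rw [htv, hv, pt_idx, Subgroup.coe_mul, Subgroup.coe_inv, Equiv.Perm.mul_apply]
          simp
      refine ⟨c * τ, List.mem_flatMap.2 ⟨_, hc, ?_⟩, hag'⟩
      rw [force_eq, List.mem_filter, force_eq, tblCode_eq k hk4, List.map_map]
      refine ⟨List.mem_map.2 ⟨t, ht, ?_⟩, ?_⟩
      · rw [Function.comp_apply, ← code_eq hτ, comp_code]
      · simp only [okB, List.all_eq_true, Bool.or_eq_true, Bool.not_eq_true', Nat.beq_eq]
        intro i hi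
        have hi' : i ≤ k + 1 := by have := List.mem_range.1 hi; omega
        rw [← code_eq hX, ← code_eq hY, ev_code x (hlt i hi')]
        by_cases hm : idx ((x : Equiv.Perm GolayPt) (pt (bpos i))) ∈ q5.take (k + 1 + 1)
        · refine Or.inr ?_
          obtain ⟨j, hj, hje⟩ := mem_take (k + 1) (List.mem_range.2 (by omega)) _ hm
          have hj' : j ≤ k + 1 := by have := List.mem_range.1 hj; omega
          have hxi : (x : Equiv.Perm GolayPt) (pt (bpos i)) = pt (bpos j) := by
            rw [hje, pt_idx]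
          have e : ((c * τ : M24) : Equiv.Perm GolayPt) (pt (bpos j)) =
              (y : Equiv.Perm GolayPt) (((c * τ : M24) : Equiv.Perm GolayPt) (pt (bpos i))) := by
            rw [hag' j hj', hag' i hi', ← hxi]
            exact congrArg (fun u : M24 => (u : Equiv.Perm GolayPt) (pt (bpos i))) h
          rw [← hje, ev_code _ (hlt j hj'), ev_code _ (hlt i hi'), ev_code_idx, e]
        · exact Or.inl (by simpa using hm)

theorem mem_conjs : code g ∈ conjs X Y := by
  obtain ⟨c, hc, hag⟩ := exists_level hX hY hg h 4 le_rfl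
  rw [conjs, force_eq, force_eq]
  refine List.mem_flatMap.2 ⟨_, hc, ?_⟩
  rw [force_eq]
  refine List.mem_map.2 ⟨code (c⁻¹ * g), List.mem_filter.2 ⟨?_, ?_⟩, ?_⟩
  · rw [fiveCode_eq]
    refine List.mem_map.2 ⟨_, fixList_five (c⁻¹ * g) ?_, (code_eq rfl).symm⟩
    intro i hi
    rw [q5_eq, List.mem_map] at hi
    obtain ⟨j, hj, rfl⟩ := hi
    rw [toList_getD _ (bpos_lt j hj), Subgroup.coe_mul, Subgroup.coe_inv, Equiv.Perm.mul_apply,
      ← hag j (Nat.lt_succ_iff.1 (List.mem_range.1 hj)), Equiv.Perm.inv_def, Equiv.symm_apply_apply,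
      idx_pt _ (bpos_lt j hj)]
  · simp only [commB, List.all_eq_true, Nat.beq_eq]
    intro i hi
    rw [← code_eq hX, ← code_eq hY, ev_code _ (List.mem_range.1 hi), ev_code (c⁻¹ * g) (List.mem_range.1 hi),
      ev_code_idx, ev_code_idx, ev_code_idx, ev_code_idx, Subgroup.coe_mul,
      Equiv.Perm.mul_apply, Equiv.Perm.mul_apply, Subgroup.coe_inv, Equiv.Perm.inv_def,
      Equiv.apply_symm_apply, Equiv.apply_symm_apply]
    exact congrArg idx (congrArg (fun u : M24 => (u : Equiv.Perm GolayPt) (pt i)) h)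
  · rw [comp_code, mul_inv_cancel_left]

end Sound

end CfsgLib.M23Nse.Model
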