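import Cfsg.Agent.M23Nse.Flip

/-!
# The centraliser of a four-group inside the centraliser of an involution
-/

set_option autoImplicit false
set_option linter.style.haveILetI false
set_option linter.unusedSectionVars false

namespace CfsgLib.M23Nse

open Subgroup
open CfsgLib.M12Nse (cz mem_cz)

universe u

variable {G : Type u} [Group G] [Finite G]

/-- The commutator of `t` with an element of exponent two. -/
def dlt (t e : G) : G := t * e * t⁻¹ * e

theorem dlt_conj (g t e : G) : dlt (g * t * g⁻¹) (g * e * g⁻¹) = g * dlt t e * g⁻¹ := by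
  unfold dlt; group

namespace Local

variable (L : Local G) {z : G} (hz : orderOf z = 2)
include L hz

theorem dlt_mem {t e : G} (ht : Commute t z) (he : e ∈ kerGroup z) : dlt t e ∈ kerGroup z :=
  mul_mem (L.ker_normal hz ht he) he

theorem dlt_eq_one {t e : G} (he : e ∈ kerGroup z) : dlt t e = 1 ↔ Commute t e := by
  unfold dlt
  rw [mul_eq_one_iff_eq_inv, L.ker_inv hz he, mul_inv_eq_iff_eq_mul]
  rfl

theorem dlt_mul {t a b : G} (ht : Commute t z) (ha : a ∈ kerGroup z) (hb : b ∈ kerGroup z) :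
    dlt t (a * b) = dlt t a * dlt t b := by
  unfold dlt
  calc t * (a * b) * t⁻¹ * (a * b) = (t * a * t⁻¹) * ((t * b * t⁻¹) * a) * b := by group
    _ = (t * a * t⁻¹) * (a * (t * b * t⁻¹)) * b := by rw [(L.ker_comm hz (L.ker_normal hz ht hb) ha).eq]
    _ = _ := by group

theorem dlt_mul_left {t u e : G} (hu : u ∈ kerGroup z) (he : e ∈ kerGroup z) : dlt (t * u) e = dlt t e := by
  unfold dlt
  rw [show t * u * e * (t * u)⁻¹ = t * (u * e * u⁻¹) * t⁻¹ by group, (L.ker_comm hz hu he).eq,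
    mul_inv_cancel_right]

theorem dlt_comp {t t' e : G} (he : e ∈ kerGroup z) :
    dlt (t * t') e = t * dlt t' e * t⁻¹ * dlt t e := by
  unfold dlt
  symm
  calc t * (t' * e * t'⁻¹ * e) * t⁻¹ * (t * e * t⁻¹ * e) = t * t' * e * t'⁻¹ * (e * e) * t⁻¹ * e := by group
    _ = t * t' * e * t'⁻¹ * 1 * t⁻¹ * e := by rw [L.ker_sq hz he]
    _ = _ := by group

theorem dlt_fix {t e : G} (ht : Commute t z) (htt : t * t ∈ kerGroup z) (he : e ∈ kerGroup z) :
    Commute t (dlt t e) := by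
  refine mul_inv_eq_iff_eq_mul.1 ?_
  unfold dlt
  rw [show t * (t * e * t⁻¹ * e) * t⁻¹ = (t * t) * e * (t * t)⁻¹ * (t * e * t⁻¹) by group,
    (L.ker_comm hz htt he).eq, mul_inv_cancel_right, (L.ker_comm hz he (L.ker_normal hz ht he)).eq]

/-- The commutator map of an element of the centraliser. -/
def dltHom {t : G} (ht : Commute t z) : kerGroup z →* G where
  toFun e := dlt t e
  map_one' := by simp [dlt]
  map_mul' a b := L.dlt_mul hz ht a.2 b.2

theorem card_dlt {t : G} (ht : Commute t z) :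
    Nat.card ↥(kerGroup z ⊓ cz t) * Nat.card ↥(L.dltHom hz ht).range = 16 := by
  have e : Nat.card ↥(L.dltHom hz ht).ker = Nat.card ↥(kerGroup z ⊓ cz t) := by
    refine Nat.card_congr ⟨fun a => ⟨a.1.1, a.1.2, mem_cz.2 ((L.dlt_eq_one hz a.1.2).1 a.2).eq.symm⟩,
      fun a => ⟨⟨a.1, a.2.1⟩, (L.dlt_eq_one hz a.2.1).2 (mem_cz.1 a.2.2 : a.1 * t = t * a.1).symm⟩,
      fun a => rfl, fun a => rfl⟩
  rw [← e, ← index_ker, card_mul_index, L.ker_card hz]

theorem card_fix_two {t : G} (ht : Commute t z) (htt : t * t ∈ kerGroup z) :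
    4 ≤ Nat.card ↥(kerGroup z ⊓ cz t) := by
  have h := L.card_dlt hz ht
  have hle : Nat.card ↥(L.dltHom hz ht).range ≤ Nat.card ↥(kerGroup z ⊓ cz t) := by
    refine card_le_of_le ?_
    rintro _ ⟨e, rfl⟩
    exact ⟨L.dlt_mem hz ht e.2, mem_cz.2 (L.dlt_fix hz ht htt e.2).eq.symm⟩
  nlinarith

variable {x : G} (hx : orderOf x = 3) (hc : Commute x z)
include hx hc

/-- The centraliser of `x` and `z` centralises the fixed points. -/
theorem cent_fix {g w : G} (hgx : Commute g x) (hgz : Commute g z) (hw : w ∈ kerGroup z ⊓ cz x) :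
    Commute g w := by
  obtain ⟨hK, -⟩ := L.three_inv x z hx hz hc
  set W := kerGroup z ⊓ cz x
  have hle : W ⊔ zpowers x ≤ cz x ⊓ cz z :=
    sup_le (le_inf inf_le_right (inf_le_left.trans (L.ker_le hz)))
      (zpowers_le.2 ⟨mem_cz.2 rfl, mem_cz.2 hc.eq⟩)
  have heq : W ⊔ zpowers x = cz x ⊓ cz z := by
    refine eq_of_le_of_card_ge hle ?_
    have h4 : 4 ∣ Nat.card ↥(W ⊔ zpowers x) :=
      L.card_fix hz hx hc ▸ card_dvd_of_le (le_sup_left : W ≤ W ⊔ zpowers x)
    have h3 : 3 ∣ Nat.card ↥(W ⊔ zpowers x) :=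
      hx ▸ (Nat.card_zpowers x) ▸ card_dvd_of_le (le_sup_right : zpowers x ≤ W ⊔ zpowers x)
    rw [show Nat.card ↥(cz x ⊓ cz z) = 12 from hK]
    exact Nat.le_of_dvd Nat.card_pos (Nat.Coprime.mul_dvd_of_dvd_of_dvd (m := 4) (n := 3) (by norm_num) h4 h3)
  have hcen : W ⊔ zpowers x ≤ centralizer ({w} : Set G) :=
    sup_le (fun a ha => mem_centralizer_singleton_iff.2 (L.ker_comm hz ha.1 hw.1).eq)
      (zpowers_le.2 (mem_centralizer_singleton_iff.2 (mem_cz.1 hw.2).symm))
  exact mem_centralizer_singleton_iff.1 (hcen (heq ▸ ⟨mem_cz.2 hgx.eq, mem_cz.2 hgz.eq⟩))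

end Local

/-- An involution, an element of order three commuting with it and a further fixed point. -/
structure Base (z x y : G) : Prop where
  loc : Local G
  hz : orderOf z = 2
  hx : orderOf x = 3
  hc : Commute x z
  hy : y ∈ kerGroup z
  hyx : Commute y x
  hy1 : y ≠ 1
  hyz : y ≠ z

theorem Local.exists_base (L : Local G) {z : G} (hz : orderOf z = 2) : ∃ x y, Base z x y := by
  haveI : Fact (Nat.Prime 3) := ⟨by norm_num⟩
  obtain ⟨a, ha⟩ := exists_prime_orderOf_dvd_card' (G := ↥(cz z)) 3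
    (by rw [show Nat.card (cz z) = 2688 from L.inv_card z hz]; norm_num)
  have hx : orderOf (a : G) = 3 := by rw [Subgroup.orderOf_coe]; exact ha
  have hc : Commute (a : G) z := mem_cz.1 a.2
  obtain ⟨y, hy, hyx, hy1, hyz⟩ := L.exists_fix hz hx hc
  exact ⟨a, y, L, hz, hx, hc, hy, hyx, hy1, hyz⟩

namespace Base

variable {z x y : G} (B : Base z x y)
include B

theorem y_two : orderOf y = 2 := orderOf_eq_prime (by rw [pow_two]; exact B.loc.ker_sq B.hz B.hy) B.hy1

theorem yz_comm : Commute y z := B.loc.ker_commute B.hz B.hy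

/-- Every nontrivial noncentral element of the group is conjugate to the base point. -/
theorem cover {y' : G} (hy' : y' ∈ kerGroup z) (h1 : y' ≠ 1) (h2 : y' ≠ z) :
    ∃ g : G, Commute g z ∧ g * y * g⁻¹ = y' := by
  obtain ⟨hm, hmem⟩ := (B.loc.mem_ker B.hz).1 B.hy
  obtain ⟨hm', hmem'⟩ := (B.loc.mem_ker B.hz).1 hy'
  obtain ⟨p, hp⟩ := B.loc.exists_seven B.hz
  obtain ⟨n, e | e⟩ := B.loc.core_cover B.hz hp hmem (fun e => B.hy1 (congrArg Subtype.val e))
    (fun e => B.hyz (congrArg Subtype.val e)) hmem' (fun e => h1 (congrArg Subtype.val e))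
    (fun e => h2 (congrArg Subtype.val e))
  all_goals
    have hpz : Commute ((p : G) ^ n) z := Commute.pow_left (mem_cz.1 p.2) n
  · exact ⟨(p : G) ^ n, hpz, (congrArg Subtype.val e).symm⟩
  · obtain ⟨-, s, hsz, hsx⟩ := B.loc.three_inv x z B.hx B.hz B.hc
    refine ⟨(p : G) ^ n * s, hpz.mul_left hsz, ?_⟩
    rw [show (p : G) ^ n * s * y * ((p : G) ^ n * s)⁻¹ = (p : G) ^ n * (s * y * s⁻¹) * ((p : G) ^ n)⁻¹ by group,
      B.loc.flip B.hz B.hx B.hc hsz hsx B.hy B.hyx B.hy1 B.hyz,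
      show y' = (p : G) ^ n * y * ((p : G) ^ n)⁻¹ * z from congrArg Subtype.val e]
    simp only [mul_assoc]
    rw [hpz.symm.inv_right.eq]

theorem card_noncentral : Nat.card {a : G // a ∈ kerGroup z ∧ a ≠ 1 ∧ a ≠ z} = 14 := by
  classical
  haveI := Fintype.ofFinite (kerGroup z)
  have e : {a : kerGroup z // ¬ ((a : G) = 1 ∨ (a : G) = z)} ≃ {a : G // a ∈ kerGroup z ∧ a ≠ 1 ∧ a ≠ z} :=
    ⟨fun a => ⟨a.1.1, a.1.2, fun h => a.2 (Or.inl h), fun h => a.2 (Or.inr h)⟩,
      fun a => ⟨⟨a.1, a.2.1⟩, fun h => h.elim a.2.2.1 a.2.2.2⟩, fun _ => rfl, fun _ => rfl⟩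
  rw [← Nat.card_congr e, Nat.card_eq_fintype_card, Fintype.card_subtype_compl, ← Nat.card_eq_fintype_card,
    B.loc.ker_card B.hz, Fintype.card_subtype]
  have h : (Finset.univ.filter fun a : kerGroup z => (a : G) = 1 ∨ (a : G) = z) =
      {1, ⟨z, B.loc.ker_self B.hz⟩} := by
    ext a
    simp only [Finset.mem_filter, Finset.mem_univ, true_and, Finset.mem_insert, Finset.mem_singleton]
    exact or_congr OneMemClass.coe_eq_one ⟨fun h => Subtype.ext h, fun h => congrArg Subtype.val h⟩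
  rw [h, Finset.card_pair]
  intro e1
  have := B.hz
  rw [← show (1 : G) = z from congrArg Subtype.val e1, orderOf_one] at this
  norm_num at this

theorem card_stab : Nat.card ↥(cz z ⊓ cz y) = 192 := by
  classical
  let S := (cz y).subgroupOf (cz z)
  let f : cz z → {a : G // a ∈ kerGroup z ∧ a ≠ 1 ∧ a ≠ z} := fun g =>
    ⟨(g : G) * y * (g : G)⁻¹, B.loc.ker_normal B.hz (mem_cz.1 g.2) B.hy, fun e => B.hy1 (conj_eq_one_iff.1 e),
      fun e => B.hyz (by
        calc y = (g : G)⁻¹ * ((g : G) * y * (g : G)⁻¹) * g := by group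
          _ = z := by rw [e, ((show Commute (g : G) z from mem_cz.1 g.2).inv_left).eq, inv_mul_cancel_right])⟩
  have hiff : ∀ g g' : cz z, f g = f g' ↔ g⁻¹ * g' ∈ S := by
    intro g g'
    rw [Subtype.ext_iff, mem_subgroupOf, mem_cz]
    show (g : G) * y * (g : G)⁻¹ = g' * y * (g' : G)⁻¹ ↔ (g : G)⁻¹ * g' * y = y * ((g : G)⁻¹ * g')
    constructor
    · intro e
      calc (g : G)⁻¹ * g' * y = (g : G)⁻¹ * (g' * y * (g' : G)⁻¹) * g' := by group
        _ = y * ((g : G)⁻¹ * g') := by rw [← e]; group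
    · intro e
      calc (g : G) * y * (g : G)⁻¹ = g * (y * ((g : G)⁻¹ * g')) * (g' : G)⁻¹ := by group
        _ = g' * y * (g' : G)⁻¹ := by rw [← e]; group
  let F : cz z ⧸ S → {a : G // a ∈ kerGroup z ∧ a ≠ 1 ∧ a ≠ z} :=
    Quotient.lift f fun a b h => (hiff a b).2 (QuotientGroup.leftRel_apply.1 h)
  have hF : Function.Bijective F := by
    refine ⟨?_, ?_⟩
    · rintro ⟨a⟩ ⟨b⟩ e
      exact QuotientGroup.eq.2 ((hiff a b).1 e)
    · rintro ⟨a, ha, h1, h2⟩
      obtain ⟨g, hg, e⟩ := B.cover ha h1 h2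
      exact ⟨QuotientGroup.mk ⟨g, mem_cz.2 hg.eq⟩, Subtype.ext e⟩
  have h := card_eq_card_quotient_mul_card_subgroup S
  have e : Nat.card S = Nat.card ↥(cz z ⊓ cz y) := by
    refine Nat.card_congr ⟨fun a => ⟨a.1.1, a.1.2, mem_subgroupOf.1 a.2⟩,
      fun a => ⟨⟨a.1, a.2.1⟩, mem_subgroupOf.2 a.2.2⟩, fun _ => rfl, fun _ => rfl⟩
  rw [Nat.card_eq_of_bijective F hF, B.card_noncentral, e, show Nat.card (cz z) = 2688 from B.loc.inv_card z B.hz] at h
  omega

/-- The two-elements of the stabiliser. -/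
def InR (_ : Base z x y) (g : G) : Prop := Commute g z ∧ Commute g y ∧ g ^ 64 = 1

theorem card_bad : 128 ≤ Nat.card {g : ↥(cz z ⊓ cz y) // g ^ 64 ≠ 1} := by
  classical
  set D := cz z ⊓ cz y
  set C := (cz x).subgroupOf D
  set V := kerGroup z ⊓ cz x
  have hsub : cz x ⊓ cz z ≤ D := fun g hg => ⟨hg.2,
    mem_cz.2 (B.loc.cent_fix B.hz B.hx B.hc (mem_cz.1 hg.1) (mem_cz.1 hg.2) ⟨B.hy, mem_cz.2 B.hyx.eq⟩).eq⟩
  have hC : Nat.card C = 12 := by
    have e : C = (cz x ⊓ cz z).subgroupOf D := by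
      ext g
      simp only [C, mem_subgroupOf, mem_inf]
      exact ⟨fun h => ⟨h, g.2.1⟩, fun h => h.1⟩
    rw [e, Nat.card_congr (subgroupOfEquivOfLe hsub).toEquiv]
    exact (B.loc.three_inv x z B.hx B.hz B.hc).1
  have hQ : Nat.card (D ⧸ C) = 16 := by
    have h := card_eq_card_quotient_mul_card_subgroup C
    rw [B.card_stab, hC] at h
    omega
  have hx3 : x ^ 3 = 1 := by rw [← B.hx]; exact pow_orderOf_eq_one x
  let ex : Bool → G := fun b => if b then x else x⁻¹
  have hex : ∀ b, Commute (ex b) x := fun b => by cases b <;> simp [ex, Commute.refl, (Commute.refl x).inv_left]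
  have hexD : ∀ b, ex b ∈ D := fun b => by
    have hxD : x ∈ D := ⟨mem_cz.2 B.hc.eq, mem_cz.2 B.hyx.eq.symm⟩
    cases b
    · exact inv_mem hxD
    · exact hxD
  have hVD : V ≤ D := fun w hw => ⟨mem_cz.2 (B.loc.ker_commute B.hz hw.1).eq,
    mem_cz.2 (B.loc.ker_comm B.hz hw.1 B.hy).eq⟩
  have hpow : ∀ (g : G) (b : Bool) (w : G), w ∈ V → (g * (ex b * w) * g⁻¹) ^ 4 = g * ex b * g⁻¹ := by
    intro g b w hw
    have hwe : Commute (ex b) w := by
      have h : Commute w x := mem_cz.1 hw.2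
      cases b <;> simp [ex, h.symm, h.symm.inv_left]
    have h1 : w ^ 4 = 1 := by
      rw [show 4 = 2 * 2 by norm_num, pow_mul, pow_two w, B.loc.ker_sq B.hz hw.1, one_pow]
    have h2 : ex b ^ 4 = ex b := by
      cases b <;> simp [ex, inv_pow, pow_succ _ 3, hx3]
    rw [conj_pow, hwe.mul_pow, h1, h2, mul_one]
  have hne : ∀ b, ex b ≠ 1 := fun b e => by
    have := B.hx
    cases b <;> simp [ex] at e <;> rw [e, orderOf_one] at this <;> norm_num at this
  let f : (D ⧸ C) × Bool × V → {g : ↥D // g ^ 64 ≠ 1} := fun a =>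
    ⟨a.1.out * (⟨ex a.2.1, hexD _⟩ * ⟨a.2.2.1, hVD a.2.2.2⟩) * a.1.out⁻¹, fun e => hne a.2.1 (by
      have e' := congrArg Subtype.val e
      simp only [Subgroup.coe_pow, Subgroup.coe_mul, Subgroup.coe_inv, Subgroup.coe_one] at e'
      rw [show 64 = 4 * 16 by norm_num, pow_mul, hpow _ _ _ a.2.2.2, conj_pow, conj_eq_one_iff] at e'
      have h16 : ∀ u : G, u ^ 3 = 1 → u ^ 16 = u := fun u hu => by
        rw [show 16 = 3 * 5 + 1 by norm_num, pow_succ, pow_mul, hu, one_pow, one_mul]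
      rwa [h16] at e'
      cases a.2.1 <;> simp [ex, inv_pow, hx3])⟩
  have hf : Function.Injective f := by
    rintro ⟨q, b, w⟩ ⟨q', b', w'⟩ e
    have e' : (q.out : G) * (ex b * w) * (q.out : G)⁻¹ = q'.out * (ex b' * w') * (q'.out : G)⁻¹ :=
      congrArg (fun g : {g : ↥D // g ^ 64 ≠ 1} => ((g.1 : D) : G)) e
    have e4 : (q.out : G) * ex b * (q.out : G)⁻¹ = q'.out * ex b' * (q'.out : G)⁻¹ := by
      rw [← hpow _ _ _ w.2, ← hpow _ _ _ w'.2, e']
    set h : G := (q'.out : G)⁻¹ * q.out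
    have hh : h * ex b * h⁻¹ = ex b' := by
      calc h * ex b * h⁻¹ = (q'.out : G)⁻¹ * ((q.out : G) * ex b * (q.out : G)⁻¹) * q'.out := by simp only [h]; group
        _ = ex b' := by rw [e4]; group
    have hhD : h ∈ D := mul_mem (inv_mem q'.out.2) q.out.2
    have hno : ∀ t ∈ D, t * x * t⁻¹ = x⁻¹ → False := fun t ht htx => by
      have := B.loc.flip B.hz B.hx B.hc (mem_cz.1 ht.1) htx B.hy B.hyx B.hy1 B.hyz
      rw [mul_inv_eq_iff_eq_mul.2 (mem_cz.1 ht.2)] at this
      have hz1 : z = 1 := mul_eq_left.1 this.symm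
      have h2 := B.hz
      rw [hz1, orderOf_one] at h2
      norm_num at h2
    have hb : b = b' := by
      cases b <;> cases b' <;> simp only [ex, Bool.false_eq_true, if_false, if_true] at hh <;> try rfl
      · exfalso
        refine hno h hhD ?_
        calc h * x * h⁻¹ = (h * x⁻¹ * h⁻¹)⁻¹ := by group
          _ = x⁻¹ := by rw [hh]
      · exact (hno h hhD hh).elim
    subst hb
    have hhx : Commute h x := by
      have h1 : Commute h (ex b) := mul_inv_eq_iff_eq_mul.1 hh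
      cases b
      · simpa [ex] using h1.inv_right
      · simpa [ex] using h1
    have hq : q = q' := by
      rw [← q.out_eq, ← q'.out_eq]
      exact (QuotientGroup.eq.2 (mem_subgroupOf.2 (mem_cz.2 hhx.eq))).symm
    subst hq
    exact Prod.ext rfl (Prod.ext rfl (Subtype.ext (mul_left_cancel (mul_left_cancel (mul_right_cancel e')))))
  have h := Nat.card_le_card_of_injective f hf
  rw [Nat.card_prod, Nat.card_prod, hQ, B.loc.card_fix B.hz B.hx B.hc, Nat.card_eq_fintype_card (α := Bool),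
    Fintype.card_bool] at h
  exact h

/-- The two-elements of the stabiliser form a subgroup of order 64. -/
theorem exists_R : ∃ R : Subgroup G, Nat.card R = 64 ∧ ∀ g, g ∈ R ↔ B.InR g := by
  classical
  haveI : Fact (Nat.Prime 2) := ⟨by norm_num⟩
  set D := cz z ⊓ cz y
  obtain ⟨P⟩ : Nonempty (Sylow 2 D) := inferInstance
  have hP : Nat.card (P : Subgroup D) = 64 := by
    rw [P.card_eq_multiplicity, B.card_stab, show (192 : ℕ) = 2 ^ 6 * 3 by norm_num,
      Nat.factorization_mul (by norm_num) (by norm_num), Finsupp.add_apply,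
      (Fact.out : Nat.Prime 2).factorization_pow, Finsupp.single_eq_same,
      Nat.factorization_eq_zero_of_not_dvd (by norm_num)]
    norm_num
  have hle : ∀ g : D, g ∈ (P : Subgroup D) → g ^ 64 = 1 := fun g hg => by
    rw [← hP]
    exact congrArg Subtype.val (pow_card_eq_one' (x := (⟨g, hg⟩ : (P : Subgroup D))))
  have hge : ∀ g : D, g ^ 64 = 1 → g ∈ (P : Subgroup D) := by
    intro g hg
    have hsum : Nat.card {a : D // a ^ 64 = 1} + Nat.card {a : D // a ^ 64 ≠ 1} = 192 := by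
      rw [← B.card_stab, ← Nat.card_sum]
      exact Nat.card_congr (Equiv.sumCompl fun a : D => a ^ 64 = 1)
    let f : ↥(P : Subgroup D) → {a : D // a ^ 64 = 1} := fun a => ⟨a.1, hle a.1 a.2⟩
    have hf : Function.Injective f := fun a b e => Subtype.ext (congrArg (fun t : {a : D // a ^ 64 = 1} => t.1) e)
    have hb := Function.Injective.bijective_of_nat_card_le hf (by have h1 : 128 ≤ Nat.card {a : D // a ^ 64 ≠ 1} := B.card_bad; rw [hP]; omega)
    obtain ⟨a, ha⟩ := hb.2 ⟨g, hg⟩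
    have e : (a : D) = g := congrArg Subtype.val ha
    exact e ▸ a.2
  refine ⟨(P : Subgroup D).map D.subtype, by rw [card_map_of_injective D.subtype_injective, hP], fun g => ?_⟩
  constructor
  · rintro ⟨a, ha, rfl⟩
    exact ⟨mem_cz.1 a.2.1, mem_cz.1 a.2.2, congrArg Subtype.val (hle a ha)⟩
  · rintro ⟨h1, h2, h3⟩
    exact ⟨⟨g, mem_cz.2 h1.eq, mem_cz.2 h2.eq⟩, hge _ (Subtype.ext h3), rfl⟩

end Base

end CfsgLib.M23Nse
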