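import Cfsg.Agent.M23Nse.LocalDef
import Cfsg.Agent.Nse.Basic
import Cfsg.Agent.M12Nse.Basic

/-!
# The largest normal two-subgroup of the centraliser of an involution
-/

set_option autoImplicit false
set_option linter.style.haveILetI false
set_option linter.unusedSectionVars false

namespace CfsgLib.M23Nse.Local

open Subgroup CfsgLib.ThreeCounts
open CfsgLib.M12Nse (cz mem_cz)

universe u

variable {G : Type u} [Group G] [Finite G] (L : Local G) {z : G} (hz : orderOf z = 2)
include L hz

theorem inv_mul_self : z * z = 1 := by rw [← pow_two, ← hz, pow_orderOf_eq_one]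

/-- The centraliser of a commuting element of order seven is cyclic. -/
theorem mem_zpowers_seven {p g : G} (hp : orderOf p = 7) (hpz : Commute p z) (hg : Commute g p) :
    g ∈ zpowers (p * z) := by
  have hle : zpowers (p * z) ≤ centralizer ({p} : Set G) :=
    zpowers_le.2 (mem_centralizer_singleton_iff.2 ((Commute.refl p).mul_left hpz.symm).eq)
  have he : zpowers (p * z) = centralizer ({p} : Set G) := eq_of_le_of_card_ge hle (by
    rw [L.seven p hp, Nat.card_zpowers,
      hpz.orderOf_mul_eq_mul_orderOf_of_coprime (by rw [hp, hz]; norm_num), hp, hz])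
  exact he ▸ mem_centralizer_singleton_iff.2 hg.eq

theorem two_elt_commute_seven {p g : G} (hp : orderOf p = 7) (hpz : Commute p z) (hg : Commute g p)
    {k : ℕ} (hk : g ^ 2 ^ k = 1) : g = 1 ∨ g = z := by
  obtain ⟨n, rfl⟩ := mem_powers_iff_mem_zpowers.2 (L.mem_zpowers_seven hz hp hpz hg)
  change ((p * z) ^ n) = 1 ∨ (p * z) ^ n = z
  change ((p * z) ^ n) ^ 2 ^ k = 1 at hk
  rw [hpz.mul_pow] at hk ⊢
  have hzn : z ^ n = 1 ∨ z ^ n = z := by
    rcases Nat.even_or_odd n with ⟨j, rfl⟩ | ⟨j, rfl⟩
    · left; rw [← two_mul, pow_mul, pow_two, L.inv_mul_self hz, one_pow]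
    · right; rw [pow_succ, pow_mul, pow_two, L.inv_mul_self hz, one_pow, one_mul]
  have hpn : p ^ n = 1 := by
    have h1 : (z ^ n) ^ 2 ^ (k + 1) = 1 := by
      rw [← pow_mul, mul_comm, pow_mul, pow_succ', pow_mul, pow_two, L.inv_mul_self hz, one_pow, one_pow]
    have h2 : (p ^ n) ^ 2 ^ (k + 1) = 1 := by
      have h3 : (p ^ n * z ^ n) ^ 2 ^ (k + 1) = 1 := by rw [pow_succ, pow_mul, hk, one_pow]
      rwa [((hpz.pow_pow n n)).mul_pow, h1, mul_one] at h3
    have h4 : orderOf (p ^ n) ∣ 2 ^ (k + 1) := orderOf_dvd_of_pow_eq_one h2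
    have h5 : orderOf (p ^ n) ∣ 7 := hp ▸ orderOf_pow_dvd n
    exact orderOf_eq_one_iff.1 (Nat.eq_one_of_dvd_coprimes (Nat.Coprime.pow_right _ (by norm_num)) h5 h4)
  rw [hpn, one_mul]
  exact hzn

theorem norm_seven_commute {p g : G} (hp : orderOf p = 7) (hpz : Commute p z)
    (hg : g ∈ normalizer (zpowers p : Set G)) : Commute g z := by
  have h1 : Commute (g * z * g⁻¹) p := by
    obtain ⟨n, hn⟩ := mem_zpowers_iff.1 ((mem_normalizer_iff.1 (inv_mem hg) p).1 (mem_zpowers p))
    have hn' : g⁻¹ * p * g = p ^ n := by rw [hn]; group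
    calc g * z * g⁻¹ * p = g * (z * (g⁻¹ * p * g)) * g⁻¹ := by group
      _ = g * ((g⁻¹ * p * g) * z) * g⁻¹ := by rw [hn', (hpz.symm.zpow_right n).eq]
      _ = _ := by group
  have h2 : (g * z * g⁻¹) ^ 2 ^ 1 = 1 := by
    rw [conj_pow, pow_one, pow_two, L.inv_mul_self hz, mul_one, mul_inv_cancel]
  rcases L.two_elt_commute_seven hz hp hpz h1 h2 with e | e
  · have : orderOf (g * z * g⁻¹) = 2 := ((MulAut.conj g).orderOf_eq z).trans hz
    rw [e, orderOf_one] at this
    norm_num at this
  · exact mul_inv_eq_iff_eq_mul.1 e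

/-- The normaliser of a group of order seven inside the centraliser. -/
theorem card_norm_seven {p : cz z} (hp : orderOf p = 7) :
    Nat.card (normalizer (zpowers p : Set ↥(cz z))) = 42 := by
  have hp' : orderOf (p : G) = 7 := by rw [Subgroup.orderOf_coe]; exact hp
  have hpz : Commute (p : G) z := mem_centralizer_singleton_iff.1 p.2
  have hpow : ∀ w : (cz z), w ∈ zpowers p ↔ (w : G) ∈ zpowers (p : G) := fun w => by
    constructor
    · rintro ⟨n, rfl⟩; exact ⟨n, by simp⟩
    · rintro ⟨n, hn⟩; exact ⟨n, Subtype.ext (by simpa using hn)⟩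
  rw [← L.seven_norm _ hp']
  refine Nat.card_congr
    { toFun := fun g => ⟨g.1.1, ?_⟩
      invFun := fun g => ⟨⟨g.1, mem_centralizer_singleton_iff.2 (L.norm_seven_commute hz hp' hpz g.2).eq⟩, ?_⟩
      left_inv := fun _ => rfl
      right_inv := fun _ => rfl }
  · rw [mem_normalizer_iff]
    intro w
    constructor
    · intro hw
      obtain ⟨n, rfl⟩ := mem_zpowers_iff.1 hw
      exact (hpow (g.1 * p ^ n * g.1⁻¹)).1 ((mem_normalizer_iff.1 g.2 _).1 (zpow_mem (mem_zpowers p) n))
    · intro hw
      obtain ⟨n, hn⟩ := mem_zpowers_iff.1 hw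
      have h1 := (hpow (g.1⁻¹ * p ^ n * g.1⁻¹⁻¹)).1
        ((mem_normalizer_iff.1 (inv_mem g.2) _).1 (zpow_mem (mem_zpowers p) n))
      simp only [Subgroup.coe_mul, Subgroup.coe_inv, SubgroupClass.coe_zpow, inv_inv, hn] at h1
      simpa [mul_assoc] using h1
  · rw [mem_normalizer_iff]
    intro w
    rw [hpow, hpow]
    exact mem_normalizer_iff.1 g.2 (w : G)

theorem factorization_inv {p e m : ℕ} (hp : p.Prime) (he : p ^ e * m = 2688) (hm : ¬ p ∣ m) :
    (Nat.card (cz z)).factorization p = e := by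
  rw [L.inv_card z hz, ← he, Nat.factorization_mul (pow_ne_zero _ hp.ne_zero) (fun e0 => hm (by rw [e0]; exact dvd_zero p)),
    Finsupp.add_apply, hp.factorization_pow, Finsupp.single_eq_same,
    Nat.factorization_eq_zero_of_not_dvd hm, add_zero]

theorem cnt_seven : cnt ↥(cz z) 7 = 384 := by
  haveI : Fact (Nat.Prime 7) := ⟨by norm_num⟩
  have hk := L.factorization_inv hz (p := 7) (e := 1) (m := 384) Fact.out (by norm_num) (by norm_num)
  obtain ⟨p, hp⟩ := exists_prime_orderOf_dvd_card' (G := ↥(cz z)) 7 (by rw [L.inv_card z hz]; norm_num)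
  let P : Sylow 7 (cz z) := Sylow.ofCard (zpowers p) (by rw [Nat.card_zpowers, hp, hk, pow_one])
  have h1 : Nat.card (Sylow 7 (cz z)) = (normalizer (zpowers p : Set ↥(cz z))).index := P.card_eq_index_normalizer
  have h2 := (normalizer (zpowers p : Set ↥(cz z))).index_mul_card
  rw [L.card_norm_seven hz hp, L.inv_card z hz, ← h1] at h2
  rw [CfsgLib.Nse.card_sylow_prime hk]
  omega

theorem cnt_three : cnt ↥(cz z) 3 = 224 := by
  haveI : Fact (Nat.Prime 3) := ⟨by norm_num⟩
  have hk := L.factorization_inv hz (p := 3) (e := 1) (m := 896) Fact.out (by norm_num) (by norm_num)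
  obtain ⟨a, ha⟩ := exists_prime_orderOf_dvd_card' (G := ↥(cz z)) 3 (by rw [L.inv_card z hz]; norm_num)
  let P : Sylow 3 (cz z) := Sylow.ofCard (zpowers a) (by rw [Nat.card_zpowers, ha, hk, pow_one])
  have h1 : Nat.card (Sylow 3 (cz z)) = (normalizer (zpowers a : Set ↥(cz z))).index := P.card_eq_index_normalizer
  have h2 := (normalizer (zpowers a : Set ↥(cz z))).index_mul_card
  have haG : orderOf (a : G) = 3 := by rw [Subgroup.orderOf_coe]; exact ha
  obtain ⟨hcc, s, hsz, hsx⟩ := L.three_inv (a : G) z haG hz (mem_centralizer_singleton_iff.1 a.2)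
  let s' : (cz z) := ⟨s, mem_centralizer_singleton_iff.2 hsz.eq⟩
  have hs : s' * a * s'⁻¹ = a⁻¹ := Subtype.ext hsx
  have hcard : Nat.card (normalizer (zpowers a : Set ↥(cz z))) = 24 := by
    have hC : Nat.card (CfsgLib.M12Nse.cz a) = 12 := by
      rw [← hcc]
      exact Nat.card_congr
        { toFun := fun g => ⟨g.1.1, mem_centralizer_singleton_iff.2 (congrArg Subtype.val (CfsgLib.M12Nse.mem_cz.1 g.2)), g.1.2⟩
          invFun := fun g => ⟨⟨g.1, g.2.2⟩, CfsgLib.M12Nse.mem_cz.2 (Subtype.ext (mem_centralizer_singleton_iff.1 g.2.1))⟩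
          left_inv := fun _ => rfl
          right_inv := fun _ => rfl }
    have hne : a⁻¹ ≠ a := fun e => by
      have h3 : a ^ 2 = 1 := by rw [pow_two]; exact inv_eq_iff_mul_eq_one.1 e
      have := orderOf_dvd_of_pow_eq_one h3
      rw [ha] at this; norm_num at this
    have hnorm : ∀ g : (cz z), g ∈ normalizer (zpowers a : Set (cz z)) ↔ g * a * g⁻¹ = a ∨ g * a * g⁻¹ = a⁻¹ := by
      intro g
      constructor
      · intro hg
        obtain ⟨n, hn⟩ := mem_powers_iff_mem_zpowers.2 ((mem_normalizer_iff.1 hg a).1 (mem_zpowers a))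
        change a ^ n = g * a * g⁻¹ at hn
        rw [← pow_mod_orderOf, ha] at hn
        rcases (show n % 3 = 0 ∨ n % 3 = 1 ∨ n % 3 = 2 by omega) with e | e | e <;> rw [e] at hn
        · have := ((MulAut.conj g).orderOf_eq a).trans ha
          rw [MulAut.conj_apply, ← hn, pow_zero, orderOf_one] at this
          norm_num at this
        · exact Or.inl (by rw [← hn, pow_one])
        · refine Or.inr (hn.symm.trans (eq_inv_of_mul_eq_one_left ?_))
          rw [← pow_succ, show (2 : ℕ) + 1 = orderOf a from ha.symm, pow_orderOf_eq_one]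
      · intro hg
        rw [mem_normalizer_iff]
        have hmap : (zpowers a).map (MulAut.conj g).toMonoidHom = zpowers a := by
          rw [MonoidHom.map_zpowers]
          show zpowers (g * a * g⁻¹) = _
          rcases hg with e | e <;> rw [e]
          exact zpowers_inv
        intro w
        conv_rhs => rw [← hmap]
        rw [Subgroup.mem_map_equiv]
        simp [MulAut.conj_symm_apply, mul_assoc]
    have hfix : ∀ c : CfsgLib.M12Nse.cz a, (c : (cz z)) * a * (c : (cz z))⁻¹ = a := fun c =>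
      mul_inv_eq_iff_eq_mul.2 (CfsgLib.M12Nse.mem_cz.1 c.2)
    let f : CfsgLib.M12Nse.cz a ⊕ CfsgLib.M12Nse.cz a → normalizer (zpowers a : Set (cz z)) :=
      Sum.elim (fun c => ⟨c, (hnorm c).2 (Or.inl (hfix c))⟩)
        (fun c => ⟨s' * c, (hnorm _).2 (Or.inr (by
          rw [show s' * (c : (cz z)) * a * (s' * (c : (cz z)))⁻¹ = s' * ((c : (cz z)) * a * (c : (cz z))⁻¹) * s'⁻¹ by group, hfix, hs]))⟩)
    have hf : Function.Bijective f := by
      have himg : ∀ c : CfsgLib.M12Nse.cz a, s' * (c : (cz z)) * a * (s' * (c : (cz z)))⁻¹ = a⁻¹ := fun c => by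
        rw [show s' * (c : (cz z)) * a * (s' * (c : (cz z)))⁻¹ = s' * ((c : (cz z)) * a * (c : (cz z))⁻¹) * s'⁻¹ by group, hfix, hs]
      refine ⟨?_, fun g => ?_⟩
      · rintro (c | c) (d | d) e <;> simp only [f, Sum.elim_inl, Sum.elim_inr, Subtype.mk.injEq] at e
        · exact congrArg Sum.inl (Subtype.ext e)
        · have := hfix c; rw [e, himg d] at this; exact absurd this hne
        · have := hfix d; rw [← e, himg c] at this; exact absurd this hne
        · exact congrArg Sum.inr (Subtype.ext (mul_left_cancel e))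
      · rcases (hnorm g).1 g.2 with e | e
        · exact ⟨Sum.inl ⟨g, CfsgLib.M12Nse.mem_cz.2 (mul_inv_eq_iff_eq_mul.1 e)⟩, rfl⟩
        · refine ⟨Sum.inr ⟨s'⁻¹ * g, CfsgLib.M12Nse.mem_cz.2 (mul_inv_eq_iff_eq_mul.1 ?_)⟩,
            Subtype.ext (mul_inv_cancel_left s' (g : (cz z)))⟩
          rw [show s'⁻¹ * (g : (cz z)) * a * (s'⁻¹ * (g : (cz z)))⁻¹ = s'⁻¹ * ((g : (cz z)) * a * (g : (cz z))⁻¹) * s' by group, e, ← hs]
          group
    rw [← Nat.card_eq_of_bijective f hf, Nat.card_sum, hC]
  rw [hcard, L.inv_card z hz, ← h1] at h2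
  rw [CfsgLib.Nse.card_sylow_prime hk]
  omega

/-- No Sylow two-subgroup of the centraliser is normal. -/
theorem no_normal_sylow (M : Subgroup (cz z)) [hM : M.Normal] :
    Nat.card M ≠ 128 := by
  intro hc
  haveI : Fact (Nat.Prime 2) := ⟨by norm_num⟩
  haveI : Fact (Nat.Prime 3) := ⟨by norm_num⟩
  obtain ⟨a, ha⟩ := exists_prime_orderOf_dvd_card' (G := ↥(cz z)) 3 (by rw [L.inv_card z hz]; norm_num)
  have haG : orderOf (a : G) = 3 := by rw [Subgroup.orderOf_coe]; exact ha
  obtain ⟨-, s, hsz, hsx⟩ := L.three_inv (a : G) z haG hz (mem_centralizer_singleton_iff.1 a.2)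
  let s' : (cz z) := ⟨s, mem_centralizer_singleton_iff.2 hsz.eq⟩
  have hs : s' * a * s'⁻¹ = a⁻¹ := Subtype.ext hsx
  obtain ⟨j, m, hm, e⟩ := Nat.exists_eq_pow_mul_and_not_dvd (orderOf_pos s').ne' 2 (by norm_num)
  have hodd : Odd m := Nat.odd_iff.2 (Nat.two_dvd_ne_zero.1 hm)
  have hsm : ∀ n : ℕ, s' ^ (2 * n + 1) * a * (s' ^ (2 * n + 1))⁻¹ = a⁻¹ := by
    intro n
    induction n with
    | zero => simpa using hs
    | succ n ih =>
      rw [show 2 * (n + 1) + 1 = 2 + (2 * n + 1) by ring, pow_add,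
        show s' ^ 2 * s' ^ (2 * n + 1) * a * (s' ^ 2 * s' ^ (2 * n + 1))⁻¹ =
          s' ^ 2 * (s' ^ (2 * n + 1) * a * (s' ^ (2 * n + 1))⁻¹) * (s' ^ 2)⁻¹ by group, ih, pow_two,
        show s' * s' * a⁻¹ * (s' * s')⁻¹ = s' * (s' * a * s'⁻¹)⁻¹ * s'⁻¹ by group, hs, inv_inv, hs]
  obtain ⟨n, rfl⟩ := hodd
  set w := s' ^ (2 * n + 1) with hw
  have hwo : w ^ 2 ^ j = 1 := by rw [hw, ← pow_mul, mul_comm, ← e, pow_orderOf_eq_one]
  have hwM : w ∈ M := by
    rw [← QuotientGroup.eq_one_iff, ← orderOf_eq_one_iff]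
    have h1 : orderOf (w : (cz z) ⧸ M) ∣ 2 ^ j :=
      (orderOf_map_dvd (QuotientGroup.mk' M) w).trans (orderOf_dvd_of_pow_eq_one hwo)
    have h2 : orderOf (w : (cz z) ⧸ M) ∣ 21 := by
      have h3 := M.index_mul_card
      rw [hc, L.inv_card z hz, index_eq_card] at h3
      exact (show Nat.card ((cz z) ⧸ M) = 21 by omega) ▸ orderOf_dvd_natCard _
    exact Nat.eq_one_of_dvd_coprimes (Nat.Coprime.pow_left _ (by norm_num)) h1 h2
  have haM : a ∈ M := by
    have h1 : w * (a * w⁻¹ * a⁻¹) ∈ M := mul_mem hwM (hM.conj_mem _ (inv_mem hwM) a)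
    rw [show w * (a * w⁻¹ * a⁻¹) = w * a * w⁻¹ * a⁻¹ by group, hsm n] at h1
    have e2 : a⁻¹ * a⁻¹ = a := by
      rw [← mul_inv_rev, inv_eq_iff_mul_eq_one, ← pow_two, ← pow_succ,
        show (2 : ℕ) + 1 = orderOf a from ha.symm, pow_orderOf_eq_one]
    rwa [e2] at h1
  have := Subgroup.orderOf_dvd_natCard M haM
  rw [ha, hc] at this
  norm_num at this

/-- A normal subgroup containing the involution is a two-group or everything. -/
theorem normal_cases (K : Subgroup (cz z)) [hK : K.Normal]
    (hzK : (⟨z, mem_centralizer_singleton_iff.2 rfl⟩ : cz z) ∈ K) :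
    (∃ k, Nat.card K = 2 ^ k) ∨ K = ⊤ := by
  haveI : Fact (Nat.Prime 2) := ⟨by norm_num⟩
  haveI : Fact (Nat.Prime 3) := ⟨by norm_num⟩
  haveI : Fact (Nat.Prime 7) := ⟨by norm_num⟩
  have hdvd : Nat.card K ∣ 2688 := L.inv_card z hz ▸ card_subgroup_dvd_card K
  have all : ∀ q : ℕ, q.Prime → q = 3 ∨ q = 7 → q ∣ Nat.card K →
      (Nat.card K).factorization q = 1 ∧ cnt ↥K q = cnt ↥(cz z) q := by
    intro q hq hq37 hd
    haveI : Fact q.Prime := ⟨hq⟩
    have hf : (Nat.card K).factorization q = 1 := by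
      have h1 : (Nat.card K).factorization q ≤ (2688 : ℕ).factorization q :=
        (Nat.factorization_le_iff_dvd Nat.card_pos.ne' (by norm_num)).2 hdvd q
      have h2 := hq.factorization_pos_of_dvd Nat.card_pos.ne' hd
      have h3 : (2688 : ℕ).factorization q = 1 := by
        rcases hq37 with rfl | rfl
        · exact L.inv_card z hz ▸ L.factorization_inv hz hq (show 3 ^ 1 * 896 = 2688 by norm_num) (by norm_num)
        · exact L.inv_card z hz ▸ L.factorization_inv hz hq (show 7 ^ 1 * 384 = 2688 by norm_num) (by norm_num)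
      omega
    refine ⟨hf, ?_⟩
    refine Nat.card_congr
      { toFun := fun g => ⟨g.1.1, by rw [Subgroup.orderOf_coe]; exact g.2⟩
        invFun := fun g => ⟨⟨g.1, ?_⟩, ?_⟩
        left_inv := fun _ => rfl
        right_inv := fun _ => rfl }
    · rw [← QuotientGroup.eq_one_iff, ← orderOf_eq_one_iff]
      have h1 : orderOf ((g.1 : (cz z)) : (cz z) ⧸ K) ∣ q := (orderOf_map_dvd (QuotientGroup.mk' K) g.1).trans (dvd_of_eq g.2)
      rcases (Nat.dvd_prime hq).1 h1 with e | e
      · exact e
      · exfalso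
        have h2 : q ∣ K.index := by rw [← e, index_eq_card]; exact orderOf_dvd_natCard _
        have h3 : q * q ∣ 2688 := by
          rw [← L.inv_card z hz, ← K.card_mul_index]
          exact mul_dvd_mul hd h2
        rcases hq37 with rfl | rfl <;> norm_num at h3
    · rw [← Subgroup.orderOf_coe]; exact g.2
  by_cases h7 : 7 ∣ Nat.card K
  · right
    obtain ⟨hf, hc⟩ := all 7 (by norm_num) (Or.inr rfl) h7
    rw [L.cnt_seven hz, CfsgLib.Nse.card_sylow_prime hf] at hc
    obtain ⟨p, hp⟩ := exists_prime_orderOf_dvd_card' (G := K) 7 h7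
    let P : Sylow 7 K := Sylow.ofCard (zpowers p) (by rw [Nat.card_zpowers, hp, hf, pow_one])
    set N := normalizer (zpowers p : Set K)
    have h1 : Nat.card (Sylow 7 K) = N.index := P.card_eq_index_normalizer
    have h2 := N.index_mul_card
    have hpZ : orderOf (p : (cz z)) = 7 := by rw [Subgroup.orderOf_coe]; exact hp
    have h3 : Nat.card N ∣ 42 := by
      rw [← L.card_norm_seven hz hpZ, ← card_map_of_injective K.subtype_injective (K := N)]
      refine card_dvd_of_le ?_
      rintro _ ⟨g, hg, rfl⟩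
      have hmap : (zpowers (p : (cz z))).map (MulAut.conj (g : (cz z))).toMonoidHom = zpowers (p : (cz z)) := by
        rw [MonoidHom.map_zpowers]
        refine eq_of_le_of_card_ge (zpowers_le.2 ?_) (le_of_eq ?_)
        · obtain ⟨n, hn⟩ := mem_zpowers_iff.1 ((mem_normalizer_iff.1 hg p).1 (mem_zpowers p))
          exact mem_zpowers_iff.2 ⟨n, by simpa using congrArg (fun t : K => (t : (cz z))) hn⟩
        · rw [Nat.card_zpowers, Nat.card_zpowers]
          exact ((MulAut.conj (g : (cz z))).orderOf_eq (p : (cz z))).symm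
      rw [mem_normalizer_iff]
      intro w
      conv_rhs => rw [← hmap]
      rw [Subgroup.mem_map_equiv]
      simp [MulAut.conj_symm_apply, mul_assoc]
    have h4 : 14 ∣ Nat.card N := by
      refine Nat.Coprime.mul_dvd_of_dvd_of_dvd (show Nat.Coprime 2 7 by norm_num) ?_ ?_
      · let zK : K := ⟨_, hzK⟩
        have : orderOf zK = 2 := by rw [← Subgroup.orderOf_coe, ← Subgroup.orderOf_coe]; exact hz
        rw [← this]
        refine Subgroup.orderOf_dvd_natCard N (centralizer_le_normalizer _ (mem_centralizer_iff.2 ?_))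
        intro w _
        exact Subtype.ext (Subtype.ext (mem_centralizer_singleton_iff.1 (w : (cz z)).2))
      · exact hp ▸ Subgroup.orderOf_dvd_natCard N (le_normalizer (mem_zpowers p))
    have h5 : Nat.card N = 14 ∨ Nat.card N = 42 := by
      have := Nat.le_of_dvd (by norm_num) h3
      obtain ⟨k, hk⟩ := h4
      have : k ≤ 3 := by omega
      have := Nat.card_pos (α := N)
      interval_cases k
      · omega
      · exact Or.inl hk
      · exfalso; rw [hk] at h3; norm_num at h3
      · exact Or.inr hk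
    rcases h5 with h5 | h5
    · exfalso
      have hK896 : Nat.card K = 896 := by rw [← h2, ← h1, h5]; omega
      classical
      haveI := Fintype.ofFinite K
      obtain ⟨S⟩ : Nonempty (Sylow 2 K) := inferInstance
      have hS : Nat.card (S : Subgroup K) = 128 := by
        rw [S.card_eq_multiplicity, hK896, show (896 : ℕ) = 2 ^ 7 * 7 by norm_num,
          Nat.factorization_mul (by norm_num) (by norm_num), Finsupp.add_apply,
          (Fact.out : Nat.Prime 2).factorization_pow, Finsupp.single_eq_same,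
          Nat.factorization_eq_zero_of_not_dvd (by norm_num)]
        norm_num
      let zK : K := ⟨_, hzK⟩
      have hzo : orderOf zK = 2 := by rw [← Subgroup.orderOf_coe, ← Subgroup.orderOf_coe]; exact hz
      have hzc : ∀ g : K, Commute g zK := fun g =>
        Subtype.ext (Subtype.ext (mem_centralizer_singleton_iff.1 (g : (cz z)).2))
      let A := Finset.univ.filter fun g : K => g ^ 128 = 1
      let B := Finset.univ.filter fun g : K => orderOf g = 7
      have hB : B.card = 384 := by
        rw [← L.cnt_seven hz, ← (all 7 (by norm_num) (Or.inr rfl) h7).2, cnt, Nat.card_eq_fintype_card,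
          Fintype.card_subtype]
      have hpow : ∀ g ∈ B, (g * zK) ^ 128 ≠ 1 := by
        intro g hg e
        rw [(hzc g).mul_pow, show zK ^ 128 = 1 from orderOf_dvd_iff_pow_eq_one.1 (hzo ▸ by norm_num), mul_one] at e
        have := orderOf_dvd_of_pow_eq_one e
        rw [(Finset.mem_filter.1 hg).2] at this
        norm_num at this
      have hdis : Disjoint (A ∪ B) (B.image (· * zK)) := by
        rw [Finset.disjoint_right]
        intro g hg hg'
        obtain ⟨b, hb, rfl⟩ := Finset.mem_image.1 hg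
        rcases Finset.mem_union.1 hg' with e | e
        · exact hpow b hb (Finset.mem_filter.1 e).2
        · have h7' := (Finset.mem_filter.1 e).2
          rw [(hzc b).orderOf_mul_eq_mul_orderOf_of_coprime (by rw [(Finset.mem_filter.1 hb).2, hzo]; norm_num),
            (Finset.mem_filter.1 hb).2, hzo] at h7'
          norm_num at h7'
      have hAB : Disjoint A B := by
        rw [Finset.disjoint_left]
        intro g hg hg'
        have := orderOf_dvd_of_pow_eq_one (Finset.mem_filter.1 hg).2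
        rw [(Finset.mem_filter.1 hg').2] at this
        norm_num at this
      have hA : A.card ≤ 128 := by
        have := Finset.card_le_univ (A ∪ B ∪ B.image (· * zK))
        rw [Finset.card_union_of_disjoint hdis, Finset.card_union_of_disjoint hAB,
          Finset.card_image_of_injective _ (mul_left_injective zK), hB, ← Nat.card_eq_fintype_card, hK896] at this
        omega
      have hSA : (Finset.univ.filter fun g : K => g ∈ (S : Subgroup K)) = A := by
        refine Finset.eq_of_subset_of_card_le (fun g hg => Finset.mem_filter.2 ⟨Finset.mem_univ _, ?_⟩) ?_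
        · rw [← orderOf_dvd_iff_pow_eq_one, ← hS]
          exact Subgroup.orderOf_dvd_natCard _ (Finset.mem_filter.1 hg).2
        · refine hA.trans (le_of_eq ?_)
          rw [← hS, Nat.card_eq_fintype_card, ← Fintype.card_subtype]
      have hmem : ∀ g : K, g ∈ (S : Subgroup K) ↔ g ^ 128 = 1 := fun g => by
        simpa [A] using Finset.ext_iff.1 hSA g
      haveI : ((S : Subgroup K).map K.subtype).Normal := ⟨by
        rintro _ ⟨g, hg, rfl⟩ t
        refine ⟨⟨t * g * t⁻¹, hK.conj_mem _ g.2 t⟩, (hmem _).2 (Subtype.ext ?_), rfl⟩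
        have h8 := congrArg (fun u : K => (u : (cz z))) ((hmem g).1 hg)
        simp only [SubgroupClass.coe_pow, OneMemClass.coe_one] at h8
        simp [conj_pow, h8]⟩
      exact L.no_normal_sylow hz ((S : Subgroup K).map K.subtype)
        (by rw [card_map_of_injective K.subtype_injective, hS])
    · refine eq_top_of_card_eq _ ?_
      rw [← h2, ← h1, h5, L.inv_card z hz]
      omega
  · left
    have h3 : ¬ 3 ∣ Nat.card K := fun h3 => by
      obtain ⟨hf, hc⟩ := all 3 (by norm_num) (Or.inl rfl) h3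
      rw [L.cnt_three hz, CfsgLib.Nse.card_sylow_prime hf] at hc
      obtain ⟨P⟩ : Nonempty (Sylow 3 K) := inferInstance
      have h4 : Nat.card (Sylow 3 K) ∣ Nat.card K := P.card_dvd_index.trans (index_dvd_card _)
      have h5 : Nat.card K ∣ 384 := ((Nat.Prime.coprime_iff_not_dvd (by norm_num)).2 h7).symm.dvd_of_dvd_mul_right
        (show Nat.card K ∣ 384 * 7 from hdvd)
      rw [show Nat.card (Sylow 3 K) = 112 by omega] at h4
      exact absurd (h4.trans h5) (by norm_num)
    have h8 : Nat.card K ∣ 2 ^ 7 := by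
      have e3 := ((Nat.Prime.coprime_iff_not_dvd (by norm_num)).2 h3).symm
      have e7 := ((Nat.Prime.coprime_iff_not_dvd (by norm_num)).2 h7).symm
      exact e3.dvd_of_dvd_mul_right (e7.dvd_of_dvd_mul_right (show Nat.card K ∣ 2 ^ 7 * 3 * 7 from hdvd))
    obtain ⟨k, -, hk⟩ := (Nat.dvd_prime_pow Nat.prime_two).1 h8
    exact ⟨k, hk⟩

end CfsgLib.M23Nse.Local
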