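import Cfsg.Agent.M23Nse.Base

/-!
# The cosets of the group of order sixteen in the Sylow two-subgroup of the stabiliser
-/

set_option autoImplicit false
set_option linter.style.haveILetI false
set_option linter.unusedSectionVars false

namespace CfsgLib.M23Nse.Base

open Subgroup
open CfsgLib.M12Nse (cz mem_cz)

universe u

variable {G : Type u} [Group G] [Finite G] {z x y : G} (B : Base z x y)
include B

theorem z_ne : z ≠ 1 := fun e => by
  have h := B.hz
  rw [e, orderOf_one] at h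
  norm_num at h

theorem xxx : x * x * x = 1 := by
  rw [← pow_two, ← pow_succ, show (2 : ℕ) + 1 = orderOf x from B.hx.symm, pow_orderOf_eq_one]

theorem R_mul {a b : G} (ha : B.InR a) (hb : B.InR b) : B.InR (a * b) := by
  obtain ⟨R, -, hR⟩ := B.exists_R
  exact (hR _).1 (mul_mem ((hR a).2 ha) ((hR b).2 hb))

theorem R_inv {a : G} (ha : B.InR a) : B.InR a⁻¹ :=
  ⟨ha.1.inv_left, ha.2.1.inv_left, by rw [inv_pow, ha.2.2, inv_one]⟩

theorem ker_R {e : G} (he : e ∈ kerGroup z) : B.InR e :=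
  ⟨B.loc.ker_commute B.hz he, B.loc.ker_comm B.hz he B.hy,
    by rw [show 64 = 2 * 32 by norm_num, pow_mul, pow_two e, B.loc.ker_sq B.hz he, one_pow]⟩

theorem R_conj {g t : G} (hgz : Commute g z) (hgy : Commute g y) (ht : B.InR t) : B.InR (g * t * g⁻¹) :=
  ⟨(hgz.mul_left ht.1).mul_left hgz.inv_left, (hgy.mul_left ht.2.1).mul_left hgy.inv_left,
    by rw [conj_pow, ht.2.2, mul_one, mul_inv_cancel]⟩

theorem conj_mem_iff {g a : G} (hg : Commute g z) : g * a * g⁻¹ ∈ kerGroup z ↔ a ∈ kerGroup z :=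
  ⟨fun h => by simpa [mul_assoc] using B.loc.ker_normal B.hz hg.inv_left h, B.loc.ker_normal B.hz hg⟩

/-- An element commuting with `z` and `y` centralises the fixed points. -/
theorem cent_V {g : G} (hgz : Commute g z) (hgy : Commute g y) {w : G} (hw : w ∈ kerGroup z ⊓ cz x) :
    Commute g w := by
  classical
  set V := kerGroup z ⊓ cz x
  have hzV : z ∈ V := ⟨B.loc.ker_self B.hz, mem_cz.2 B.hc.eq.symm⟩
  have hyV : y ∈ V := ⟨B.hy, mem_cz.2 B.hyx.eq⟩
  set H := V ⊓ cz g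
  have h3 : ({1, z, y} : Finset G).card ≤ Nat.card H := by
    rw [← Nat.card_eq_finsetCard]
    refine Nat.card_le_card_of_injective (fun a : ({1, z, y} : Finset G) => (⟨a.1, ?_⟩ : H))
      fun a b e => Subtype.ext (congrArg (fun t : H => (t : G)) e)
    have ha := a.2
    simp only [Finset.mem_insert, Finset.mem_singleton] at ha
    rcases ha with e | e | e <;> rw [e]
    · exact one_mem _
    · exact ⟨hzV, mem_cz.2 hgz.eq.symm⟩
    · exact ⟨hyV, mem_cz.2 hgy.eq.symm⟩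
  rw [Finset.card_insert_of_notMem (by simp [B.z_ne.symm, B.hy1.symm]), Finset.card_pair B.hyz.symm] at h3
  have h4 := card_dvd_of_le (inf_le_left : H ≤ V)
  rw [B.loc.card_fix B.hz B.hx B.hc] at h4
  have h5 := Nat.le_of_dvd (by norm_num) h4
  have he : Nat.card H = 4 := by
    interval_cases h : Nat.card H <;> omega
  have heq := eq_of_le_of_card_ge (inf_le_left : H ≤ V) (by rw [he, B.loc.card_fix B.hz B.hx B.hc])
  rw [← heq] at hw
  exact (show Commute w g from mem_cz.1 hw.2).symm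

/-- No coset outside the group is fixed by `x`. -/
theorem coset_fix {t : G} (ht : B.InR t) (h : t⁻¹ * (x * t * x⁻¹) ∈ kerGroup z) : t ∈ kerGroup z := by
  haveI : Fact (Nat.Prime 3) := ⟨by norm_num⟩
  have hmod := CfsgLib.M12Nse.card_modEq_fixed (p := 3) (n := 1) (x := x)
    (by rw [pow_one, ← B.hx, pow_orderOf_eq_one]) (fun g => t⁻¹ * g ∈ kerGroup z) fun g => by
      show _ ↔ t⁻¹ * (x * g * x⁻¹) ∈ _
      rw [show t⁻¹ * (x * g * x⁻¹) = t⁻¹ * (x * t * x⁻¹) * (x * (t⁻¹ * g) * x⁻¹) by group,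
        mul_mem_cancel_left h, B.conj_mem_iff B.hc]
  have h16 : Nat.card {g : G // t⁻¹ * g ∈ kerGroup z} = 16 := by
    rw [← B.loc.ker_card B.hz]
    exact Nat.card_congr (Equiv.subtypeEquiv (Equiv.mulLeft t⁻¹) fun g => Iff.rfl)
  rw [h16] at hmod
  have hne : Nat.card {g : G // t⁻¹ * g ∈ kerGroup z ∧ g * x = x * g} ≠ 0 := fun e => by
    rw [e] at hmod
    norm_num [Nat.ModEq] at hmod
  obtain ⟨⟨⟨g, hg, hgx⟩⟩, -⟩ := Nat.card_ne_zero.1 hne
  have hgR : B.InR g := by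
    rw [show g = t * (t⁻¹ * g) by group]
    exact B.R_mul ht (B.ker_R hg)
  have hgE := B.loc.fix_sylow B.hz B.hx B.hc hgx (k := 6) hgR.2.2
    fun w hw => B.cent_V hgR.1 hgR.2.1 hw
  rw [show t = g * (t⁻¹ * g)⁻¹ by group]
  exact mul_mem hgE.1 (inv_mem hg)

/-- The conjugates of `t` by the powers of `x` meet every nontrivial coset. -/
theorem cover3 {t t' : G} (ht : B.InR t) (htE : t ∉ kerGroup z) (ht' : B.InR t') (htE' : t' ∉ kerGroup z) :
    ∃ g : G, Commute g z ∧ Commute g y ∧ Commute g x ∧ (g * t * g⁻¹)⁻¹ * t' ∈ kerGroup z ∧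
      (g = 1 ∨ g = x ∨ g = x * x) := by
  classical
  obtain ⟨R, hR64, hR⟩ := B.exists_R
  set E := kerGroup z
  have hER : E ≤ R := fun e he => (hR e).2 (B.ker_R he)
  have hxy : Commute x y := B.hyx.symm
  have hxx : ∀ {w : G}, Commute x w → Commute (x * x) w := fun h => h.mul_left h
  set t1 := x * t * x⁻¹ with ht1
  set t2 := x * t1 * x⁻¹ with ht2
  have h1R : B.InR t1 := B.R_conj B.hc hxy ht
  have h2R : B.InR t2 := B.R_conj B.hc hxy h1R
  have h3 : x * t2 * x⁻¹ = t := by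
    rw [ht2, ht1, show x * (x * (x * t * x⁻¹) * x⁻¹) * x⁻¹ = x * x * x * t * (x * x * x)⁻¹ by group, B.xxx]
    simp
  by_contra hcon
  have c0 : t⁻¹ * t' ∉ E := fun h => hcon ⟨1, .one_left _, .one_left _, .one_left _, by simpa using h, Or.inl rfl⟩
  have c1 : t1⁻¹ * t' ∉ E := fun h => hcon ⟨x, B.hc, hxy, Commute.refl x, h, Or.inr (Or.inl rfl)⟩
  have c2 : t2⁻¹ * t' ∉ E := fun h => hcon ⟨x * x, hxx B.hc, hxx hxy, hxx (Commute.refl x), by
    rwa [show x * x * t * (x * x)⁻¹ = t2 by rw [ht2, ht1]; group], Or.inr (Or.inr rfl)⟩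
  have n12 : t⁻¹ * t1 ∉ E := fun h => htE (B.coset_fix ht h)
  have n23 : t1⁻¹ * t2 ∉ E := fun h => n12 ((B.conj_mem_iff B.hc).1 (by
    rwa [show x * (t⁻¹ * t1) * x⁻¹ = t1⁻¹ * t2 by rw [ht2, ht1]; group]))
  have n13 : t⁻¹ * t2 ∉ E := fun h => by
    have h' := inv_mem ((B.conj_mem_iff B.hc).2 h)
    rw [show (x * (t⁻¹ * t2) * x⁻¹)⁻¹ = (x * t2 * x⁻¹)⁻¹ * t1 by rw [ht1]; group, h3] at h'
    exact n12 h'
  have n01 : t1 ∉ E := fun h => htE ((B.conj_mem_iff B.hc).1 h)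
  have n02 : t2 ∉ E := fun h => n01 ((B.conj_mem_iff B.hc).1 h)
  set N := E.subgroupOf R
  haveI := Fintype.ofFinite (R ⧸ N)
  have h4 : Fintype.card (R ⧸ N) = 4 := by
    have h := card_eq_card_quotient_mul_card_subgroup N
    rw [hR64, Nat.card_congr (subgroupOfEquivOfLe hER).toEquiv, B.loc.ker_card B.hz] at h
    rw [← Nat.card_eq_fintype_card]
    omega
  have hnd : ([QuotientGroup.mk (1 : R), QuotientGroup.mk ⟨t, (hR t).2 ht⟩, QuotientGroup.mk ⟨t1, (hR t1).2 h1R⟩,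
      QuotientGroup.mk ⟨t2, (hR t2).2 h2R⟩, QuotientGroup.mk ⟨t', (hR t').2 ht'⟩] : List (R ⧸ N)).Nodup := by
    simp only [List.nodup_cons, List.mem_cons, List.not_mem_nil, or_false, not_or, QuotientGroup.eq, N,
      mem_subgroupOf, Subgroup.coe_mul, Subgroup.coe_inv, inv_one, one_mul,
      not_false_iff, List.nodup_nil, and_true]
    exact ⟨⟨htE, n01, n02, htE'⟩, ⟨n12, n13, c0⟩, ⟨n23, c1⟩, c2⟩
  have := hnd.length_le_card
  rw [h4] at this
  simp at this

theorem sq_mem {t : G} (ht : B.InR t) : t * t ∈ kerGroup z := by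
  by_contra hne
  have htE : t ∉ kerGroup z := fun h => hne (mul_mem h h)
  obtain ⟨R, hR64, hR⟩ := B.exists_R
  have hER : kerGroup z ≤ R := fun e he => (hR e).2 (B.ker_R he)
  haveI : ((kerGroup z).subgroupOf R).Normal :=
    ⟨fun a ha g => B.loc.ker_normal B.hz ((hR g).1 g.2).1 ha⟩
  have hidx : ((kerGroup z).subgroupOf R).index = 4 := by
    have h := ((kerGroup z).subgroupOf R).index_mul_card
    rw [hR64, Nat.card_congr (subgroupOfEquivOfLe hER).toEquiv, B.loc.ker_card B.hz] at h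
    omega
  have h4 : t ^ 4 ∈ kerGroup z := by
    have := ((kerGroup z).subgroupOf R).pow_index_mem (⟨t, (hR t).2 ht⟩ : R)
    rw [hidx] at this
    exact this
  obtain ⟨g, hgz, -, -, hg, -⟩ := B.cover3 ht htE (B.R_mul ht ht) hne
  set u := g * t * g⁻¹ with hu
  set e := u⁻¹ * (t * t) with he
  have huz : Commute u z := (hgz.mul_left ht.1).mul_left hgz.inv_left
  have h : u * u * (u⁻¹ * e * u * e) ∈ kerGroup z := by
    rw [show u * u * (u⁻¹ * e * u * e) = t ^ 4 by rw [he]; simp only [pow_succ, pow_zero, one_mul]; group]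
    exact h4
  have hue : u⁻¹ * e * u * e ∈ kerGroup z :=
    mul_mem (by simpa using B.loc.ker_normal B.hz huz.inv_left hg) hg
  have huu := (mul_mem_cancel_right hue).1 h
  rw [show u * u = g * (t * t) * g⁻¹ by rw [hu]; group, B.conj_mem_iff hgz] at huu
  exact hne huu

theorem V_le_cent {t : G} (ht : B.InR t) : kerGroup z ⊓ cz x ≤ kerGroup z ⊓ cz t :=
  fun _ hw => ⟨hw.1, mem_cz.2 (B.cent_V ht.1 ht.2.1 hw).eq.symm⟩

/-- An element outside the group centralises exactly the fixed points. -/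
theorem cent_eq {t : G} (ht : B.InR t) (htE : t ∉ kerGroup z) :
    kerGroup z ⊓ cz t = kerGroup z ⊓ cz x := by
  classical
  haveI : Fact (Nat.Prime 3) := ⟨by norm_num⟩
  refine (eq_of_le_of_card_ge (B.V_le_cent ht) ?_).symm
  rw [B.loc.card_fix B.hz B.hx B.hc]
  set E := kerGroup z
  set H := E ⊓ cz t
  by_contra hgt
  have hd : Nat.card H ∣ 2 ^ 4 := (card_dvd_of_le inf_le_left).trans (dvd_of_eq (B.loc.ker_card B.hz))
  have h8 : Nat.card H = 8 := by
    obtain ⟨i, hi, he⟩ := (Nat.dvd_prime_pow Nat.prime_two).1 hd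
    rcases eq_or_ne i 4 with rfl | hi4
    · exfalso
      have hle := eq_of_le_of_card_ge (inf_le_left : H ≤ E) (by rw [he, B.loc.ker_card B.hz]; norm_num)
      exact htE (B.loc.ker_cent B.hz fun w hw => by
        exact (show Commute w t from mem_cz.1 (hle.ge hw).2).symm)
    · rw [he] at hgt ⊢
      interval_cases i <;> omega
  have htz := ht.1
  -- the commutators of `t` take one nontrivial value
  have hcard : Nat.card ↥(B.loc.dltHom B.hz htz).range = 2 := by
    have h := B.loc.card_dlt B.hz htz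
    rw [h8] at h
    omega
  obtain ⟨c', hc'1, huniq⟩ := (Nat.card_eq_two_iff' (1 : (B.loc.dltHom B.hz htz).range)).1 hcard
  obtain ⟨⟨e0, he0⟩, hce⟩ := c'.2
  set c : G := dlt t e0 with hcdef
  have hce' : c = (c' : G) := hce
  have hc1 : c ≠ 1 := fun e => hc'1 (Subtype.ext (hce'.symm.trans e))
  have hcE : c ∈ E := B.loc.dlt_mem B.hz htz he0
  have hval : ∀ e ∈ E, dlt t e = 1 ∨ dlt t e = c := fun e he => by
    rcases eq_or_ne (dlt t e) 1 with h | h
    · exact Or.inl h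
    · refine Or.inr ?_
      have := huniq ⟨dlt t e, ⟨⟨e, he⟩, rfl⟩⟩ fun e' => h (congrArg Subtype.val e')
      rw [hce', ← this]
  set t1 := x * t * x⁻¹ with ht1
  have hxy : Commute x y := B.hyx.symm
  have h1R : B.InR t1 := B.R_conj B.hc hxy ht
  obtain ⟨e, heE, het1, het⟩ : ∃ e ∈ E, Commute t1 e ∧ ¬ Commute t e := by
    by_contra hcon
    have hle : ∀ e ∈ E, Commute t1 e → Commute t e := fun e he h1 => by
      by_contra h
      exact hcon ⟨e, he, h1, h⟩
    have hinv : ∀ w : G, w ∈ H → x * w * x⁻¹ ∈ H := by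
      rintro w ⟨hwE, hwt⟩
      refine ⟨B.loc.ker_normal B.hz B.hc hwE, mem_cz.2 (hle _ (B.loc.ker_normal B.hz B.hc hwE) ?_).eq.symm⟩
      show t1 * (x * w * x⁻¹) = x * w * x⁻¹ * t1
      rw [ht1, show x * t * x⁻¹ * (x * w * x⁻¹) = x * (t * w) * x⁻¹ by group,
        ← show w * t = t * w from mem_cz.1 hwt]
      group
    have hmod := CfsgLib.M12Nse.card_modEq_fixed (p := 3) (n := 1) (x := x)
      (by rw [pow_one, ← B.hx, pow_orderOf_eq_one]) (· ∈ H) fun g => by
        refine ⟨hinv g, fun h => ?_⟩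
        have := hinv _ (hinv _ h)
        rwa [show x * (x * (x * g * x⁻¹) * x⁻¹) * x⁻¹ = x * x * x * g * (x * x * x)⁻¹ by group, B.xxx,
          inv_one, mul_one, one_mul] at this
    change Nat.card H ≡ _ [MOD 3] at hmod
    have e4 : Nat.card {g : G // g ∈ H ∧ g * x = x * g} = 4 := by
      rw [← B.loc.card_fix B.hz B.hx B.hc]
      exact Nat.card_congr (Equiv.subtypeEquivRight fun g =>
        ⟨fun h => ⟨h.1.1, mem_cz.2 h.2⟩, fun h => ⟨B.V_le_cent ht h, mem_cz.1 h.2⟩⟩)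
    rw [h8, e4] at hmod
    norm_num [Nat.ModEq] at hmod
  have hec : dlt t e = c := (hval e heE).resolve_left fun h => het ((B.loc.dlt_eq_one B.hz heE).1 h)
  -- the product lies in the third coset
  have htt1E : t * t1 ∉ E := fun h => htE (B.coset_fix ht (by
    rw [show t⁻¹ * (x * t * x⁻¹) = (t * t)⁻¹ * (t * t1) by rw [ht1]; group]
    exact mul_mem (inv_mem (B.sq_mem ht)) h))
  obtain ⟨g, hgz, hgy, hgx, hg, hg3⟩ := B.cover3 ht htE (B.R_mul ht h1R) htt1E
  have hg2 : g = x * x := by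
    rcases hg3 with e3 | e3 | e3
    · exfalso
      refine htE ((B.conj_mem_iff B.hc).1 (show t1 ∈ E from ?_))
      rwa [e3, show (1 * t * 1⁻¹)⁻¹ * (t * t1) = t1 by group] at hg
    · exfalso
      refine htE ((B.conj_mem_iff (h1R.1.inv_left)).1 ?_)
      rwa [e3, ← ht1, show t1⁻¹ * (t * t1) = t1⁻¹ * t * t1⁻¹⁻¹ by group] at hg
    · exact e3
  subst hg2
  have hcfix : x * x * c * (x * x)⁻¹ = c := by
    have h := B.loc.dlt_comp B.hz (t := t) (t' := t1) heE
    rw [(B.loc.dlt_eq_one B.hz heE).2 het1, mul_one, mul_inv_cancel, one_mul, hec,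
      show t * t1 = x * x * t * (x * x)⁻¹ * ((x * x * t * (x * x)⁻¹)⁻¹ * (t * t1)) by group,
      B.loc.dlt_mul_left B.hz hg heE,
      show e = x * x * ((x * x)⁻¹ * e * (x * x)) * (x * x)⁻¹ by group, dlt_conj] at h
    have he' : (x * x)⁻¹ * e * (x * x) ∈ E := by simpa using B.loc.ker_normal B.hz hgz.inv_left heE
    rcases hval _ he' with h' | h' <;> rw [h'] at h
    · exact absurd (by rw [← h]; group) hc1
    · exact h
  have hcx : Commute c x := (mul_inv_eq_iff_eq_mul.1 (show x * c * x⁻¹ = c by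
    conv_lhs => rw [← hcfix]
    rw [show x * (x * x * c * (x * x)⁻¹) * x⁻¹ = x * x * x * c * (x * x * x)⁻¹ by group, B.xxx]
    simp)).symm
  -- the inverter fixes the value
  obtain ⟨-, s, hsz, hsx⟩ := B.loc.three_inv x z B.hx B.hz B.hc
  have hsx' : s⁻¹ * x * s⁻¹⁻¹ = x⁻¹ := by
    rw [inv_inv]
    calc s⁻¹ * x * s = s⁻¹ * (x⁻¹)⁻¹ * s := by rw [inv_inv]
      _ = s⁻¹ * (s * x * s⁻¹)⁻¹ * s := by rw [hsx]
      _ = _ := by group
  have hsy : s⁻¹ * y * s = y * z := by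
    simpa using B.loc.flip B.hz B.hx B.hc hsz.inv_left hsx' B.hy B.hyx B.hy1 B.hyz
  have hsR : B.InR (s * t * s⁻¹) := by
    refine ⟨(hsz.mul_left htz).mul_left hsz.inv_left, ?_, by rw [conj_pow, ht.2.2, mul_one, mul_inv_cancel]⟩
    show s * t * s⁻¹ * y = y * (s * t * s⁻¹)
    calc s * t * s⁻¹ * y = s * (t * (s⁻¹ * y * s)) * s⁻¹ := by group
      _ = s * ((s⁻¹ * y * s) * t) * s⁻¹ := by rw [hsy, (ht.2.1.mul_right ht.1).eq]
      _ = _ := by group
  obtain ⟨g, hgz, -, hgx, hg, hg3⟩ := B.cover3 ht htE hsR fun h => htE ((B.conj_mem_iff hsz).1 h)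
  have hgc : g * c * g⁻¹ = c := by
    have hcomm : Commute g c := by
      rcases hg3 with e3 | e3 | e3 <;> rw [e3]
      exacts [Commute.one_left c, hcx.symm, hcx.symm.mul_left hcx.symm]
    exact mul_inv_eq_iff_eq_mul.2 hcomm.eq
  have hsc : s * c * s⁻¹ = c := by
    have hse : s * e0 * s⁻¹ ∈ E := B.loc.ker_normal B.hz hsz he0
    have h := dlt_conj s t e0
    rw [show s * t * s⁻¹ = g * t * g⁻¹ * ((g * t * g⁻¹)⁻¹ * (s * t * s⁻¹)) by group,
      B.loc.dlt_mul_left B.hz hg hse,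
      show s * e0 * s⁻¹ = g * (g⁻¹ * (s * e0 * s⁻¹) * g) * g⁻¹ by group, dlt_conj, ← hcdef] at h
    have he' : g⁻¹ * (s * e0 * s⁻¹) * g ∈ E := by simpa using B.loc.ker_normal B.hz hgz.inv_left hse
    rcases hval _ he' with h' | h' <;> rw [h'] at h
    · exact absurd (conj_eq_one_iff.1 (h.symm.trans (by group))) hc1
    · exact h.symm.trans hgc
  have hcz' : c = z := by
    by_contra hne
    exact B.z_ne (mul_eq_left.1 ((B.loc.flip B.hz B.hx B.hc hsz hsx hcE hcx hc1 hne).symm.trans hsc))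
  -- the elements all of whose commutators are central
  have hzz : z * z = 1 := by rw [← pow_two, ← B.hz, pow_orderOf_eq_one]
  let K : Subgroup G :=
    { carrier := {g | Commute g z ∧ ∀ e ∈ E, dlt g e = 1 ∨ dlt g e = z}
      one_mem' := ⟨Commute.one_left z, fun e he => Or.inl ((B.loc.dlt_eq_one B.hz he).2 (Commute.one_left e))⟩
      mul_mem' := by
        rintro a b ⟨ha, ha'⟩ ⟨hb, hb'⟩
        refine ⟨ha.mul_left hb, fun e he => ?_⟩
        rw [B.loc.dlt_comp B.hz he]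
        have haz : a * z * a⁻¹ = z := mul_inv_eq_iff_eq_mul.2 ha.eq
        rcases hb' e he with h | h <;> rw [h] <;> rcases ha' e he with h' | h' <;> rw [h'] <;>
          simp [haz, hzz]
      inv_mem' := by
        rintro a ⟨ha, ha'⟩
        refine ⟨ha.inv_left, fun e he => ?_⟩
        have he' : a⁻¹ * e * a ∈ E := by simpa using B.loc.ker_normal B.hz ha.inv_left he
        have heq : dlt a⁻¹ e = dlt a (a⁻¹ * e * a) := by
          unfold dlt
          rw [inv_inv, show a * (a⁻¹ * e * a) * a⁻¹ = e by group, (B.loc.ker_comm B.hz he' he).eq]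
        rw [heq]
        exact ha' _ he' }
  have hEK : E ≤ K := fun u hu => ⟨B.loc.ker_commute B.hz hu, fun e he =>
    Or.inl ((B.loc.dlt_eq_one B.hz he).2 (B.loc.ker_comm B.hz hu he))⟩
  have hKn : ∀ g a : G, Commute g z → a ∈ K → g * a * g⁻¹ ∈ K := by
    rintro g a hg ⟨ha, ha'⟩
    refine ⟨(hg.mul_left ha).mul_left hg.inv_left, fun e he => ?_⟩
    have he' : g⁻¹ * e * g ∈ E := by simpa using B.loc.ker_normal B.hz hg.inv_left he
    rw [show e = g * (g⁻¹ * e * g) * g⁻¹ by group, dlt_conj]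
    rcases ha' _ he' with h | h <;> rw [h]
    · exact Or.inl (by group)
    · exact Or.inr (mul_inv_eq_iff_eq_mul.2 hg.eq)
  have htK : t ∈ K := ⟨htz, fun e he => hcz' ▸ hval e he⟩
  rcases B.loc.ker_above B.hz hEK (fun g hg => mem_cz.2 hg.1.eq) hKn with h | h
  · exact htE (h.le htK)
  obtain ⟨p, hp⟩ := B.loc.exists_seven B.hz
  have hpK : (p : G) ∈ K := h.symm ▸ p.2
  have hpz : (p : G) * z * (p : G)⁻¹ = z := mul_inv_eq_iff_eq_mul.2 (mem_cz.1 p.2)
  have hpy : (p : G) * p * y * ((p : G) * p)⁻¹ = y := by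
    have h1 : (p : G) * y * (p : G)⁻¹ = y ∨ (p : G) * y * (p : G)⁻¹ = z * y := by
      rcases hpK.2 y B.hy with h' | h' <;> unfold dlt at h'
      · left; rw [mul_eq_one_iff_eq_inv.1 h', B.loc.ker_inv B.hz B.hy]
      · right; rw [show z * y = (p : G) * y * (p : G)⁻¹ * y * y by rw [h'], mul_assoc _ y y, B.loc.ker_sq B.hz B.hy, mul_one]
    rw [show (p : G) * p * y * ((p : G) * p)⁻¹ = p * ((p : G) * y * (p : G)⁻¹) * (p : G)⁻¹ by group]
    rcases h1 with h1 | h1
    · rw [h1, h1]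
    · rw [h1, show (p : G) * (z * y) * (p : G)⁻¹ = (p : G) * z * (p : G)⁻¹ * ((p : G) * y * (p : G)⁻¹) by group,
        hpz, h1, ← mul_assoc, hzz, one_mul]
  have hmem : (p : G) * p ∈ cz z ⊓ cz y :=
    ⟨mul_mem p.2 p.2, mem_cz.2 (mul_inv_eq_iff_eq_mul.1 hpy)⟩
  have h7 : orderOf ((p : G) * p) = 7 := by
    have : orderOf (p : G) = 7 := by rw [Subgroup.orderOf_coe]; exact hp
    rw [← pow_two, Nat.Coprime.orderOf_pow (by rw [this]; norm_num), this]
  have := Subgroup.orderOf_dvd_natCard _ hmem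
  rw [h7, B.card_stab] at this
  norm_num at this

theorem dlt_surj {t w : G} (ht : B.InR t) (htE : t ∉ kerGroup z) (hw : w ∈ kerGroup z ⊓ cz x) :
    ∃ e ∈ kerGroup z, dlt t e = w := by
  have h := B.loc.card_dlt B.hz ht.1
  rw [B.cent_eq ht htE, B.loc.card_fix B.hz B.hx B.hc] at h
  have hle : (B.loc.dltHom B.hz ht.1).range ≤ kerGroup z ⊓ cz x := by
    rintro _ ⟨e, rfl⟩
    rw [← B.cent_eq ht htE]
    exact ⟨B.loc.dlt_mem B.hz ht.1 e.2, mem_cz.2 (B.loc.dlt_fix B.hz ht.1 (B.sq_mem ht) e.2).eq.symm⟩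
  have heq := eq_of_le_of_card_ge hle (by rw [B.loc.card_fix B.hz B.hx B.hc]; omega)
  rw [← heq] at hw
  obtain ⟨e, he⟩ := hw
  exact ⟨e, e.2, he⟩

theorem inv_coset {t e : G} (ht : B.InR t) (htE : t ∉ kerGroup z) (htt : t * t = 1) (he : e ∈ kerGroup z) :
    (t * e) * (t * e) = 1 ↔ e ∈ kerGroup z ⊓ cz x := by
  rw [← B.cent_eq ht htE, mem_inf, mem_cz, and_iff_right he,
    show t * e * (t * e) = t * t * dlt t⁻¹ e by unfold dlt; group, htt, one_mul, B.loc.dlt_eq_one B.hz he,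
    inv_eq_of_mul_eq_one_left htt]
  exact eq_comm

theorem conj_coset {t v : G} (ht : B.InR t) (htE : t ∉ kerGroup z) (htt : t * t = 1)
    (hv : v ∈ kerGroup z ⊓ cz x) : ∃ e ∈ kerGroup z, e * t * e⁻¹ = t * v := by
  obtain ⟨e, he, rfl⟩ := B.dlt_surj ht htE hv
  refine ⟨e, he, ?_⟩
  unfold dlt
  rw [B.loc.ker_inv B.hz he, inv_eq_of_mul_eq_one_left htt, show t * (t * e * t * e) = t * t * e * t * e by group,
    htt, one_mul]

end CfsgLib.M23Nse.Base
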