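import Cfsg.Agent.M23Nse.LocalDef
import Cfsg.Agent.Nse.Basic
import Cfsg.Agent.M12Nse.Basic

/-!
# Centralisers of elements of prime order from the values of the counting function
-/

set_option autoImplicit false
set_option linter.style.haveILetI false
set_option linter.unusedSectionVars false

namespace CfsgLib.M23Nse

open Subgroup CfsgLib.ThreeCounts

universe u

/-- The nonzero numbers of elements of each order. -/
def valSet : Finset ℕ :=
  {1, 3795, 56672, 318780, 680064, 850080, 887040, 1275120, 1360128, 1457280, 1854720}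

/-- The values not taken at the orders determined first. -/
def restSet : Finset ℕ := {318780, 850080, 1275120}

/-- A group with the same order and the same values of the counting function as the model. -/
structure Nse (G : Type u) [Group G] : Prop where
  card : Nat.card G = 10200960
  val : ∀ n, cnt G n ≠ 0 → cnt G n ∈ valSet
  att : ∀ v ∈ valSet, ∃ n, cnt G n = v

variable {G : Type u} [Group G] [Finite G]

theorem sum_cnt_le (S : Finset ℕ) : ∑ n ∈ S, cnt G n ≤ Nat.card G := by
  classical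
  haveI := Fintype.ofFinite G
  have e : ∀ n, cnt G n = ((Finset.univ : Finset G).filter fun g => orderOf g = n).card := fun n => by
    rw [cnt, Nat.card_eq_fintype_card, Fintype.card_subtype]
  simp only [e]
  rw [Nat.card_eq_fintype_card, ← Finset.card_univ, ← Finset.card_biUnion]
  · exact Finset.card_le_card (Finset.subset_univ _)
  · intro a _ b _ hab
    exact Finset.disjoint_left.2 fun g hg hg' =>
      hab ((Finset.mem_filter.1 hg).2.symm.trans (Finset.mem_filter.1 hg').2)

/-- Values missed by a set of orders still count. -/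
theorem le_total (S W : Finset ℕ) (hW : ∀ v ∈ W, ∃ n, cnt G n = v)
    (hne : ∀ v ∈ W, ∀ s ∈ S, cnt G s ≠ v) : ∑ n ∈ S, cnt G n + ∑ v ∈ W, v ≤ Nat.card G := by
  classical
  choose! f hf using hW
  have hinj : Set.InjOn f W := fun a ha b hb e => by rw [← hf a ha, e, hf b hb]
  have hd : Disjoint S (W.image f) := Finset.disjoint_right.2 fun d hd hdS => by
    obtain ⟨v, hv, rfl⟩ := Finset.mem_image.1 hd
    exact hne v hv _ hdS (hf v hv)
  calc ∑ n ∈ S, cnt G n + ∑ v ∈ W, v = ∑ n ∈ S, cnt G n + ∑ n ∈ W.image f, cnt G n := by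
        rw [Finset.sum_image hinj]
        congr 1
        exact Finset.sum_congr rfl fun v hv => (hf v hv).symm
    _ = ∑ n ∈ S ∪ W.image f, cnt G n := (Finset.sum_union hd).symm
    _ ≤ _ := sum_cnt_le _

/-- The elements of order `m` commuting with `y`, as elements of its centraliser. -/
theorem cnt_centralizer (y : G) (m : ℕ) : cnt ↥(centralizer ({y} : Set G)) m =
    Nat.card {g : G // orderOf g = m ∧ g * y = y * g} :=
  Nat.card_congr
    { toFun := fun g => ⟨g.1.1, by rw [Subgroup.orderOf_coe]; exact g.2, mem_centralizer_singleton_iff.1 g.1.2⟩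
      invFun := fun g => ⟨⟨g.1, mem_centralizer_singleton_iff.2 g.2.2⟩, by rw [← Subgroup.orderOf_coe]; exact g.2.1⟩
      left_inv := fun _ => rfl
      right_inv := fun _ => rfl }

theorem cnt_mod_fixed {p : ℕ} [Fact p.Prime] {y : G} (hy : orderOf y = p) (m : ℕ) :
    cnt G m % p = cnt ↥(centralizer ({y} : Set G)) m % p := by
  rw [cnt_centralizer]
  exact CfsgLib.M12Nse.card_modEq_fixed (p := p) (n := 1) (by rw [pow_one, ← hy, pow_orderOf_eq_one]) _
    fun g => by
      show orderOf g = m ↔ orderOf (y * g * y⁻¹) = m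
      rw [show orderOf (y * g * y⁻¹) = orderOf g from (MulAut.conj y).orderOf_eq g]

namespace Nse

variable (h : Nse G)
include h

theorem dvd {m : ℕ} (hm : cnt G m ≠ 0) : m ∣ 10200960 := h.card ▸ CfsgLib.Nse.dvd_of_cnt hm

theorem le_max (m : ℕ) : cnt G m ≤ 1854720 := by
  by_cases hm : cnt G m = 0
  · omega
  · have := h.val m hm
    simp only [valSet, Finset.mem_insert, Finset.mem_singleton] at this
    omega

/-- The count at a prime is the only value satisfying Frobenius' congruence. -/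
theorem cnt_prime {p : ℕ} [hp : Fact p.Prime] (hd : p ∣ 10200960) :
    cnt G p ∈ valSet.filter fun v => (v + 1) % p = 0 := by
  have h0 : cnt G p ≠ 0 := cnt_pos_iff.2 (exists_prime_orderOf_dvd_card' p (h.card.symm ▸ hd))
  refine Finset.mem_filter.2 ⟨h.val p h0, Nat.mod_eq_zero_of_dvd ?_⟩
  have hf := CfsgLib.Nse.frob (G := G) (n := p) (h.card.symm ▸ hd)
  rwa [hp.out.divisors, Finset.sum_pair hp.out.one_lt.ne, cnt_one, add_comm] at hf

theorem c3 : cnt G 3 = 56672 := by
  haveI : Fact (Nat.Prime 3) := ⟨by norm_num⟩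
  have := h.cnt_prime (p := 3) (by norm_num)
  have h2 := two_dvd_cnt (G := G) (m := 3) (by norm_num)
  simp [valSet] at this
  omega

theorem c5 : cnt G 5 = 680064 := by
  haveI : Fact (Nat.Prime 5) := ⟨by norm_num⟩
  have := h.cnt_prime (p := 5) (by norm_num)
  have h2 := totient_dvd_cnt (G := G) (m := 5) (by norm_num)
  rw [Nat.totient_prime Fact.out] at h2
  simp [valSet] at this
  omega

theorem c7 : cnt G 7 = 1457280 := by
  haveI : Fact (Nat.Prime 7) := ⟨by norm_num⟩
  have := h.cnt_prime (p := 7) (by norm_num)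
  have h2 := totient_dvd_cnt (G := G) (m := 7) (by norm_num)
  rw [Nat.totient_prime Fact.out] at h2
  simp [valSet] at this
  omega

theorem c11 : cnt G 11 = 1854720 := by
  haveI : Fact (Nat.Prime 11) := ⟨by norm_num⟩
  have := h.cnt_prime (p := 11) (by norm_num)
  have h2 := totient_dvd_cnt (G := G) (m := 11) (by norm_num)
  rw [Nat.totient_prime Fact.out] at h2
  simp [valSet] at this
  omega

theorem c23 : cnt G 23 = 887040 := by
  haveI : Fact (Nat.Prime 23) := ⟨by norm_num⟩
  have := h.cnt_prime (p := 23) (by norm_num)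
  have h2 := totient_dvd_cnt (G := G) (m := 23) (by norm_num)
  rw [Nat.totient_prime Fact.out] at h2
  simp [valSet] at this
  omega

theorem c2 : cnt G 2 = 3795 := by
  haveI : Fact (Nat.Prime 2) := ⟨Nat.prime_two⟩
  have := h.cnt_prime (p := 2) (by norm_num)
  simp [valSet] at this
  by_contra hne
  have h1 : cnt G 2 = 1 := by omega
  obtain ⟨z, hz⟩ := cnt_pos_iff.1 (show cnt G 2 ≠ 0 by omega)
  have hu : ∀ g : G, orderOf g = 2 → g = z := fun g hg => by
    have := (Nat.card_eq_one_iff_unique.1 h1).1.elim ⟨g, hg⟩ ⟨z, hz⟩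
    exact congrArg Subtype.val this
  have hzc : z ∈ center G := mem_center_iff.2 fun g => by
    have e := hu (g * z * g⁻¹) (((MulAut.conj g).orderOf_eq z).trans hz)
    exact mul_inv_eq_iff_eq_mul.1 e
  have m := fun k (hk : Odd k) => cnt_two_mul hzc hz hu (m := k) hk
  have t := le_total (G := G) {1, 2, 3, 5, 6, 7, 10, 11, 14, 22, 23, 46} {318780, 850080, 1275120}
    (fun v hv => h.att v (by fin_cases hv <;> simp [valSet]))
    (fun v hv s hs => by
      fin_cases hs <;> fin_cases hv <;>
        simp [cnt_one, h1, h.c3, h.c5, h.c7, h.c11, h.c23, show cnt G 6 = cnt G 3 from m 3 (by decide),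
          show cnt G 10 = cnt G 5 from m 5 (by decide), show cnt G 14 = cnt G 7 from m 7 (by decide),
          show cnt G 22 = cnt G 11 from m 11 (by decide), show cnt G 46 = cnt G 23 from m 23 (by decide)])
  simp [cnt_one, h1, h.c3, h.c5, h.c7, h.c11, h.c23, h.card, show cnt G 6 = cnt G 3 from m 3 (by decide),
    show cnt G 10 = cnt G 5 from m 5 (by decide), show cnt G 14 = cnt G 7 from m 7 (by decide),
    show cnt G 22 = cnt G 11 from m 11 (by decide), show cnt G 46 = cnt G 23 from m 23 (by decide)] at t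

theorem fac (p : ℕ) (e m : ℕ) (hp : p.Prime) (he : p ^ e * m = 10200960) (hm : ¬ p ∣ m) :
    (Nat.card G).factorization p = e := by
  rw [h.card, ← he, Nat.factorization_mul (pow_ne_zero _ hp.ne_zero) (fun e0 => hm (by rw [e0]; exact dvd_zero p)),
    Finsupp.add_apply, hp.factorization_pow, Finsupp.single_eq_same,
    Nat.factorization_eq_zero_of_not_dvd hm, add_zero]

/-- The order of the normaliser of a Sylow subgroup of prime order. -/
theorem card_norm {p N : ℕ} [hp : Fact p.Prime] (hk : (Nat.card G).factorization p = 1) {x : G}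
    (hx : orderOf x = p) {n : ℕ} (hn : cnt G p = n * (p - 1)) (hN : n * N = 10200960) :
    Nat.card (normalizer (zpowers x : Set G)) = N := by
  have h1 := CfsgLib.Nse.card_sylow_prime (G := G) hk
  let P : Sylow p G := Sylow.ofCard (zpowers x) (by rw [Nat.card_zpowers, hx, hk, pow_one])
  have h2 : Nat.card (Sylow p G) = (normalizer (zpowers x : Set G)).index := P.card_eq_index_normalizer
  have hp1 : 0 < p - 1 := by have := hp.out.two_le; omega
  have h3 : Nat.card (Sylow p G) = n := Nat.eq_of_mul_eq_mul_right hp1 (h1.symm.trans hn)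
  have h4 := (normalizer (zpowers x : Set G)).index_mul_card
  rw [h.card, ← h2, h3, ← hN] at h4
  exact Nat.eq_of_mul_eq_mul_left (Nat.pos_of_ne_zero fun e => by simp [e] at hN) h4

theorem norm5 {x : G} (hx : orderOf x = 5) : Nat.card (normalizer (zpowers x : Set G)) = 60 := by
  haveI : Fact (Nat.Prime 5) := ⟨by norm_num⟩
  exact h.card_norm (h.fac 5 1 2040192 Fact.out (by norm_num) (by norm_num)) hx (n := 170016)
    (by rw [h.c5]) (by norm_num)

theorem norm7 {x : G} (hx : orderOf x = 7) : Nat.card (normalizer (zpowers x : Set G)) = 42 := by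
  haveI : Fact (Nat.Prime 7) := ⟨by norm_num⟩
  exact h.card_norm (h.fac 7 1 1457280 Fact.out (by norm_num) (by norm_num)) hx (n := 242880)
    (by rw [h.c7]) (by norm_num)

theorem norm11 {x : G} (hx : orderOf x = 11) : Nat.card (normalizer (zpowers x : Set G)) = 55 := by
  haveI : Fact (Nat.Prime 11) := ⟨by norm_num⟩
  exact h.card_norm (h.fac 11 1 927360 Fact.out (by norm_num) (by norm_num)) hx (n := 185472)
    (by rw [h.c11]) (by norm_num)

theorem norm23 {x : G} (hx : orderOf x = 23) : Nat.card (normalizer (zpowers x : Set G)) = 253 := by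
  haveI : Fact (Nat.Prime 23) := ⟨by norm_num⟩
  exact h.card_norm (h.fac 23 1 443520 Fact.out (by norm_num) (by norm_num)) hx (n := 40320)
    (by rw [h.c23]) (by norm_num)

theorem cent_dvd_norm {x : G} : Nat.card (centralizer ({x} : Set G)) ∣
    Nat.card (normalizer (zpowers x : Set G)) := by
  refine card_dvd_of_le ?_
  intro g hg
  refine centralizer_le_normalizer _ (mem_centralizer_iff.2 ?_)
  rintro _ ⟨n, rfl⟩
  exact ((show Commute g x from mem_centralizer_singleton_iff.1 hg).zpow_right n).eq.symm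

theorem self_dvd (x : G) : orderOf x ∣ Nat.card (centralizer ({x} : Set G)) :=
  Subgroup.orderOf_dvd_natCard _ (mem_centralizer_singleton_iff.2 rfl)

/-- A prime dividing a centraliser gives elements of the product order. -/
theorem mul_le {p q : ℕ} [hp : Fact p.Prime] [hq : Fact q.Prime] (hk : (Nat.card G).factorization p = 1)
    (hpq : p ≠ q) {x : G} (hx : orderOf x = p) (hd : q ∣ Nat.card (centralizer ({x} : Set G))) :
    cnt G p * (q - 1) ≤ 1854720 := by
  have h1 := CfsgLib.Nse.cnt_mul (G := G) hk ((Nat.coprime_primes hp.out hq.out).2 hpq) hx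
  have h2 : q - 1 ≤ cnt ↥(centralizer ({x} : Set G)) q := by
    have h3 := totient_dvd_cnt (G := ↥(centralizer ({x} : Set G))) (m := q) hq.out.pos
    rw [Nat.totient_prime hq.out] at h3
    exact Nat.le_of_dvd (Nat.pos_of_ne_zero (cnt_pos_iff.2 (exists_prime_orderOf_dvd_card' q hd))) h3
  exact (Nat.mul_le_mul_left _ h2).trans (h1 ▸ h.le_max _)

theorem cent23 {x : G} (hx : orderOf x = 23) : Nat.card (centralizer ({x} : Set G)) = 23 := by
  haveI : Fact (Nat.Prime 23) := ⟨by norm_num⟩
  haveI : Fact (Nat.Prime 11) := ⟨by norm_num⟩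
  have h1 := cent_dvd_norm h (x := x)
  rw [h.norm23 hx] at h1
  have h2 := hx ▸ self_dvd h x
  have h3 := fun hd => h.mul_le (p := 23) (q := 11) (h.fac 23 1 443520 Fact.out (by norm_num) (by norm_num))
    (by norm_num) hx hd
  rw [h.c23] at h3
  have hc : ∀ c : ℕ, c ∣ 253 → 23 ∣ c → ¬ 11 ∣ c → c = 23 := fun c hc => by
    have : c ∈ Nat.divisors 253 := Nat.mem_divisors.2 ⟨hc, by norm_num⟩
    rw [show Nat.divisors 253 = {1, 11, 23, 253} by decide +kernel] at this
    simp at this; omega
  exact hc _ h1 h2 fun hd => absurd (h3 hd) (by norm_num)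

theorem cent11 {x : G} (hx : orderOf x = 11) : Nat.card (centralizer ({x} : Set G)) = 11 := by
  haveI : Fact (Nat.Prime 11) := ⟨by norm_num⟩
  haveI : Fact (Nat.Prime 5) := ⟨by norm_num⟩
  have h1 := cent_dvd_norm h (x := x)
  rw [h.norm11 hx] at h1
  have h2 := hx ▸ self_dvd h x
  have h3 := fun hd => h.mul_le (p := 11) (q := 5) (h.fac 11 1 927360 Fact.out (by norm_num) (by norm_num))
    (by norm_num) hx hd
  rw [h.c11] at h3
  have hc : ∀ c : ℕ, c ∣ 55 → 11 ∣ c → ¬ 5 ∣ c → c = 11 := fun c hc => by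
    have : c ∈ Nat.divisors 55 := Nat.mem_divisors.2 ⟨hc, by norm_num⟩
    rw [show Nat.divisors 55 = {1, 5, 11, 55} by decide +kernel] at this
    simp at this; omega
  exact hc _ h1 h2 fun hd => absurd (h3 hd) (by norm_num)

theorem cent7 {x : G} (hx : orderOf x = 7) :
    Nat.card (centralizer ({x} : Set G)) = 14 ∧ cnt ↥(centralizer ({x} : Set G)) 2 = 1 := by
  haveI : Fact (Nat.Prime 7) := ⟨by norm_num⟩
  haveI : Fact (Nat.Prime 3) := ⟨by norm_num⟩
  haveI : Fact (Nat.Prime 2) := ⟨by norm_num⟩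
  have hk := h.fac 7 1 1457280 Fact.out (by norm_num) (by norm_num)
  have h1 := cent_dvd_norm h (x := x)
  rw [h.norm7 hx] at h1
  have h2 := hx ▸ self_dvd h x
  have h3 := fun hd => h.mul_le (p := 7) (q := 3) hk (by norm_num) hx hd
  have h4 := cnt_mod_fixed hx 2
  have h5 := CfsgLib.Nse.cnt_mul (G := G) hk (m := 2) (by norm_num) hx
  have h6 := h.le_max (7 * 2)
  rw [h5, h.c7] at h6
  rw [h.c7] at h3
  rw [h.c2] at h4
  have h7 : 2 ∣ Nat.card (centralizer ({x} : Set G)) := by
    obtain ⟨g, hg⟩ := cnt_pos_iff.1 (show cnt ↥(centralizer ({x} : Set G)) 2 ≠ 0 by omega)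
    exact hg ▸ orderOf_dvd_natCard g
  have hc : ∀ c : ℕ, c ∣ 42 → 7 ∣ c → ¬ 3 ∣ c → 2 ∣ c → c = 14 := fun c hc => by
    have : c ∈ Nat.divisors 42 := Nat.mem_divisors.2 ⟨hc, by norm_num⟩
    rw [show Nat.divisors 42 = {1, 2, 3, 6, 7, 14, 21, 42} by decide +kernel] at this
    simp at this; omega
  exact ⟨hc _ h1 h2 (fun hd => absurd (h3 hd) (by norm_num)) h7, by omega⟩

theorem cent5 {x : G} (hx : orderOf x = 5) :
    Nat.card (centralizer ({x} : Set G)) = 15 ∧ cnt ↥(centralizer ({x} : Set G)) 3 = 2 := by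
  haveI : Fact (Nat.Prime 5) := ⟨by norm_num⟩
  haveI : Fact (Nat.Prime 3) := ⟨by norm_num⟩
  haveI : Fact (Nat.Prime 2) := ⟨by norm_num⟩
  have hk := h.fac 5 1 2040192 Fact.out (by norm_num) (by norm_num)
  have h1 := cent_dvd_norm h (x := x)
  rw [h.norm5 hx] at h1
  have h2 := hx ▸ self_dvd h x
  have a1 := cnt_mod_fixed hx 2
  have a2 := CfsgLib.Nse.cnt_mul (G := G) hk (m := 2) (by norm_num) hx
  have a3 := h.le_max (5 * 2)
  rw [a2, h.c5] at a3
  rw [h.c2] at a1
  have b1 := cnt_mod_fixed hx 3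
  have b2 := CfsgLib.Nse.cnt_mul (G := G) hk (m := 3) (by norm_num) hx
  have b3 := h.le_max (5 * 3)
  rw [b2, h.c5] at b3
  rw [h.c3] at b1
  have hodd : ¬ 2 ∣ Nat.card (centralizer ({x} : Set G)) := fun hd => by
    have := cnt_pos_iff.2 (exists_prime_orderOf_dvd_card' 2 hd)
    omega
  have h3 : 3 ∣ Nat.card (centralizer ({x} : Set G)) := by
    obtain ⟨g, hg⟩ := cnt_pos_iff.1 (show cnt ↥(centralizer ({x} : Set G)) 3 ≠ 0 by omega)
    exact hg ▸ orderOf_dvd_natCard g
  have hc : ∀ c : ℕ, c ∣ 60 → 5 ∣ c → 3 ∣ c → ¬ 2 ∣ c → c = 15 := fun c hc => by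
    have : c ∈ Nat.divisors 60 := Nat.mem_divisors.2 ⟨hc, by norm_num⟩
    rw [show Nat.divisors 60 = {1, 2, 3, 4, 5, 6, 10, 12, 15, 20, 30, 60} by decide +kernel] at this
    simp at this; omega
  exact ⟨hc _ h1 h2 h3 hodd, by omega⟩

theorem c14 : cnt G 14 = 1457280 := by
  haveI : Fact (Nat.Prime 7) := ⟨by norm_num⟩
  obtain ⟨x, hx⟩ := cnt_pos_iff.1 (show cnt G 7 ≠ 0 by rw [h.c7]; norm_num)
  have e := CfsgLib.Nse.cnt_mul (G := G) (h.fac 7 1 1457280 Fact.out (by norm_num) (by norm_num))
    (m := 2) (by norm_num) hx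
  rw [(h.cent7 hx).2, h.c7] at e
  exact e

theorem c15 : cnt G 15 = 1360128 := by
  haveI : Fact (Nat.Prime 5) := ⟨by norm_num⟩
  obtain ⟨x, hx⟩ := cnt_pos_iff.1 (show cnt G 5 ≠ 0 by rw [h.c5]; norm_num)
  have e := CfsgLib.Nse.cnt_mul (G := G) (h.fac 5 1 2040192 Fact.out (by norm_num) (by norm_num))
    (m := 3) (by norm_num) hx
  rw [(h.cent5 hx).2, h.c5] at e
  exact e

theorem known_ne {s v : ℕ} (hs : s ∈ ({1, 2, 3, 5, 7, 11, 14, 15, 23} : Finset ℕ)) (hv : v ∈ restSet) :
    cnt G s ≠ v := by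
  fin_cases hs <;> fin_cases hv <;>
    simp [cnt_one, h.c2, h.c3, h.c5, h.c7, h.c11, h.c14, h.c15, h.c23]

theorem sum_known : ∑ n ∈ ({1, 2, 3, 5, 7, 11, 14, 15, 23} : Finset ℕ), cnt G n + ∑ v ∈ restSet, v =
    10200960 := by
  simp [restSet, cnt_one, h.c2, h.c3, h.c5, h.c7, h.c11, h.c14, h.c15, h.c23]

theorem rest_mem {n : ℕ} (hn : n ∉ ({1, 2, 3, 5, 7, 11, 14, 15, 23} : Finset ℕ)) (h0 : cnt G n ≠ 0) :
    cnt G n ∈ restSet := by
  by_contra hne
  have t := le_total (G := G) (insert n {1, 2, 3, 5, 7, 11, 14, 15, 23}) restSet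
    (fun v hv => h.att v (by fin_cases hv <;> simp [valSet]))
    (fun v hv s hs => by
      rcases Finset.mem_insert.1 hs with rfl | hs
      · exact fun e => hne (e ▸ hv)
      · exact h.known_ne hs hv)
  rw [Finset.sum_insert hn, h.card] at t
  have := h.sum_known
  omega

/-- Outside the known orders each value is taken once. -/
theorem rest_inj {n m : ℕ} (hn : n ∉ ({1, 2, 3, 5, 7, 11, 14, 15, 23} : Finset ℕ))
    (hm : m ∉ ({1, 2, 3, 5, 7, 11, 14, 15, 23} : Finset ℕ)) (h0 : cnt G n ≠ 0)
    (e : cnt G n = cnt G m) : n = m := by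
  by_contra hne
  have hv := h.rest_mem hn h0
  have t := le_total (G := G) (insert n (insert m {1, 2, 3, 5, 7, 11, 14, 15, 23})) (restSet.erase (cnt G n))
    (fun v hv => h.att v (by
      have := Finset.mem_of_mem_erase hv
      fin_cases this <;> simp [valSet]))
    (fun v hv s hs => by
      obtain ⟨hv1, hv2⟩ := Finset.mem_erase.1 hv
      rcases Finset.mem_insert.1 hs with rfl | hs
      · exact fun e => hv1 e.symm
      rcases Finset.mem_insert.1 hs with rfl | hs
      · exact fun e' => hv1 (e.trans e').symm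
      · exact h.known_ne hs hv2)
  rw [Finset.sum_insert (by simp only [Finset.mem_insert, not_or]; exact ⟨hne, by simpa using hn⟩),
    Finset.sum_insert hm, ← e, h.card] at t
  have := h.sum_known
  rw [← Finset.add_sum_erase _ _ hv] at this
  omega

end Nse

end CfsgLib.M23Nse
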