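import Cfsg.Agent.M23Nse.Core
import Cfsg.Agent.SmallSimple.SixThousand.Auto

/-!
# The elementary abelian group of order sixteen attached to an involution
-/

set_option autoImplicit false
set_option linter.style.haveILetI false
set_option linter.unusedSectionVars false

namespace CfsgLib.M23Nse.Local

open Subgroup CfsgLib.ThreeCounts
open CfsgLib.M12Nse (cz mem_cz card_modEq_fixed)

universe u

variable {G : Type u} [Group G] [Finite G] (L : Local G) {z : G} (hz : orderOf z = 2)
include L hz

/-- The involution inside its centraliser. -/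
def zc (_ : Local G) (_ : orderOf z = 2) : cz z := ⟨z, mem_centralizer_singleton_iff.2 rfl⟩

theorem orderOf_zc : orderOf (L.zc hz) = 2 := by rw [← Subgroup.orderOf_coe]; exact hz

theorem zc_central (g : cz z) : Commute g (L.zc hz) :=
  Subtype.ext (mem_centralizer_singleton_iff.1 g.2)

/-- The intersection of the conjugates of a Sylow two-subgroup. -/
noncomputable def core (_ : Local G) (_ : orderOf z = 2) : Subgroup (cz z) :=
  ((default : Sylow 2 (cz z)) : Subgroup (cz z)).normalCore

instance core_normal : (L.core hz).Normal := normalCore_normal _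

theorem le_core {M : Subgroup (cz z)} [M.Normal] {k : ℕ} (hk : Nat.card M = 2 ^ k) : M ≤ L.core hz := by
  haveI : Fact (Nat.Prime 2) := ⟨by norm_num⟩
  rw [core, normal_le_normalCore]
  obtain ⟨S, hS⟩ := (IsPGroup.of_card hk).exists_le_sylow
  obtain ⟨g, hg⟩ := MulAction.exists_smul_eq (cz z) S (default : Sylow 2 (cz z))
  intro m hm
  rw [← hg]
  refine ⟨g⁻¹ * m * g, hS ?_, ?_⟩
  · simpa using (inferInstance : M.Normal).conj_mem m hm g⁻¹
  · show g * (g⁻¹ * m * g) * g⁻¹ = m
    group

theorem zc_mem : L.zc hz ∈ L.core hz := by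
  haveI : (zpowers (L.zc hz)).Normal := ⟨fun m hm g => by
    obtain ⟨n, rfl⟩ := mem_zpowers_iff.1 hm
    rw [mul_inv_eq_iff_eq_mul.2 ((L.zc_central hz g).zpow_right n).eq]
    exact zpow_mem (mem_zpowers _) n⟩
  exact L.le_core hz (k := 1) (by rw [Nat.card_zpowers, L.orderOf_zc hz]; norm_num) (mem_zpowers _)

theorem core_two_pow : ∃ k ≤ 7, Nat.card (L.core hz) = 2 ^ k := by
  haveI : Fact (Nat.Prime 2) := ⟨by norm_num⟩
  have h1 : Nat.card (L.core hz) ∣ Nat.card ((default : Sylow 2 (cz z)) : Subgroup (cz z)) :=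
    card_dvd_of_le (normalCore_le _)
  rw [(default : Sylow 2 (cz z)).card_eq_multiplicity,
    L.factorization_inv hz (p := 2) (e := 7) (m := 21) Fact.out (by norm_num) (by norm_num)] at h1
  exact (Nat.dvd_prime_pow Nat.prime_two).1 h1

/-- Only the core lies above it, apart from the whole centraliser. -/
theorem above_core {K : Subgroup (cz z)} [K.Normal] (hK : L.core hz ≤ K) : K = L.core hz ∨ K = ⊤ := by
  rcases L.normal_cases hz K (hK (L.zc_mem hz)) with ⟨k, hk⟩ | h
  · exact Or.inl (le_antisymm (L.le_core hz hk) hK)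
  · exact Or.inr h

theorem core_seven_mod : Nat.card (L.core hz) % 7 = 2 := by
  haveI : Fact (Nat.Prime 7) := ⟨by norm_num⟩
  obtain ⟨p, hp⟩ := exists_prime_orderOf_dvd_card' (G := ↥(cz z)) 7 (by rw [L.inv_card z hz]; norm_num)
  have h := card_modEq_fixed (p := 7) (n := 1) (x := p) (by rw [pow_one, ← hp, pow_orderOf_eq_one])
    (· ∈ L.core hz) (fun g => ⟨fun hg => (L.core_normal hz).conj_mem g hg p, fun hg => by
      simpa [mul_assoc] using (L.core_normal hz).conj_mem _ hg p⁻¹⟩)
  obtain ⟨k, -, hk⟩ := L.core_two_pow hz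
  have e : Nat.card {g : cz z // g ∈ L.core hz ∧ g * p = p * g} = 2 := by
    have hpG : orderOf (p : G) = 7 := by rw [Subgroup.orderOf_coe]; exact hp
    have key : ∀ g : cz z, g ∈ L.core hz → g * p = p * g → g = 1 ∨ g = L.zc hz := by
      intro g hg hgp
      have h2 : g ^ 2 ^ k = 1 := orderOf_dvd_iff_pow_eq_one.1 (hk ▸ Subgroup.orderOf_dvd_natCard _ hg)
      rcases L.two_elt_commute_seven hz hpG (mem_centralizer_singleton_iff.1 p.2)
        (g := (g : G)) (congrArg Subtype.val hgp) (k := k) (by rw [← SubgroupClass.coe_pow, h2]; rfl) with e | e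
      · exact Or.inl (Subtype.ext e)
      · exact Or.inr (Subtype.ext e)
    have hne : (1 : cz z) ≠ L.zc hz := fun e => by
      have := L.orderOf_zc hz; rw [← e, orderOf_one] at this; norm_num at this
    rw [← Set.ncard_pair hne, ← Nat.card_coe_set_eq]
    exact Nat.card_congr
      { toFun := fun g => ⟨g.1, key g.1 g.2.1 g.2.2⟩
        invFun := fun g => ⟨g.1, by
          rcases g.2 with e | (e : g.1 = L.zc hz) <;> rw [e]
          · exact ⟨one_mem _, by simp⟩
          · exact ⟨L.zc_mem hz, (L.zc_central hz p).eq.symm⟩⟩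
        left_inv := fun _ => rfl
        right_inv := fun _ => rfl }
  rw [e] at h
  exact h

theorem core_card : Nat.card (L.core hz) = 16 := by
  haveI : Fact (Nat.Prime 2) := ⟨by norm_num⟩
  obtain ⟨k, hk7, hk⟩ := L.core_two_pow hz
  have h7 := L.core_seven_mod hz
  rw [hk] at h7 ⊢
  have h128 : k ≠ 7 := fun e => L.no_normal_sylow hz (L.core hz) (by rw [hk, e]; norm_num)
  have h1 : k ≠ 1 := by
    intro e
    haveI : Fact (Nat.Prime 7) := ⟨by norm_num⟩
    have h2 : Nat.card (L.core hz) = 2 := by rw [hk, e]; norm_num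
    have hq : Nat.card (cz z ⧸ L.core hz) = 1344 := by
      have h3 := (L.core hz).index_mul_card
      rw [h2, L.inv_card z hz, index_eq_card] at h3
      omega
    haveI : Nontrivial (cz z ⧸ L.core hz) := Finite.one_lt_card_iff_nontrivial.1 (by rw [hq]; norm_num)
    haveI hsimp : IsSimpleGroup (cz z ⧸ L.core hz) := by
      refine ⟨fun N hN => ?_⟩
      haveI : (N.comap (QuotientGroup.mk' (L.core hz))).Normal := hN.comap _
      have hle : L.core hz ≤ N.comap (QuotientGroup.mk' (L.core hz)) := fun g hg => by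
        rw [mem_comap, QuotientGroup.mk'_apply, (QuotientGroup.eq_one_iff g).2 hg]
        exact one_mem N
      rw [← map_comap_eq_self_of_surjective (QuotientGroup.mk'_surjective (L.core hz)) N]
      rcases L.above_core hz hle with h | h
      · exact Or.inl (by rw [h]; exact QuotientGroup.map_mk'_self _)
      · exact Or.inr (by rw [h]; exact map_top_of_surjective _ (QuotientGroup.mk'_surjective _))
    have hnc : ¬ IsMulCommutative (cz z ⧸ L.core hz) := by
      intro hc
      obtain ⟨g, hg⟩ := exists_prime_orderOf_dvd_card' (G := cz z ⧸ L.core hz) 7 (by rw [hq]; norm_num)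
      haveI : (zpowers g).Normal := ⟨fun m hm t => by
        rw [mul_inv_eq_iff_eq_mul.2 (hc.is_comm.comm t m)]; exact hm⟩
      rcases hsimp.eq_bot_or_eq_top_of_normal (zpowers g) inferInstance with h | h
      · have := Nat.card_zpowers g
        rw [h, hg, card_bot] at this
        norm_num at this
      · have := Nat.card_zpowers g
        rw [h, hg, card_top, hq] at this
        norm_num at this
    have hmem := CfsgLib.SixThousand.mem_handled_of_autoB hnc hq (by norm_num) (by norm_num) (by decide +kernel)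
    revert hmem
    decide
  interval_cases k <;> omega

/-- An element of order seven fixes nothing outside the involution in the core. -/
theorem fixed_seven {p y : cz z} (hp : orderOf p = 7) (hy : y ∈ L.core hz) (hc : Commute y p) :
    y = 1 ∨ y = L.zc hz := by
  obtain ⟨k, -, hk⟩ := L.core_two_pow hz
  have h2 : y ^ 2 ^ k = 1 := orderOf_dvd_iff_pow_eq_one.1 (hk ▸ Subgroup.orderOf_dvd_natCard _ hy)
  rcases L.two_elt_commute_seven hz (show orderOf (p : G) = 7 by rw [Subgroup.orderOf_coe]; exact hp)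
    (mem_centralizer_singleton_iff.1 p.2) (g := (y : G)) (congrArg Subtype.val hc.eq) (k := k)
    (by rw [← SubgroupClass.coe_pow, h2]; rfl) with e | e
  · exact Or.inl (Subtype.ext e)
  · exact Or.inr (Subtype.ext e)

theorem exists_seven : ∃ p : cz z, orderOf p = 7 := by
  haveI : Fact (Nat.Prime 7) := ⟨by norm_num⟩
  exact exists_prime_orderOf_dvd_card' (G := ↥(cz z)) 7 (by rw [L.inv_card z hz]; norm_num)

/-- The fourteen elements outside `zpowers z` are conjugates of any one of them, up to `z`. -/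
theorem core_cover {p a y : cz z} (hp : orderOf p = 7) (ha : a ∈ L.core hz) (ha1 : a ≠ 1)
    (haz : a ≠ L.zc hz) (hy : y ∈ L.core hz) (hy1 : y ≠ 1) (hyz : y ≠ L.zc hz) :
    ∃ n : ℕ, y = p ^ n * a * (p ^ n)⁻¹ ∨ y = p ^ n * a * (p ^ n)⁻¹ * L.zc hz := by
  classical
  haveI := Fintype.ofFinite (cz z)
  set c := fun n : ℕ => p ^ n * a * (p ^ n)⁻¹
  have hzz : L.zc hz * L.zc hz = 1 := Subtype.ext (L.inv_mul_self hz)
  have hcore : ∀ n, c n ∈ L.core hz := fun n => (L.core_normal hz).conj_mem a ha _
  have hc1 : ∀ n, c n ≠ 1 := fun n e => ha1 (by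
    calc a = (p ^ n)⁻¹ * c n * p ^ n := by simp only [c]; group
      _ = 1 := by rw [e]; group)
  have hcz : ∀ n, c n ≠ L.zc hz := fun n e => haz (by
    calc a = (p ^ n)⁻¹ * c n * p ^ n := by simp only [c]; group
      _ = L.zc hz := by rw [e, (L.zc_central hz (p ^ n)⁻¹).eq, inv_mul_cancel_right])
  have key : ∀ i < 7, ∀ j < 7, (c i = c j ∨ c i = c j * L.zc hz) → i = j := by
    intro i hi j hj e
    by_contra hij
    set m : ℤ := (i : ℤ) - j with hm
    have h2 : p ^ m * a * (p ^ m)⁻¹ = a ∨ p ^ m * a * (p ^ m)⁻¹ = a * L.zc hz := by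
      have hsub : p ^ m * a * (p ^ m)⁻¹ = (p ^ j)⁻¹ * c i * p ^ j := by
        simp only [c, hm, ← zpow_natCast]; group
      rcases e with e | e
      · left; rw [hsub, e]; simp only [c]; group
      · right
        rw [hsub, e, mul_assoc, mul_assoc, ← (L.zc_central hz (p ^ j)).eq]
        simp only [c]; group
    have h3 : Commute a (p ^ (2 * m)) := by
      refine (mul_inv_eq_iff_eq_mul.1 ?_).symm
      rw [two_mul, zpow_add, show p ^ m * p ^ m * a * (p ^ m * p ^ m)⁻¹ = p ^ m * (p ^ m * a * (p ^ m)⁻¹) * (p ^ m)⁻¹ by group]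
      rcases h2 with e | e
      · rw [e, e]
      · rw [e, show p ^ m * (a * L.zc hz) * (p ^ m)⁻¹ = p ^ m * a * (L.zc hz * (p ^ m)⁻¹) by group,
          ← (L.zc_central hz (p ^ m)⁻¹).eq, ← mul_assoc, e, mul_assoc, hzz, mul_one]
    have hord : orderOf (p ^ (2 * m)) = 7 := by
      refine orderOf_eq_prime (by rw [← zpow_natCast, ← zpow_mul, mul_comm, zpow_mul, zpow_natCast, ← hp,
        pow_orderOf_eq_one, one_zpow]) fun e => ?_
      have := orderOf_dvd_iff_zpow_eq_one.2 e
      rw [hp] at this
      omega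
    rcases L.fixed_seven hz hord ha h3 with e | e
    · exact ha1 e
    · exact haz e
  let T : Finset (cz z) := (Finset.range 7).image c ∪ (Finset.range 7).image (fun n => c n * L.zc hz)
  let U : Finset (cz z) := Finset.univ.filter fun g => g ∈ L.core hz ∧ g ≠ 1 ∧ g ≠ L.zc hz
  have hinj : Set.InjOn c (Finset.range 7) := fun i hi j hj e =>
    key i (Finset.mem_range.1 hi) j (Finset.mem_range.1 hj) (Or.inl e)
  have hT : T.card = 14 := by
    rw [Finset.card_union_of_disjoint, Finset.card_image_of_injOn hinj,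
      Finset.card_image_of_injOn fun i hi j hj e => hinj hi hj (mul_right_cancel e), Finset.card_range]
    rw [Finset.disjoint_left]
    intro g hg hg'
    obtain ⟨i, hi, rfl⟩ := Finset.mem_image.1 hg
    obtain ⟨j, hj, e⟩ := Finset.mem_image.1 hg'
    obtain rfl := key i (Finset.mem_range.1 hi) j (Finset.mem_range.1 hj) (Or.inr e.symm)
    have hz1 := L.orderOf_zc hz
    rw [mul_eq_left.1 e, orderOf_one] at hz1
    norm_num at hz1
  have hsub : T ⊆ U := fun g hg => by
    refine Finset.mem_filter.2 ⟨Finset.mem_univ _, ?_⟩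
    rcases Finset.mem_union.1 hg with h | h <;> obtain ⟨n, -, rfl⟩ := Finset.mem_image.1 h
    · exact ⟨hcore n, hc1 n, hcz n⟩
    · refine ⟨mul_mem (hcore n) (L.zc_mem hz), fun e => hcz n ?_, fun e => hc1 n (mul_eq_right.1 e)⟩
      rw [eq_inv_of_mul_eq_one_left e]
      exact inv_eq_of_mul_eq_one_left hzz
  have hU : U.card ≤ 14 := by
    have hne : (1 : cz z) ≠ L.zc hz := fun e => by
      have := L.orderOf_zc hz; rw [← e, orderOf_one] at this; norm_num at this
    have h16 : (Finset.univ.filter fun g : cz z => g ∈ L.core hz).card = 16 := by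
      rw [← L.core_card hz, Nat.card_eq_fintype_card]
      exact (Fintype.card_subtype _).symm
    have hd : Disjoint U {1, L.zc hz} := by
      rw [Finset.disjoint_left]
      intro g hg hg'
      obtain ⟨-, -, h1, h2⟩ := Finset.mem_filter.1 hg
      simp only [Finset.mem_insert, Finset.mem_singleton] at hg'
      exact hg'.elim h1 h2
    have h3 : (U ∪ {1, L.zc hz}).card ≤ 16 := by
      rw [← h16]
      refine Finset.card_le_card fun g hg => Finset.mem_filter.2 ⟨Finset.mem_univ _, ?_⟩
      rcases Finset.mem_union.1 hg with h | h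
      · exact (Finset.mem_filter.1 h).2.1
      · simp only [Finset.mem_insert, Finset.mem_singleton] at h
        rcases h with rfl | rfl
        exacts [one_mem _, L.zc_mem hz]
    rw [Finset.card_union_of_disjoint hd, Finset.card_pair hne] at h3
    omega
  have hmem : y ∈ T := by
    rw [Finset.eq_of_subset_of_card_le hsub (hT ▸ hU)]
    exact Finset.mem_filter.2 ⟨Finset.mem_univ _, hy, hy1, hyz⟩
  rcases Finset.mem_union.1 hmem with h | h <;> obtain ⟨n, -, e⟩ := Finset.mem_image.1 h
  · exact ⟨n, Or.inl e.symm⟩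
  · exact ⟨n, Or.inr e.symm⟩

theorem core_sq {y : cz z} (hy : y ∈ L.core hz) : y * y = 1 := by
  classical
  obtain ⟨p, hp⟩ := L.exists_seven hz
  have hzz : L.zc hz * L.zc hz = 1 := Subtype.ext (L.inv_mul_self hz)
  by_contra hne
  have hyz : y ≠ L.zc hz := fun e => hne (e.symm ▸ hzz)
  have hy1 : y ≠ 1 := fun e => hne (by rw [e, mul_one])
  -- all squares outside the centre agree and equal the involution
  have hall : ∀ g ∈ L.core hz, g ≠ 1 → g ≠ L.zc hz → g * g ≠ 1 := by
    intro g hg hg1 hgz hgg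
    obtain ⟨n, e | e⟩ := L.core_cover hz hp hg hg1 hgz hy hy1 hyz
    · exact hne (by
        rw [e, show p ^ n * g * (p ^ n)⁻¹ * (p ^ n * g * (p ^ n)⁻¹) = p ^ n * (g * g) * (p ^ n)⁻¹ by group, hgg]
        group)
    · exact hne (by
        rw [e, mul_assoc, ← mul_assoc (L.zc hz), ← (L.zc_central hz _).eq, mul_assoc _ (L.zc hz), hzz, mul_one,
          show p ^ n * g * (p ^ n)⁻¹ * (p ^ n * g * (p ^ n)⁻¹) = p ^ n * (g * g) * (p ^ n)⁻¹ by group, hgg]
        group)
  have hconj : ∀ (t : cz z) (g : cz z), g * g = L.zc hz → t * g * t⁻¹ * (t * g * t⁻¹) = L.zc hz := by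
    intro t g hg
    rw [show t * g * t⁻¹ * (t * g * t⁻¹) = t * (g * g) * t⁻¹ by group, hg,
      mul_inv_eq_iff_eq_mul.2 (L.zc_central hz t).eq]
  have hconjz : ∀ (t : cz z) (g : cz z), g * g = L.zc hz →
      t * g * t⁻¹ * L.zc hz * (t * g * t⁻¹ * L.zc hz) = L.zc hz := by
    intro t g hg
    rw [mul_assoc, ← mul_assoc (L.zc hz), ← (L.zc_central hz _).eq, mul_assoc _ (L.zc hz), hzz, mul_one,
      hconj t g hg]
  have hsq : y * y = L.zc hz := by
    have ho : orderOf y ∣ 2 ^ 4 := by
      rw [show (2 : ℕ) ^ 4 = Nat.card (L.core hz) by rw [L.core_card hz]; norm_num]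
      exact Subgroup.orderOf_dvd_natCard _ hy
    obtain ⟨i, -, hi⟩ := (Nat.dvd_prime_pow Nat.prime_two).1 ho
    have hi2 : 2 ≤ i := by
      by_contra hlt
      apply hne
      rw [← pow_two, ← orderOf_dvd_iff_pow_eq_one, hi]
      exact (pow_dvd_pow 2 (show i ≤ 1 by omega)).trans (by norm_num)
    obtain ⟨j, rfl⟩ : ∃ j, i = j + 2 := ⟨i - 2, by omega⟩
    set a := y ^ 2 ^ j with ha
    have ha4 : orderOf a = 4 := by
      rw [ha, orderOf_pow' _ (pow_ne_zero _ two_ne_zero), hi, Nat.gcd_eq_right (pow_dvd_pow 2 (by omega)),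
        pow_add, Nat.mul_div_cancel_left _ (Nat.two_pow_pos j)]
      norm_num
    have ha2 : orderOf (a * a) = 2 := by
      rw [← pow_two, orderOf_pow' _ two_ne_zero, ha4]
      norm_num
    have hmem : a ∈ L.core hz := pow_mem hy _
    have haz : a ≠ L.zc hz := fun e => by rw [e, L.orderOf_zc hz] at ha4; norm_num at ha4
    have ha1 : a ≠ 1 := fun e => by rw [e, orderOf_one] at ha4; norm_num at ha4
    have haa : a * a = L.zc hz := by
      by_contra h2
      refine hall _ (mul_mem hmem hmem) (fun e => ?_) h2 ?_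
      · rw [e, orderOf_one] at ha2; norm_num at ha2
      · have := pow_orderOf_eq_one (a * a)
        rwa [ha2, pow_two] at this
    obtain ⟨n, e | e⟩ := L.core_cover hz hp hmem ha1 haz hy hy1 hyz
    · rw [e]; exact hconj _ a haa
    · rw [e]; exact hconjz _ a haa
  -- a unique involution in a group of order sixteen with elementary quotient
  have hclass : ∀ g ∈ L.core hz, g * g = 1 ∨ g * g = L.zc hz := by
    intro g hg
    rcases eq_or_ne g 1 with rfl | hg1
    · left; simp
    rcases eq_or_ne g (L.zc hz) with rfl | hgz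
    · left; exact hzz
    right
    obtain ⟨n, e | e⟩ := L.core_cover hz hp hy hy1 hyz hg hg1 hgz
    · rw [e, show p ^ n * y * (p ^ n)⁻¹ * (p ^ n * y * (p ^ n)⁻¹) = p ^ n * (y * y) * (p ^ n)⁻¹ by group, hsq,
        mul_inv_eq_iff_eq_mul.2 (L.zc_central hz (p ^ n)).eq]
    · rw [e, mul_assoc, ← mul_assoc (L.zc hz), ← (L.zc_central hz _).eq, mul_assoc _ (L.zc hz), hzz, mul_one,
        show p ^ n * y * (p ^ n)⁻¹ * (p ^ n * y * (p ^ n)⁻¹) = p ^ n * (y * y) * (p ^ n)⁻¹ by group, hsq,
        mul_inv_eq_iff_eq_mul.2 (L.zc_central hz (p ^ n)).eq]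
  have hcomm : ∀ g ∈ L.core hz, g * y * g⁻¹ = y ∨ g * y * g⁻¹ = y * L.zc hz := by
    intro g hg
    have hinvy : y⁻¹ = y * L.zc hz := inv_eq_of_mul_eq_one_right (by rw [← mul_assoc, hsq, hzz])
    rcases hclass (g * y) (mul_mem hg hy) with e | e
    · -- the product is an involution of the core, hence central
      have hgy : g * y = 1 ∨ g * y = L.zc hz := by
        by_contra hc
        push Not at hc
        exact hall _ (mul_mem hg hy) hc.1 hc.2 e
      rcases hgy with e' | e'
      · left; rw [eq_inv_of_mul_eq_one_left e']; group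
      · left
        rw [show g = L.zc hz * y⁻¹ from eq_mul_inv_of_mul_eq e',
          show L.zc hz * y⁻¹ * y * (L.zc hz * y⁻¹)⁻¹ = L.zc hz * y * (L.zc hz)⁻¹ by group,
          mul_inv_eq_iff_eq_mul.2 (L.zc_central hz y).symm.eq]
    · rcases hclass g hg with eg | eg
      · have hg2 : g = 1 ∨ g = L.zc hz := by
          by_contra hc
          push Not at hc
          exact hall g hg hc.1 hc.2 eg
        rcases hg2 with rfl | rfl
        · left; group
        · left; exact mul_inv_eq_iff_eq_mul.2 (L.zc_central hz y).symm.eq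
      · right
        have hginv : g⁻¹ = g * L.zc hz := inv_eq_of_mul_eq_one_right (by rw [← mul_assoc, eg, hzz])
        rw [hginv, ← mul_assoc, mul_assoc g y g,
          show g * (y * g) = g * y * (g * y) * y⁻¹ by group, e, hinvy, mul_assoc, mul_assoc,
          hzz, mul_one, (L.zc_central hz y).eq]
  have hcard : Nat.card ↥(L.core hz ⊓ cz y) ≤ 4 := by
    have hsub : ∀ g ∈ L.core hz ⊓ cz y, g ∈ ({1, L.zc hz, y, y * L.zc hz} : Finset (cz z)) := by
      intro g hg
      obtain ⟨hg, hgy⟩ := hg
      have hgy' : Commute g y := mem_cz.1 hgy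
      by_contra hn
      simp only [Finset.mem_insert, Finset.mem_singleton, not_or] at hn
      obtain ⟨h1, h2, h3, h4⟩ := hn
      have e1 : g * g = L.zc hz := (hclass g hg).resolve_left (hall g hg h1 h2)
      have e2 : g * y * (g * y) = 1 := by
        rw [mul_assoc, ← mul_assoc y, ← hgy'.eq, mul_assoc g y, ← mul_assoc g g, e1, hsq, hzz]
      rcases eq_or_ne (g * y) (L.zc hz) with e3 | e3
      · refine h3 ?_
        rw [show g = L.zc hz * y⁻¹ from eq_mul_inv_of_mul_eq e3,
          inv_eq_of_mul_eq_one_right (show y * (y * L.zc hz) = 1 by rw [← mul_assoc, hsq, hzz]),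
          ← (L.zc_central hz _).eq, mul_assoc, hzz, mul_one]
      · refine hall _ (mul_mem hg hy) (fun e => h4 ?_) e3 e2
        rw [eq_inv_of_mul_eq_one_left e]
        exact inv_eq_of_mul_eq_one_right (by rw [← mul_assoc, hsq, hzz])
    refine (Nat.card_le_card_of_injective (fun g => (⟨g.1, hsub g.1 g.2⟩ : ({1, L.zc hz, y, y * L.zc hz} : Finset (cz z))))
      fun a b e => Subtype.ext (congrArg (fun t : ({1, L.zc hz, y, y * L.zc hz} : Finset (cz z)) => t.1) e)).trans ?_
    rw [Nat.card_eq_finsetCard]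
    exact Finset.card_le_four
  let y' : L.core hz := ⟨y, hy⟩
  have h1 : Nat.card {x : L.core hz // IsConj y' x} = (cz y').index := CfsgLib.M12Nse.card_conj y'
  have h2 : Nat.card {x : L.core hz // IsConj y' x} ≤ 2 := by
    have hsub : ∀ x : L.core hz, IsConj y' x → (x : cz z) ∈ ({y, y * L.zc hz} : Finset (cz z)) := by
      intro x hx
      obtain ⟨g, rfl⟩ := isConj_iff.1 hx
      rw [Finset.mem_insert, Finset.mem_singleton]
      exact hcomm (g : cz z) g.2
    refine (Nat.card_le_card_of_injective (fun x => (⟨x.1.1, hsub x.1 x.2⟩ : ({y, y * L.zc hz} : Finset (cz z))))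
      fun a b e => Subtype.ext (Subtype.ext (congrArg (fun t : ({y, y * L.zc hz} : Finset (cz z)) => t.1) e))).trans ?_
    rw [Nat.card_eq_finsetCard]
    exact Finset.card_le_two
  have h3 : Nat.card (cz y') ≤ 4 := by
    refine le_trans (le_of_eq ?_) hcard
    exact Nat.card_congr
      { toFun := fun g => ⟨g.1.1, g.1.2, mem_cz.2 (congrArg Subtype.val (mem_cz.1 g.2))⟩
        invFun := fun g => ⟨⟨g.1, g.2.1⟩, mem_cz.2 (Subtype.ext (mem_cz.1 g.2.2))⟩
        left_inv := fun _ => rfl
        right_inv := fun _ => rfl }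
  have h4 := (cz y').index_mul_card
  rw [L.core_card hz, ← h1] at h4
  have := Nat.mul_le_mul h2 h3
  omega

theorem cent_core {g : cz z} (hg : ∀ y ∈ L.core hz, Commute g y) : g ∈ L.core hz := by
  let K : Subgroup (cz z) := centralizer (L.core hz : Set (cz z))
  haveI hKn : K.Normal := inferInstance
  have hle : L.core hz ≤ K := fun a ha => mem_centralizer_iff.2 fun b hb => by
    have hab := L.core_sq hz (mul_mem hb ha)
    calc b * a = (b * a)⁻¹ := (inv_eq_of_mul_eq_one_left hab).symm
      _ = a⁻¹ * b⁻¹ := mul_inv_rev _ _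
      _ = a * b := by
        rw [inv_eq_of_mul_eq_one_left (L.core_sq hz ha), inv_eq_of_mul_eq_one_left (L.core_sq hz hb)]
  have hgK : g ∈ K := mem_centralizer_iff.2 fun b hb => (hg b hb).eq.symm
  rcases L.above_core hz hle with h | h
  · exact h ▸ hgK
  · exfalso
    obtain ⟨p, hp⟩ := L.exists_seven hz
    have key : ∀ y ∈ L.core hz, y = 1 ∨ y = L.zc hz := fun y hy =>
      L.fixed_seven hz hp hy (mem_centralizer_iff.1 (h ▸ mem_top p : p ∈ K) y hy)
    classical
    have : Nat.card (L.core hz) ≤ ({1, L.zc hz} : Finset (cz z)).card := by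
      rw [← Nat.card_eq_finsetCard]
      exact Nat.card_le_card_of_injective (fun y => ⟨y.1, by
        rcases key y.1 y.2 with e | e <;> simp [e]⟩) fun a b e => Subtype.ext (congrArg (fun t : ({1, L.zc hz} : Finset (cz z)) => t.1) e)
    rw [L.core_card hz] at this
    have := this.trans Finset.card_le_two
    omega

end CfsgLib.M23Nse.Local
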