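import Cfsg.Agent.M23Nse.Kernel

/-!
# The fixed points of an element of order three in the group of order sixteen
-/

set_option autoImplicit false
set_option linter.style.haveILetI false
set_option linter.unusedSectionVars false

namespace CfsgLib.M23Nse.Local

open Subgroup CfsgLib.ThreeCounts
open CfsgLib.M12Nse (cz mem_cz)

universe u

variable {G : Type u} [Group G] [Finite G] (L : Local G) {z x : G} (hz : orderOf z = 2)
  (hx : orderOf x = 3) (hc : Commute x z)
include L hz hx hc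

theorem inv_ne : x⁻¹ ≠ x := fun e => by
  have h3 : x ^ 2 = 1 := by rw [pow_two]; exact inv_eq_iff_mul_eq_one.1 e
  have := orderOf_dvd_of_pow_eq_one h3
  rw [hx] at this; norm_num at this

theorem card_fix : Nat.card ↥(kerGroup z ⊓ cz x) = 4 := by
  haveI : Fact (Nat.Prime 3) := ⟨by norm_num⟩
  have h := CfsgLib.M12Nse.card_modEq_fixed (p := 3) (n := 1) (x := x)
    (by rw [pow_one, ← hx, pow_orderOf_eq_one]) (· ∈ kerGroup z)
    (fun g => ⟨fun hg => L.ker_normal hz hc hg, fun hg => by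
      simpa [mul_assoc] using L.ker_normal hz hc.inv_left hg⟩)
  have e : Nat.card {g : G // g ∈ kerGroup z ∧ g * x = x * g} = Nat.card ↥(kerGroup z ⊓ cz x) :=
    Nat.card_congr (Equiv.subtypeEquivRight fun g => and_congr Iff.rfl mem_cz.symm)
  rw [e] at h
  change Nat.card (kerGroup z) % 3 = _ % 3 at h
  rw [L.ker_card hz] at h
  have hd : Nat.card ↥(kerGroup z ⊓ cz x) ∣ 2 ^ 4 :=
    (card_dvd_of_le inf_le_left).trans (dvd_of_eq (L.ker_card hz))
  have h1 : Nat.card ↥(kerGroup z ⊓ cz x) ≠ 1 := fun e => by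
    have hmem : z ∈ kerGroup z ⊓ cz x := ⟨L.ker_self hz, mem_cz.2 hc.eq.symm⟩
    rw [card_eq_one.1 e, mem_bot] at hmem
    rw [hmem, orderOf_one] at hz
    norm_num at hz
  obtain ⟨i, hi, he⟩ := (Nat.dvd_prime_pow Nat.prime_two).1 hd
  rcases eq_or_ne i 4 with rfl | hi4
  · exfalso
    have hle := eq_of_le_of_card_ge (inf_le_left : kerGroup z ⊓ cz x ≤ kerGroup z) (by rw [he, L.ker_card hz]; norm_num)
    have hxk := L.ker_cent hz (g := x) fun y hy => by
      rw [← hle] at hy
      exact (show Commute y x from mem_cz.1 hy.2).symm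
    have := Subgroup.orderOf_dvd_natCard _ hxk
    rw [hx, L.ker_card hz] at this
    norm_num at this
  · rw [he] at h h1 ⊢
    interval_cases i <;> omega

/-- Involutions commuting with `x` are conjugate in its centraliser. -/
theorem inv_conj_three {z' : G} (hz' : orderOf z' = 2) (hc' : Commute x z') :
    ∃ c : G, Commute c x ∧ c * z * c⁻¹ = z' := by
  haveI : Fact (Nat.Prime 3) := ⟨by norm_num⟩
  obtain ⟨g, rfl⟩ := isConj_iff.1 (L.inv_conj z z' hz hz')
  obtain ⟨-, s, hsz, hsx⟩ := L.three_inv x z hx hz hc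
  have hk := L.factorization_inv hz (p := 3) (e := 1) (m := 896) Fact.out (by norm_num) (by norm_num)
  let a : cz z := ⟨x, mem_cz.2 hc.eq⟩
  let b : cz z := ⟨g⁻¹ * x * g, mem_cz.2 (by
    calc g⁻¹ * x * g * z = g⁻¹ * (x * (g * z * g⁻¹)) * g := by group
      _ = g⁻¹ * (g * z * g⁻¹ * x) * g := by rw [hc'.eq]
      _ = _ := by group)⟩
  have ha : orderOf a = 3 := by rw [← Subgroup.orderOf_coe]; exact hx
  have hb : orderOf b = 3 := by
    rw [← Subgroup.orderOf_coe, ← hx]
    show orderOf (g⁻¹ * x * g) = _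
    have := (MulAut.conj g⁻¹).orderOf_eq x
    rw [← this]
    simp
  let P : Sylow 3 (cz z) := Sylow.ofCard (zpowers a) (by rw [Nat.card_zpowers, ha, hk, pow_one])
  let Q : Sylow 3 (cz z) := Sylow.ofCard (zpowers b) (by rw [Nat.card_zpowers, hb, hk, pow_one])
  obtain ⟨d, hd⟩ := MulAction.exists_smul_eq (cz z) P Q
  have hmap : (zpowers a).map (MulAut.conj d).toMonoidHom = zpowers b :=
    congrArg (fun R : Sylow 3 (cz z) => (R : Subgroup (cz z))) hd
  have hmem : d * a * d⁻¹ ∈ zpowers b := hmap ▸ mem_map_of_mem _ (mem_zpowers a)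
  obtain ⟨k, hk'⟩ := mem_powers_iff_mem_zpowers.2 hmem
  change b ^ k = d * a * d⁻¹ at hk'
  rw [← pow_mod_orderOf, hb] at hk'
  have hdz : (d : G) * z * (d : G)⁻¹ = z := mul_inv_eq_iff_eq_mul.2 (mem_centralizer_singleton_iff.1 d.2)
  have hk1 : k % 3 ≠ 0 := fun e => by
    rw [e, pow_zero, eq_comm] at hk'
    have := ((MulAut.conj d).orderOf_eq a).trans ha
    rw [MulAut.conj_apply, hk', orderOf_one] at this
    norm_num at this
  have e : g * (d : G) * x * (g * d : G)⁻¹ = g * (((b ^ (k % 3) : cz z)) : G) * g⁻¹ := by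
    rw [hk']
    show g * (d : G) * x * (g * d : G)⁻¹ = g * ((d : G) * x * (d : G)⁻¹) * g⁻¹
    group
  rcases (show k % 3 = 1 ∨ k % 3 = 2 by omega) with e' | e' <;> rw [e'] at e
  · refine ⟨g * d, mul_inv_eq_iff_eq_mul.1 ?_, ?_⟩
    · rw [e, pow_one]; show g * (g⁻¹ * x * g) * g⁻¹ = x; group
    · rw [show g * d * z * (g * d : G)⁻¹ = g * ((d : G) * z * (d : G)⁻¹) * g⁻¹ by group, hdz]
  · refine ⟨g * d * s, mul_inv_eq_iff_eq_mul.1 ?_, ?_⟩
    · have hb2 : b ^ 2 = b⁻¹ := eq_inv_of_mul_eq_one_left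
        (by rw [← pow_succ, show (2 : ℕ) + 1 = orderOf b from hb.symm, pow_orderOf_eq_one])
      rw [show g * d * s * x * (g * d * s : G)⁻¹ = g * d * (s * x * s⁻¹) * (g * d : G)⁻¹ by group, hsx,
        show g * (d : G) * x⁻¹ * (g * d : G)⁻¹ = (g * d * x * (g * d : G)⁻¹)⁻¹ by group, e, hb2]
      show (g * (g⁻¹ * x * g)⁻¹ * g⁻¹)⁻¹ = x
      group
    · rw [show g * d * s * z * (g * d * s : G)⁻¹ = g * ((d : G) * (s * z * s⁻¹) * (d : G)⁻¹) * g⁻¹ by group,
        mul_inv_eq_iff_eq_mul.2 hsz.eq, hdz]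

theorem fix_sylow {c : G} (hcx : Commute c x) {k : ℕ} (hk : c ^ 2 ^ k = 1)
    (hcW : ∀ w ∈ kerGroup z ⊓ cz x, Commute c w) : c ∈ kerGroup z ⊓ cz x := by
  set W := kerGroup z ⊓ cz x
  haveI : Fact (Nat.Prime 2) := ⟨by norm_num⟩
  have hn : zpowers c ≤ normalizer (W : Set G) := by
    refine zpowers_le.2 (centralizer_le_normalizer _ (mem_centralizer_iff.2 fun w hw => (hcW w hw).eq.symm))
  obtain ⟨j, hj⟩ : ∃ j, orderOf c = 2 ^ j := by
    obtain ⟨j, -, hj⟩ := (Nat.dvd_prime_pow Nat.prime_two).1 (orderOf_dvd_of_pow_eq_one hk)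
    exact ⟨j, hj⟩
  obtain ⟨i, hi⟩ := IsPGroup.iff_card.1 (IsPGroup.to_sup_of_normal_right' (IsPGroup.of_card (p := 2) (n := j)
    (G := ↥(zpowers c)) (by rw [Nat.card_zpowers, hj])) (IsPGroup.of_card (p := 2) (n := 2) (G := ↥W)
    (by rw [L.card_fix hz hx hc]; norm_num)) hn)
  have hle : zpowers c ⊔ W ≤ cz x := sup_le (zpowers_le.2 (mem_cz.2 hcx.eq)) inf_le_right
  have h1 := card_dvd_of_le hle
  rw [hi, show Nat.card (cz x) = 180 from L.three x hx] at h1
  have h2 : 2 ^ i ≤ 4 := by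
    have h3 : 2 ^ i ∣ 4 * 45 := h1
    exact Nat.le_of_dvd (by norm_num) ((Nat.Coprime.pow_left i (by norm_num)).dvd_of_dvd_mul_right h3)
  have h4 := eq_of_le_of_card_ge (le_sup_right : W ≤ zpowers c ⊔ W) (by rw [hi, L.card_fix hz hx hc]; exact h2)
  exact h4 ▸ mem_sup_left (mem_zpowers c)

/-- The centraliser of an element of order five is cyclic and contains `x` once they commute. -/
theorem norm_five_le {y : G} (hy : orderOf y = 5) (hyx : Commute y x) :
    normalizer (zpowers y : Set G) ≤ normalizer (zpowers x : Set G) := by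
  have hxy : orderOf (x * y) = 15 := by
    rw [hyx.symm.orderOf_mul_eq_mul_orderOf_of_coprime (by rw [hx, hy]; norm_num), hx, hy]
  have he : zpowers (x * y) = cz y := by
    refine eq_of_le_of_card_ge (zpowers_le.2 (mem_cz.2 (hyx.symm.mul_left (Commute.refl y)).eq)) ?_
    rw [show Nat.card (cz y) = 15 from L.five y hy, Nat.card_zpowers, hxy]
  intro g hg
  obtain ⟨n, hn⟩ := mem_zpowers_iff.1 ((mem_normalizer_iff.1 (inv_mem hg) y).1 (mem_zpowers y))
  have hn' : g⁻¹ * y * g = y ^ n := by rw [hn]; group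
  have h1 : g * x * g⁻¹ ∈ cz y := mem_cz.2 (by
    calc g * x * g⁻¹ * y = g * (x * (g⁻¹ * y * g)) * g⁻¹ := by group
      _ = g * ((g⁻¹ * y * g) * x) * g⁻¹ := by rw [hn', (hyx.symm.zpow_right n).eq]
      _ = _ := by group)
  rw [← he] at h1
  obtain ⟨k, hk⟩ := mem_powers_iff_mem_zpowers.2 h1
  change (x * y) ^ k = g * x * g⁻¹ at hk
  have h3 : (g * x * g⁻¹) ^ 3 = 1 := by rw [conj_pow, ← hx, pow_orderOf_eq_one, mul_one, mul_inv_cancel]
  rw [← hk, ← pow_mul] at h3
  have h5 : 5 ∣ k := by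
    have := orderOf_dvd_of_pow_eq_one h3
    rw [hxy] at this
    omega
  obtain ⟨j, rfl⟩ := h5
  have hmem : g * x * g⁻¹ ∈ zpowers x := by
    rw [← hk, hyx.symm.mul_pow, pow_mul y, show y ^ 5 = 1 from hy ▸ pow_orderOf_eq_one y, one_pow, mul_one]
    exact Subgroup.npow_mem_zpowers x _
  have hmap : (zpowers x).map (MulAut.conj g).toMonoidHom = zpowers x := by
    rw [MonoidHom.map_zpowers]
    refine eq_of_le_of_card_ge (zpowers_le.2 hmem) (le_of_eq ?_)
    rw [Nat.card_zpowers, Nat.card_zpowers]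
    exact ((MulAut.conj g).orderOf_eq x).symm
  rw [mem_normalizer_iff]
  intro w
  conv_rhs => rw [← hmap]
  rw [Subgroup.mem_map_equiv]
  simp [mul_assoc]

theorem card_norm_three : Nat.card (normalizer (zpowers x : Set G)) = 360 := by
  obtain ⟨-, s, -, hsx⟩ := L.three_inv x z hx hz hc
  have hnorm : ∀ g : G, g ∈ normalizer (zpowers x : Set G) ↔ g * x * g⁻¹ = x ∨ g * x * g⁻¹ = x⁻¹ := by
    intro g
    constructor
    · intro hg
      obtain ⟨n, hn⟩ := mem_powers_iff_mem_zpowers.2 ((mem_normalizer_iff.1 hg x).1 (mem_zpowers x))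
      change x ^ n = g * x * g⁻¹ at hn
      rw [← pow_mod_orderOf, hx] at hn
      rcases (show n % 3 = 0 ∨ n % 3 = 1 ∨ n % 3 = 2 by omega) with e | e | e <;> rw [e] at hn
      · have := ((MulAut.conj g).orderOf_eq x).trans hx
        rw [MulAut.conj_apply, ← hn, pow_zero, orderOf_one] at this
        norm_num at this
      · exact Or.inl (by rw [← hn, pow_one])
      · refine Or.inr (hn.symm.trans (eq_inv_of_mul_eq_one_left ?_))
        rw [← pow_succ, show (2 : ℕ) + 1 = orderOf x from hx.symm, pow_orderOf_eq_one]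
    · intro hg
      rw [mem_normalizer_iff]
      have hmap : (zpowers x).map (MulAut.conj g).toMonoidHom = zpowers x := by
        rw [MonoidHom.map_zpowers]
        show zpowers (g * x * g⁻¹) = _
        rcases hg with e | e <;> rw [e]
        exact zpowers_inv
      intro w
      conv_rhs => rw [← hmap]
      rw [Subgroup.mem_map_equiv]
      simp [mul_assoc]
  have himg : ∀ c : cz x, s * (c : G) * x * (s * (c : G))⁻¹ = x⁻¹ := fun c => by
    rw [show s * (c : G) * x * (s * (c : G))⁻¹ = s * ((c : G) * x * (c : G)⁻¹) * s⁻¹ by group,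
      mul_inv_eq_iff_eq_mul.2 (mem_cz.1 c.2), hsx]
  have hfix : ∀ c : cz x, (c : G) * x * (c : G)⁻¹ = x := fun c => mul_inv_eq_iff_eq_mul.2 (mem_cz.1 c.2)
  let f : cz x ⊕ cz x → normalizer (zpowers x : Set G) :=
    Sum.elim (fun c => ⟨c, (hnorm c).2 (Or.inl (hfix c))⟩) (fun c => ⟨s * c, (hnorm _).2 (Or.inr (himg c))⟩)
  have hf : Function.Bijective f := by
    refine ⟨?_, fun g => ?_⟩
    · rintro (c | c) (d | d) e <;> simp only [f, Sum.elim_inl, Sum.elim_inr, Subtype.mk.injEq] at e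
      · exact congrArg Sum.inl (Subtype.ext e)
      · have := hfix c; rw [e, himg d] at this; exact absurd this (L.inv_ne hz hx hc)
      · have := hfix d; rw [← e, himg c] at this; exact absurd this (L.inv_ne hz hx hc)
      · exact congrArg Sum.inr (Subtype.ext (mul_left_cancel e))
    · rcases (hnorm g).1 g.2 with e | e
      · exact ⟨Sum.inl ⟨g, mem_cz.2 (mul_inv_eq_iff_eq_mul.1 e)⟩, rfl⟩
      · refine ⟨Sum.inr ⟨s⁻¹ * g, mem_cz.2 (mul_inv_eq_iff_eq_mul.1 ?_)⟩,
          Subtype.ext (mul_inv_cancel_left s (g : G))⟩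
        rw [show s⁻¹ * (g : G) * x * (s⁻¹ * (g : G))⁻¹ = s⁻¹ * ((g : G) * x * (g : G)⁻¹) * s by group, e, ← hsx]
        group
  rw [← Nat.card_eq_of_bijective f hf, Nat.card_sum, show Nat.card (cz x) = 180 from L.three x hx]

/-- A cyclic group of order four normalises a group of order five. -/
theorem exists_four_norm {y : G} (hy : orderOf y = 5) :
    ∃ w : G, w ∈ normalizer (zpowers y : Set G) ∧ orderOf w = 4 := by
  classical
  haveI : Fact (Nat.Prime 2) := ⟨by norm_num⟩
  set N := normalizer (zpowers y : Set G)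
  obtain ⟨W⟩ : Nonempty (Sylow 2 N) := inferInstance
  have hW : Nat.card (W : Subgroup N) = 4 := by
    rw [W.card_eq_multiplicity, L.five_norm y hy, show (60 : ℕ) = 2 ^ 2 * 15 by norm_num,
      Nat.factorization_mul (by norm_num) (by norm_num),
      Finsupp.add_apply, (Fact.out : Nat.Prime 2).factorization_pow, Finsupp.single_eq_same,
      Nat.factorization_eq_zero_of_not_dvd (by norm_num)]
    norm_num
  have hinv : ∀ w : (W : Subgroup N), orderOf w = 2 → ((w : N) : G) * y * ((w : N) : G)⁻¹ = y⁻¹ := by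
    intro w hw
    set v : G := ((w : N) : G)
    have hv : orderOf v = 2 := by rw [Subgroup.orderOf_coe, Subgroup.orderOf_coe, hw]
    obtain ⟨k, hk⟩ := mem_powers_iff_mem_zpowers.2
      ((mem_normalizer_iff.1 (w : N).2 y).1 (mem_zpowers y))
    change y ^ k = v * y * v⁻¹ at hk
    rw [← pow_mod_orderOf, hy] at hk
    have hv2 : v * v = 1 := by rw [← pow_two, ← hv, pow_orderOf_eq_one]
    have hkk : y ^ (k % 5 * (k % 5)) = y ^ 1 := by
      rw [pow_mul, hk, conj_pow, hk, pow_one]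
      calc v * (v * y * v⁻¹) * v⁻¹ = (v * v) * y * (v * v)⁻¹ := by group
        _ = y := by rw [hv2]; simp
    rw [pow_eq_pow_iff_modEq, hy, Nat.ModEq] at hkk
    have hk5 : k % 5 < 5 := Nat.mod_lt _ (by norm_num)
    rcases (show k % 5 = 1 ∨ k % 5 = 4 by interval_cases h : k % 5 <;> omega) with e | e
    · exfalso
      rw [e, pow_one] at hk
      have h2 := Subgroup.orderOf_dvd_natCard (centralizer ({y} : Set G))
        (mem_centralizer_singleton_iff.2 (mul_inv_eq_iff_eq_mul.1 hk.symm))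
      rw [hv, L.five y hy] at h2
      norm_num at h2
    · rw [← hk, e]
      exact eq_inv_of_mul_eq_one_left (by rw [← pow_succ, show (4 : ℕ) + 1 = orderOf y from hy.symm, pow_orderOf_eq_one])
  by_contra hcon
  push Not at hcon
  haveI := Fintype.ofFinite (W : Subgroup N)
  have h2 : ∀ w : (W : Subgroup N), w ≠ 1 → orderOf w = 2 := fun w hw => by
    have h1 := orderOf_dvd_natCard w
    rw [hW, show (4 : ℕ) = 2 ^ 2 by norm_num, Nat.dvd_prime_pow Nat.prime_two] at h1
    obtain ⟨i, hi, e⟩ := h1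
    interval_cases i
    · exact absurd (orderOf_eq_one_iff.1 (e.trans (pow_zero _))) hw
    · simpa using e
    · exact absurd (by rw [Subgroup.orderOf_coe, Subgroup.orderOf_coe, e]; norm_num)
        (hcon ((w : N) : G) (w : N).2)
  obtain ⟨a, ha⟩ := exists_prime_orderOf_dvd_card' (G := (W : Subgroup N)) 2 (by rw [hW]; norm_num)
  obtain ⟨b, hb, hba⟩ : ∃ b : (W : Subgroup N), b ≠ 1 ∧ b ≠ a := by
    by_contra hb
    push Not at hb
    have : Fintype.card (W : Subgroup N) ≤ 2 := (Finset.card_le_card (t := {1, a}) fun b _ => by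
      rcases eq_or_ne b 1 with e | e
      · simp [e]
      · simp [hb b e]).trans Finset.card_le_two
    rw [← Nat.card_eq_fintype_card, hW] at this
    omega
  have hab : a * b ≠ 1 := fun e => hba (by
    rw [eq_inv_of_mul_eq_one_right e]
    have haa := pow_orderOf_eq_one a
    rw [ha, pow_two] at haa
    exact inv_eq_of_mul_eq_one_left haa)
  have e1 := hinv a ha
  have e2 := hinv b (h2 b hb)
  have e3 := hinv (a * b) (h2 _ hab)
  simp only [Subgroup.coe_mul] at e3
  have e4 : ((a : N) : G) * ((b : N) : G) * y * (((a : N) : G) * ((b : N) : G))⁻¹ = y := by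
    rw [show ((a : N) : G) * ((b : N) : G) * y * (((a : N) : G) * ((b : N) : G))⁻¹ =
        ((a : N) : G) * (((b : N) : G) * y * ((b : N) : G)⁻¹) * ((a : N) : G)⁻¹ by group, e2,
      show ((a : N) : G) * y⁻¹ * ((a : N) : G)⁻¹ = (((a : N) : G) * y * ((a : N) : G)⁻¹)⁻¹ by group, e1, inv_inv]
  rw [e4] at e3
  have h5 : y ^ 2 = 1 := by rw [pow_two]; exact inv_eq_iff_mul_eq_one.1 e3.symm
  have := orderOf_dvd_of_pow_eq_one h5
  rw [hy] at this; norm_num at this

/-- An element of two-power order inverting `x` does not centralise all fixed points. -/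
theorem no_central_inverter {s : G} (hsx : s * x * s⁻¹ = x⁻¹) {k : ℕ} (hk : s ^ 2 ^ k = 1)
    (hsW : ∀ w ∈ kerGroup z ⊓ cz x, Commute s w) : False := by
  classical
  haveI : Fact (Nat.Prime 2) := ⟨by norm_num⟩
  set W := kerGroup z ⊓ cz x
  set N := normalizer (zpowers x : Set G)
  have hWc : ∀ a ∈ W, ∀ b ∈ W, Commute a b := fun a ha b hb => L.ker_comm hz ha.1 hb.1
  have hs2x : Commute (s * s) x := by
    refine mul_inv_eq_iff_eq_mul.1 ?_
    rw [show s * s * x * (s * s)⁻¹ = s * (s * x * s⁻¹) * s⁻¹ by group, hsx,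
      show s * x⁻¹ * s⁻¹ = (s * x * s⁻¹)⁻¹ by group, hsx, inv_inv]
  have hs2 : s * s ∈ W := L.fix_sylow hz hx hc hs2x (k := k)
    (by rw [← pow_two, ← pow_mul, mul_comm, pow_mul, hk, one_pow]) fun w hw => (hsW w hw).mul_left (hsW w hw)
  have hsnW : s ∉ W := fun h => L.inv_ne hz hx hc (by
    rw [← hsx, mul_inv_eq_iff_eq_mul.2 (mem_cz.1 h.2)])
  let T : Subgroup G :=
    { carrier := {g | g ∈ W ∨ s⁻¹ * g ∈ W}
      one_mem' := Or.inl W.one_mem
      mul_mem' := by
        rintro a b (ha | ha) (hb | hb)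
        · exact Or.inl (W.mul_mem ha hb)
        · refine Or.inr ?_
          rw [← mul_assoc, ← ((hsW a ha).inv_left).eq.symm, mul_assoc]
          exact W.mul_mem ha hb
        · exact Or.inr (by rw [← mul_assoc]; exact W.mul_mem ha hb)
        · refine Or.inl ?_
          rw [show a * b = (s * (s⁻¹ * a)) * (s * (s⁻¹ * b)) by group]
          rw [show s * (s⁻¹ * a) * (s * (s⁻¹ * b)) = s * ((s⁻¹ * a) * s) * (s⁻¹ * b) by group, ← (hsW _ ha).eq,
            show s * (s * (s⁻¹ * a)) * (s⁻¹ * b) = s * s * ((s⁻¹ * a) * (s⁻¹ * b)) by group]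
          exact W.mul_mem hs2 (W.mul_mem ha hb)
      inv_mem' := by
        rintro a (ha | ha)
        · exact Or.inl (W.inv_mem ha)
        · refine Or.inr ?_
          have hw := W.inv_mem ha
          rw [show s⁻¹ * a⁻¹ = s⁻¹ * ((s⁻¹ * a)⁻¹ * s⁻¹) by group, ← ((hsW _ hw).inv_left).eq,
            show s⁻¹ * (s⁻¹ * (s⁻¹ * a)⁻¹) = (s * s)⁻¹ * (s⁻¹ * a)⁻¹ by group]
          exact W.mul_mem (W.inv_mem hs2) hw }
  have hTcomm : ∀ a ∈ T, ∀ b ∈ T, Commute a b := by
    have hsT : ∀ w ∈ W, Commute s w := hsW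
    have key : ∀ a ∈ T, ∃ w ∈ W, a = w ∨ a = s * w := by
      rintro a (ha | ha)
      · exact ⟨a, ha, Or.inl rfl⟩
      · exact ⟨_, ha, Or.inr (mul_inv_cancel_left s a).symm⟩
    intro a ha b hb
    obtain ⟨u, hu, hau⟩ := key a ha
    obtain ⟨v, hv, hbv⟩ := key b hb
    rcases hau with rfl | rfl <;> rcases hbv with rfl | rfl
    · exact hWc _ hu _ hv
    · exact (hsW _ hu).symm.mul_right (hWc _ hu _ hv)
    · exact ((hsW _ hv).symm.mul_right (hWc _ hv _ hu)).symm
    · exact ((Commute.refl s).mul_right (hsW _ hv)).mul_left ((hsW _ hu).symm.mul_right (hWc _ hu _ hv))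
  have hTN : T ≤ N := by
    have hsN : s ∈ N := by
      rw [mem_normalizer_iff]
      have hmap : (zpowers x).map (MulAut.conj s).toMonoidHom = zpowers x := by
        rw [MonoidHom.map_zpowers]
        show zpowers (s * x * s⁻¹) = _
        rw [hsx, zpowers_inv]
      intro w
      conv_rhs => rw [← hmap]
      rw [Subgroup.mem_map_equiv]
      simp [mul_assoc]
    have hWN : W ≤ N := fun w hw => centralizer_le_normalizer _ (mem_centralizer_iff.2 (by
      rintro _ ⟨n, rfl⟩
      exact ((show Commute w x from mem_cz.1 hw.2).zpow_right n).eq.symm))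
    rintro a (ha | ha)
    · exact hWN ha
    · rw [← mul_inv_cancel_left s a]; exact mul_mem hsN (hWN ha)
  have hT8 : Nat.card T = 8 := by
    let f : W ⊕ W → T := Sum.elim (fun w => ⟨w, Or.inl w.2⟩)
      (fun w => ⟨s * w, Or.inr (by rw [inv_mul_cancel_left]; exact w.2)⟩)
    have hf : Function.Bijective f := by
      refine ⟨?_, ?_⟩
      · rintro (c | c) (d | d) e <;> simp only [f, Sum.elim_inl, Sum.elim_inr, Subtype.mk.injEq] at e
        · exact congrArg Sum.inl (Subtype.ext e)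
        · exact absurd (by rw [← mul_inv_cancel_right s (d : G), ← e]; exact W.mul_mem c.2 (W.inv_mem d.2)) hsnW
        · exact absurd (by rw [← mul_inv_cancel_right s (c : G), e]; exact W.mul_mem d.2 (W.inv_mem c.2)) hsnW
        · exact congrArg Sum.inr (Subtype.ext (mul_left_cancel e))
      · rintro ⟨a, ha | ha⟩
        · exact ⟨Sum.inl ⟨a, ha⟩, rfl⟩
        · exact ⟨Sum.inr ⟨_, ha⟩, Subtype.ext (mul_inv_cancel_left s a)⟩
    rw [← Nat.card_eq_of_bijective f hf, Nat.card_sum, L.card_fix hz hx hc]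
  let P : Sylow 2 N := Sylow.ofCard (T.subgroupOf N) (by
    rw [Nat.card_congr (subgroupOfEquivOfLe hTN).toEquiv, hT8, L.card_norm_three hz hx hc,
      show (360 : ℕ) = 2 ^ 3 * 45 by norm_num, Nat.factorization_mul (by norm_num) (by norm_num),
      Finsupp.add_apply, (Fact.out : Nat.Prime 2).factorization_pow, Finsupp.single_eq_same,
      Nat.factorization_eq_zero_of_not_dvd (by norm_num)]
    norm_num)
  have hPc : IsMulCommutative (P : Subgroup N) := ⟨⟨fun a b => Subtype.ext (Subtype.ext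
    (hTcomm _ (mem_subgroupOf.1 a.2) _ (mem_subgroupOf.1 b.2)).eq)⟩⟩
  -- an element of order four in the normaliser
  haveI : Fact (Nat.Prime 5) := ⟨by norm_num⟩
  obtain ⟨f5, hf5⟩ := exists_prime_orderOf_dvd_card' (G := cz x) 5
    (by rw [show Nat.card (cz x) = 180 from L.three x hx]; norm_num)
  have hy : orderOf (f5 : G) = 5 := by rw [Subgroup.orderOf_coe]; exact hf5
  obtain ⟨w, hwN, hw4⟩ := L.exists_four_norm hz hx hc hy
  let w' : N := ⟨w, L.norm_five_le hz hx hc hy (mem_cz.1 f5.2) hwN⟩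
  have hw' : orderOf w' = 4 := by rw [← Subgroup.orderOf_coe]; exact hw4
  obtain ⟨Q, hQ⟩ := (IsPGroup.of_card (p := 2) (n := 2) (G := ↥(zpowers w'))
    (by rw [Nat.card_zpowers, hw']; norm_num)).exists_le_sylow
  obtain ⟨n, hn⟩ := MulAction.exists_smul_eq N Q P
  have hmem : n * w' * n⁻¹ ∈ (P : Subgroup N) := by
    rw [← hn]; exact mem_map_of_mem _ (hQ (mem_zpowers w'))
  set t : G := ((n * w' * n⁻¹ : N) : G) with ht
  have htT : t ∈ T := mem_subgroupOf.1 hmem
  have ht4 : orderOf t = 4 := by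
    rw [ht, Subgroup.orderOf_coe]; exact ((MulAut.conj n).orderOf_eq w').trans hw'
  have hsq : ∀ a ∈ T, a * a = 1 ∨ a * a = s * s := by
    rintro a (ha | ha)
    · exact Or.inl (L.ker_sq hz ha.1)
    · refine Or.inr ?_
      have := L.ker_sq hz ha.1
      rw [show a * a = (s * (s⁻¹ * a)) * (s * (s⁻¹ * a)) by group,
        show s * (s⁻¹ * a) * (s * (s⁻¹ * a)) = s * ((s⁻¹ * a) * s) * (s⁻¹ * a) by group, ← (hsW _ ha).eq,
        show s * (s * (s⁻¹ * a)) * (s⁻¹ * a) = s * s * ((s⁻¹ * a) * (s⁻¹ * a)) by group, this, mul_one]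
  have hu1 : s * s ≠ 1 := fun e => by
    have h1 : t ^ 2 = 1 := by
      rw [pow_two]; rcases hsq t htT with h | h
      · exact h
      · rw [h, e]
    have := orderOf_dvd_of_pow_eq_one h1
    rw [ht4] at this; norm_num at this
  have hu2 : orderOf (s * s) = 2 := orderOf_eq_prime (by rw [pow_two]; exact L.ker_sq hz hs2.1) hu1
  obtain ⟨v, hv, hv1, hvu⟩ : ∃ v ∈ W, v ≠ 1 ∧ v ≠ s * s := by
    by_contra hcon
    push Not at hcon
    have : Nat.card W ≤ ({1, s * s} : Finset G).card := by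
      rw [← Nat.card_eq_finsetCard]
      exact Nat.card_le_card_of_injective (fun a : W => (⟨a.1, by
        rcases eq_or_ne (a : G) 1 with e | e
        · simp [e]
        · simp [hcon a.1 a.2 e]⟩ : ({1, s * s} : Finset G))) fun a b e => Subtype.ext (congrArg (fun t : ({1, s * s} : Finset G) => t.1) e)
    rw [L.card_fix hz hx hc] at this
    have := this.trans Finset.card_le_two
    omega
  have hv2 : orderOf v = 2 := orderOf_eq_prime (by rw [pow_two]; exact L.ker_sq hz hv.1) hv1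
  obtain ⟨c1, hc1x, hc1⟩ := L.inv_conj_three hz hx hc hu2 hs2x.symm
  obtain ⟨c2, hc2x, hc2⟩ := L.inv_conj_three hz hx hc hv2 (mem_cz.1 hv.2 : v * x = x * v).symm
  have hcN : ∀ c : G, Commute c x → c ∈ N := fun c hcx => centralizer_le_normalizer _ (mem_centralizer_iff.2 (by
    rintro _ ⟨n, rfl⟩
    exact (hcx.zpow_right n).eq.symm))
  let g : N := ⟨c1 * c2⁻¹, mul_mem (hcN c1 hc1x) (inv_mem (hcN c2 hc2x))⟩
  let u' : N := ⟨s * s, hTN (Or.inl hs2)⟩
  let v' : N := ⟨v, hTN (Or.inl hv)⟩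
  have hgu : g⁻¹ * u' * g = v' := Subtype.ext (by
    show (c1 * c2⁻¹)⁻¹ * (s * s) * (c1 * c2⁻¹) = v
    rw [← hc1, ← hc2]; group)
  haveI := hPc
  obtain ⟨m, hm, he⟩ := P.conj_eq_normalizer_conj_of_mem u' g (mem_subgroupOf.2 (Or.inl hs2))
    (hgu ▸ mem_subgroupOf.2 (Or.inl hv))
  rw [hgu] at he
  have hsm : m⁻¹ * (⟨s, hTN (Or.inr (by rw [inv_mul_cancel]; exact W.one_mem))⟩ : N) * m ∈ (P : Subgroup N) := by
    have h1 := (mem_normalizer_iff.1 (inv_mem hm) (⟨s, hTN (Or.inr (by rw [inv_mul_cancel]; exact W.one_mem))⟩ : N)).1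
      (mem_subgroupOf.2 (Or.inr (by rw [inv_mul_cancel]; exact W.one_mem)))
    simpa using h1
  have hT2 := hsq _ (mem_subgroupOf.1 hsm)
  have he' : v = (m : G)⁻¹ * (s * s) * (m : G) := congrArg Subtype.val he
  rcases hT2 with h | h
  · refine hv1 ?_
    rw [he', ← h]
    simp only [Subgroup.coe_mul, Subgroup.coe_inv]
    group
  · refine hvu ?_
    rw [he']
    conv_rhs => rw [← h]
    simp only [Subgroup.coe_mul, Subgroup.coe_inv]
    group

/-- An element inverting `x` and centralising `z` moves every other fixed point by `z`. -/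
theorem flip {s y : G} (hsz : Commute s z) (hsx : s * x * s⁻¹ = x⁻¹) (hy : y ∈ kerGroup z)
    (hyx : Commute y x) (hy1 : y ≠ 1) (hyz : y ≠ z) : s * y * s⁻¹ = y * z := by
  classical
  set W := kerGroup z ⊓ cz x
  have hinW : ∀ t : G, Commute t z → t * x * t⁻¹ = x⁻¹ → ∀ w ∈ W, t * w * t⁻¹ ∈ W := by
    intro t htz htx w hw
    refine ⟨L.ker_normal hz htz hw.1, mem_cz.2 ?_⟩
    have hx' : t⁻¹ * x * t = x⁻¹ := by
      calc t⁻¹ * x * t = t⁻¹ * (x⁻¹)⁻¹ * t := by rw [inv_inv]
        _ = t⁻¹ * (t * x * t⁻¹)⁻¹ * t := by rw [htx]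
        _ = _ := by group
    calc t * w * t⁻¹ * x = t * (w * (t⁻¹ * x * t)) * t⁻¹ := by group
      _ = t * ((t⁻¹ * x * t) * w) * t⁻¹ := by
          rw [hx', ((show Commute w x from mem_cz.1 hw.2).inv_right).eq]
      _ = _ := by group
  have hyW : y ∈ W := ⟨hy, mem_cz.2 hyx.eq⟩
  have hzW : z ∈ W := ⟨L.ker_self hz, mem_cz.2 hc.eq.symm⟩
  have hyz' : y * z ≠ 1 := fun e => hyz (by rw [eq_inv_of_mul_eq_one_left e, L.ker_inv hz hzW.1])
  -- the four fixed points
  have hfour : ∀ w ∈ W, w = 1 ∨ w = z ∨ w = y ∨ w = y * z := by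
    have hz1 : z ≠ 1 := fun e => by rw [e, orderOf_one] at hz; norm_num at hz
    haveI := Fintype.ofFinite W
    have hsub : ({⟨1, W.one_mem⟩, ⟨z, hzW⟩, ⟨y, hyW⟩, ⟨y * z, W.mul_mem hyW hzW⟩} : Finset W) = Finset.univ := by
      refine Finset.eq_univ_of_card _ ?_
      rw [← Nat.card_eq_fintype_card, L.card_fix hz hx hc, Finset.card_insert_of_notMem,
        Finset.card_insert_of_notMem, Finset.card_pair]
      · exact fun e => hz1 (mul_eq_left.1 (congrArg Subtype.val e).symm)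
      · simp only [Finset.mem_insert, Finset.mem_singleton, Subtype.mk.injEq, not_or]
        exact ⟨hyz.symm, fun e => hy1 (mul_eq_right.1 e.symm)⟩
      · simp only [Finset.mem_insert, Finset.mem_singleton, Subtype.mk.injEq, not_or]
        exact ⟨hz1.symm, hy1.symm, hyz'.symm⟩
    intro w hw
    have := hsub ▸ Finset.mem_univ (⟨w, hw⟩ : W)
    simpa [Subtype.mk.injEq] using this
  have hcases : s * y * s⁻¹ = y ∨ s * y * s⁻¹ = y * z := by
    rcases hfour _ (hinW s hsz hsx y hyW) with e | e | e | e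
    · exact absurd (by
        calc y = s⁻¹ * (s * y * s⁻¹) * s := by group
          _ = 1 := by rw [e]; group) hy1
    · exact absurd (by
        calc y = s⁻¹ * (s * y * s⁻¹) * s := by group
          _ = z := by rw [e, hsz.inv_left.eq, inv_mul_cancel_right]) hyz
    · exact Or.inl e
    · exact Or.inr e
  rcases hcases with e | e
  · exfalso
    have hsy : Commute s y := mul_inv_eq_iff_eq_mul.1 e
    obtain ⟨j, m, hm, hmo⟩ := Nat.exists_eq_pow_mul_and_not_dvd (orderOf_pos s).ne' 2 (by norm_num)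
    obtain ⟨n, rfl⟩ : Odd m := Nat.odd_iff.2 (Nat.two_dvd_ne_zero.1 hm)
    have hsm : ∀ n : ℕ, s ^ (2 * n + 1) * x * (s ^ (2 * n + 1))⁻¹ = x⁻¹ := by
      intro n
      induction n with
      | zero => simpa using hsx
      | succ n ih =>
        rw [show 2 * (n + 1) + 1 = 2 + (2 * n + 1) by ring, pow_add,
          show s ^ 2 * s ^ (2 * n + 1) * x * (s ^ 2 * s ^ (2 * n + 1))⁻¹ =
            s ^ 2 * (s ^ (2 * n + 1) * x * (s ^ (2 * n + 1))⁻¹) * (s ^ 2)⁻¹ by group, ih, pow_two,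
          show s * s * x⁻¹ * (s * s)⁻¹ = s * (s * x * s⁻¹)⁻¹ * s⁻¹ by group, hsx, inv_inv, hsx]
    refine L.no_central_inverter hz hx hc (hsm n) (k := j)
      (by rw [← pow_mul, mul_comm, ← hmo, pow_orderOf_eq_one]) fun w hw => ?_
    refine Commute.pow_left ?_ _
    rcases hfour w hw with rfl | rfl | rfl | rfl
    exacts [Commute.one_right s, hsz, hsy, hsy.mul_right hsz]
  · exact e

theorem exists_fix : ∃ y ∈ kerGroup z, Commute y x ∧ y ≠ 1 ∧ y ≠ z := by
  classical
  by_contra hcon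
  push Not at hcon
  have : Nat.card ↥(kerGroup z ⊓ cz x) ≤ ({1, z} : Finset G).card := by
    rw [← Nat.card_eq_finsetCard]
    exact Nat.card_le_card_of_injective (fun a : ↥(kerGroup z ⊓ cz x) => (⟨a.1, by
      rcases eq_or_ne (a : G) 1 with e | e
      · simp [e]
      · simp [hcon a.1 a.2.1 (mem_cz.1 a.2.2) e]⟩ : ({1, z} : Finset G)))
      fun a b e => Subtype.ext (congrArg (fun t : ({1, z} : Finset G) => t.1) e)
  rw [L.card_fix hz hx hc] at this
  have := this.trans Finset.card_le_two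
  omega

end CfsgLib.M23Nse.Local
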