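import Cfsg.Agent.M23Nse.Iface
import Mathlib.LinearAlgebra.Matrix.Charpoly.FiniteField
import Mathlib.LinearAlgebra.Matrix.Trace
import Mathlib.Tactic.NormNum
import Mathlib.Tactic.Ring
import Mathlib.Tactic.Linarith
import Mathlib.Tactic.IntervalCases

/-!
The graph of the 253 blocks: it is strongly regular with parameters (253, 112, 36, 60), and
every kernel orbit on the neighbours of a block is a coclique of size sixteen.
-/

set_option autoImplicit false

namespace CfsgLib.M23Nse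

open MulAction Finset

section TraceTest

variable {X : Type*} [Fintype X] [DecidableEq X]

/-- One step of the recursion for the powers of the adjacency matrix. -/
def powStep (p l m : ℕ) (x : ZMod p × ZMod p × ZMod p) : ZMod p × ZMod p × ZMod p :=
  (x.1 * ((l : ZMod p) - (m : ZMod p)) + x.2.1, x.1 * (112 - (m : ZMod p)),
    x.1 * (m : ZMod p) + 112 * x.2.2)

/-- The integrality test for the parameters `l`, `m` modulo `p`. -/
def powTest (p l m : ℕ) : ZMod p :=
  253 * (((powStep p l m)^[p - 1] (1, 0, 0)).2.1 + ((powStep p l m)^[p - 1] (1, 0, 0)).2.2)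

theorem powTest_eq_zero (p l m : ℕ) [Fact p.Prime] (A J : Matrix X X (ZMod p))
    (hX : Fintype.card X = 253) (hJ : ∀ i j, J i j = 1) (hd : ∀ i, A i i = 0)
    (hAA : A * A = (112 - (m : ZMod p)) • 1 + ((l : ZMod p) - (m : ZMod p)) • A + (m : ZMod p) • J)
    (hJA : J * A = (112 : ZMod p) • J) : powTest p l m = 0 := by
  haveI : Nonempty X := Fintype.card_pos_iff.mp (by omega)
  have key : ∀ n, A ^ (n + 1) = ((powStep p l m)^[n] (1, 0, 0)).1 • A +
      ((powStep p l m)^[n] (1, 0, 0)).2.1 • 1 + ((powStep p l m)^[n] (1, 0, 0)).2.2 • J := by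
    intro n
    induction n with
    | zero => simp
    | succ n ih =>
      rw [pow_succ, ih, Function.iterate_succ_apply', add_mul, add_mul, Matrix.smul_mul,
        Matrix.smul_mul, Matrix.smul_mul, one_mul, hAA, hJA]
      simp only [powStep, smul_add, smul_smul, add_smul]
      rw [mul_comm (112 : ZMod p)]
      abel
  obtain ⟨q, rfl⟩ := Nat.exists_eq_add_of_le' (Fact.out : p.Prime).one_lt.le
  have h := ZMod.trace_pow_card A
  rw [key, Matrix.trace_add, Matrix.trace_add, Matrix.trace_smul, Matrix.trace_smul,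
    Matrix.trace_smul] at h
  have t0 : Matrix.trace A = 0 := Finset.sum_eq_zero fun i _ => hd i
  have t1 : Matrix.trace (1 : Matrix X X (ZMod (q + 1))) = 253 := by
    rw [Matrix.trace_one, hX]; norm_num
  have t2 : Matrix.trace J = 253 := by
    rw [Matrix.trace, Finset.sum_congr rfl fun i _ => (show Matrix.diag J i = 1 from hJ i i),
      Finset.sum_const, card_univ, hX, nsmul_one]
    norm_num
  rw [t0, t1, t2, zero_pow (by omega), smul_zero, zero_add, smul_eq_mul, smul_eq_mul] at h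
  rw [powTest, show q + 1 - 1 = q by omega]
  linear_combination h

end TraceTest

universe u v

variable {G : Type u} [Group G] {X : Type v} [MulAction G X] [Fintype X] [DecidableEq X]
  (B : Blocks G X)

namespace Blocks

include B

open scoped Classical in
/-- The neighbours of a block. -/
noncomputable def nb (E : X) : Finset X := univ.filter fun F => Adj B.ker E F

open scoped Classical in
/-- The kernel orbit of `F` under the kernel of `E`. -/
noncomputable def orb (E F : X) : Finset X := univ.filter fun Y => ∃ k ∈ B.ker E, k • F = Y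

theorem mem_nb {E F : X} : F ∈ B.nb E ↔ Adj B.ker E F := by simp [nb]

theorem mem_orb {E F Y : X} : Y ∈ B.orb E F ↔ ∃ k ∈ B.ker E, k • F = Y := by simp [orb]

theorem nb_symm {E F : X} : F ∈ B.nb E ↔ E ∈ B.nb F := by
  rw [mem_nb, mem_nb]; exact ⟨B.adj_symm E F, B.adj_symm F E⟩

theorem not_mem_nb_self (E : X) : E ∉ B.nb E := fun h => (B.mem_nb.mp h).1 rfl

theorem card_univ_X : Fintype.card X = 253 := by rw [← Nat.card_eq_fintype_card]; exact B.card_X

theorem card_nb (E : X) : (B.nb E).card = 112 := by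
  classical
  rw [← B.card_adj E, Nat.card_eq_fintype_card, Fintype.card_subtype]
  exact congrArg Finset.card (by ext F; simp [mem_nb])

theorem conj_mem_ker {g k : G} {E : X} (hk : k ∈ B.ker E) : g * k * g⁻¹ ∈ B.ker (g • E) := by
  rw [B.ker_smul, show g⁻¹ * (g * k * g⁻¹) * g = k by group]
  exact hk

theorem adj_smul {g : G} {E F : X} (h : Adj B.ker E F) : Adj B.ker (g • E) (g • F) := by
  refine ⟨fun he => h.1 (MulAction.injective g he), (Subgroup.eq_bot_iff_forall _).mpr ?_⟩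
  rintro k ⟨h1, h2⟩
  have h2' : k • g • F = g • F := h2
  have : g⁻¹ * k * g = 1 := (Subgroup.eq_bot_iff_forall _).mp h.2 _
    ⟨(B.ker_smul g E k).mp h1, mem_stabilizer_iff.mpr (by
      rw [mul_smul, mul_smul, h2', inv_smul_smul])⟩
  calc k = g * (g⁻¹ * k * g) * g⁻¹ := by group
    _ = 1 := by rw [this]; group

theorem nb_smul_mem {g : G} {E F : X} : g • F ∈ B.nb (g • E) ↔ F ∈ B.nb E := by
  rw [mem_nb, mem_nb]
  refine ⟨fun h => ?_, B.adj_smul⟩
  have := B.adj_smul (g := g⁻¹) h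
  rwa [inv_smul_smul, inv_smul_smul] at this

theorem nb_smul (g : G) (E : X) : B.nb (g • E) = (B.nb E).image (g • ·) := by
  ext Y
  constructor
  · intro hY
    refine mem_image.mpr ⟨g⁻¹ • Y, ?_, smul_inv_smul g Y⟩
    rw [← B.nb_smul_mem (g := g), smul_inv_smul]
    exact hY
  · intro hY
    obtain ⟨F, hF, rfl⟩ := mem_image.mp hY
    exact B.nb_smul_mem.mpr hF

theorem orb_smul (g : G) (E F : X) : B.orb (g • E) (g • F) = (B.orb E F).image (g • ·) := by
  ext Y
  simp only [mem_orb, mem_image]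
  constructor
  · rintro ⟨k, hk, rfl⟩
    refine ⟨(g⁻¹ * k * g) • F, ⟨_, (B.ker_smul g E k).mp hk, rfl⟩, ?_⟩
    rw [smul_smul, smul_smul, show g * (g⁻¹ * k * g) = k * g by group]
  · rintro ⟨Z, ⟨k, hk, rfl⟩, rfl⟩
    refine ⟨g * k * g⁻¹, B.conj_mem_ker hk, ?_⟩
    rw [smul_smul, smul_smul, show g * k * g⁻¹ * g = g * k by group]

theorem self_mem_orb (E F : X) : F ∈ B.orb E F := B.mem_orb.mpr ⟨1, one_mem _, one_smul _ _⟩

theorem orb_eq {E F Y : X} (h : Y ∈ B.orb E F) : B.orb E Y = B.orb E F := by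
  obtain ⟨k, hk, rfl⟩ := B.mem_orb.mp h
  ext Z
  simp only [mem_orb]
  constructor
  · rintro ⟨k', hk', rfl⟩
    exact ⟨k' * k, mul_mem hk' hk, mul_smul _ _ _⟩
  · rintro ⟨k', hk', rfl⟩
    exact ⟨k' * k⁻¹, mul_mem hk' ((B.ker E).inv_mem hk), by rw [smul_smul, inv_mul_cancel_right]⟩

theorem orb_subset {E F : X} (h : F ∈ B.nb E) : B.orb E F ⊆ B.nb E := fun Y hY => by
  obtain ⟨k, hk, rfl⟩ := B.mem_orb.mp hY
  have hkE : k • E = E := B.ker_le E hk
  have := B.nb_smul_mem (g := k) |>.mpr h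
  rwa [hkE] at this

theorem card_orb {E F : X} (h : F ∈ B.nb E) : (B.orb E F).card = 16 := by
  classical
  rw [← Nat.card_eq_finsetCard, ← B.card_ker E]
  refine (Nat.card_congr (Equiv.ofBijective
    (fun k : B.ker E => (⟨(k : G) • F, B.mem_orb.mpr ⟨k, k.2, rfl⟩⟩ : ↥(B.orb E F))) ⟨?_, ?_⟩)).symm
  · intro k k' hkk
    have he : (k : G) • F = (k' : G) • F := congrArg Subtype.val hkk
    have h1 : ((k : G)⁻¹ * k') = 1 := (Subgroup.eq_bot_iff_forall _).mp (B.mem_nb.mp h).2 _
      ⟨(B.ker E).mul_mem ((B.ker E).inv_mem k.2) k'.2, mem_stabilizer_iff.mpr (by rw [mul_smul, ← he, inv_smul_smul])⟩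
    exact Subtype.ext (inv_mul_eq_one.mp h1)
  · rintro ⟨Y, hY⟩
    obtain ⟨k, hk, rfl⟩ := B.mem_orb.mp hY
    exact ⟨⟨k, hk⟩, rfl⟩

/-- The number of common neighbours. -/
noncomputable def common (E F : X) : ℕ := (B.nb E ∩ B.nb F).card

theorem common_smul (g : G) (E F : X) : B.common (g • E) (g • F) = B.common E F := by
  rw [common, common, B.nb_smul, B.nb_smul, ← image_inter _ _ (MulAction.injective g),
    card_image_of_injective _ (MulAction.injective g)]

theorem common_self (E : X) : B.common E E = 112 := by rw [common, inter_self, card_nb]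

theorem exists_const : ∃ l m : ℕ, (∀ E F, F ∈ B.nb E → B.common E F = l) ∧
    (∀ E F, F ∉ B.nb E → F ≠ E → B.common E F = m) := by
  classical
  haveI := B.trans
  haveI : Nonempty X := Fintype.card_pos_iff.mp (by rw [B.card_univ_X]; norm_num)
  obtain ⟨E₀⟩ := (inferInstance : Nonempty X)
  obtain ⟨F₀, hF₀⟩ : (B.nb E₀).Nonempty := card_pos.mp (by rw [B.card_nb]; norm_num)
  obtain ⟨F₁, hF₁⟩ : (univ \ insert E₀ (B.nb E₀)).Nonempty := card_pos.mp (by
    rw [card_univ_diff, card_insert_of_notMem (B.not_mem_nb_self E₀), B.card_nb, B.card_univ_X]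
    norm_num)
  simp only [mem_sdiff, mem_univ, true_and, mem_insert, not_or] at hF₁
  refine ⟨B.common E₀ F₀, B.common E₀ F₁, fun E F hF => ?_, fun E F hF hne => ?_⟩
  · obtain ⟨g, rfl⟩ := MulAction.exists_smul_eq G E₀ E
    have hF' : g⁻¹ • F ∈ B.nb E₀ := by rw [← B.nb_smul_mem (g := g), smul_inv_smul]; exact hF
    obtain ⟨h, hE, hh⟩ := B.trans_adj _ _ _ (B.mem_nb.mp hF₀) (B.mem_nb.mp hF')
    have := B.common_smul (g * h) E₀ F₀
    rwa [mul_smul, mul_smul, hE, hh, smul_inv_smul] at this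
  · obtain ⟨g, rfl⟩ := MulAction.exists_smul_eq G E₀ E
    have hF' : g⁻¹ • F ∉ B.nb E₀ := fun h => hF (by
      rw [← smul_inv_smul g F]; exact B.nb_smul_mem.mpr h)
    have hne' : g⁻¹ • F ≠ E₀ := fun h => hne (by rw [← h, smul_inv_smul])
    obtain ⟨h, hE, hh⟩ := B.trans_non _ _ _ hF₁.1 (fun hA => hF₁.2 (B.mem_nb.mpr hA)) hne'
      (fun hA => hF' (B.mem_nb.mpr hA))
    have := B.common_smul (g * h) E₀ F₁
    rwa [mul_smul, mul_smul, hE, hh, smul_inv_smul] at this

theorem sum_common (E : X) : ∑ Y, B.common E Y = 112 * 112 := by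
  classical
  calc ∑ Y, B.common E Y = ∑ Y, ∑ F ∈ B.nb E, (if F ∈ B.nb Y then 1 else 0) := by
        refine sum_congr rfl fun Y _ => ?_
        rw [common, ← filter_mem_eq_inter, card_filter]
    _ = ∑ F ∈ B.nb E, ∑ Y, (if F ∈ B.nb Y then 1 else 0) := sum_comm
    _ = ∑ F ∈ B.nb E, 112 := by
        refine sum_congr rfl fun F _ => ?_
        rw [← card_filter, ← B.card_nb F]
        exact congrArg Finset.card (by ext Y; simp [B.nb_symm (E := Y) (F := F)])
    _ = 112 * 112 := by rw [sum_const, B.card_nb, smul_eq_mul]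

theorem param {l m : ℕ} (hl : ∀ E F, F ∈ B.nb E → B.common E F = l)
    (hm : ∀ E F, F ∉ B.nb E → F ≠ E → B.common E F = m) : 4 * l + 5 * m = 444 := by
  classical
  haveI : Nonempty X := Fintype.card_pos_iff.mp (by rw [B.card_univ_X]; norm_num)
  obtain ⟨E⟩ := (inferInstance : Nonempty X)
  have h := B.sum_common E
  have h1 : ∀ F ∈ univ \ insert E (B.nb E), B.common E F = m := fun F hF => by
    rw [mem_sdiff, mem_insert, not_or] at hF
    exact hm E F hF.2.2 hF.2.1
  rw [← sum_sdiff (subset_univ (insert E (B.nb E))), sum_insert (B.not_mem_nb_self E),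
    B.common_self, sum_congr rfl h1, sum_congr rfl (fun F hF => hl E F hF), sum_const, sum_const,
    card_univ_diff, card_insert_of_notMem (B.not_mem_nb_self E), B.card_nb, B.card_univ_X] at h
  simp only [smul_eq_mul] at h
  omega

/-- The kernel orbits on the neighbours of a block. -/
noncomputable def orbs (E : X) : Finset (Finset X) := (B.nb E).image (B.orb E)

theorem orb_mem_orbs {E F : X} (h : F ∈ B.nb E) : B.orb E F ∈ B.orbs E := mem_image_of_mem _ h

theorem eq_orb {E F : X} {O : Finset X} (hO : O ∈ B.orbs E) (hF : F ∈ O) : O = B.orb E F := by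
  obtain ⟨F₀, -, rfl⟩ := mem_image.mp hO
  exact (B.orb_eq hF).symm

theorem subset_nb {E : X} {O : Finset X} (hO : O ∈ B.orbs E) : O ⊆ B.nb E := by
  obtain ⟨F₀, h₀, rfl⟩ := mem_image.mp hO
  exact B.orb_subset h₀

theorem card_of_mem {E : X} {O : Finset X} (hO : O ∈ B.orbs E) : O.card = 16 := by
  obtain ⟨F₀, h₀, rfl⟩ := mem_image.mp hO
  exact B.card_orb h₀

theorem nb_filter_orb {E : X} {O : Finset X} (hO : O ∈ B.orbs E) :
    (B.nb E).filter (fun F => B.orb E F = O) = O := by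
  ext F
  rw [mem_filter]
  exact ⟨fun h => h.2 ▸ B.self_mem_orb E F, fun h => ⟨B.subset_nb hO h, (B.eq_orb hO h).symm⟩⟩

theorem card_orbs (E : X) : (B.orbs E).card = 7 := by
  have h := card_eq_sum_card_fiberwise (s := B.nb E) (t := B.orbs E) (f := B.orb E)
    (fun F hF => B.orb_mem_orbs hF)
  rw [B.card_nb, sum_congr rfl (fun O hO => by rw [B.nb_filter_orb hO, B.card_of_mem hO]),
    sum_const, smul_eq_mul] at h
  omega

theorem sum_inter_orbs (E Y : X) : ∑ O ∈ B.orbs E, (O ∩ B.nb Y).card = B.common E Y := by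
  classical
  rw [common, card_eq_sum_card_fiberwise (s := B.nb E ∩ B.nb Y) (t := B.orbs E) (f := B.orb E)
    (fun F hF => B.orb_mem_orbs (mem_inter.mp hF).1)]
  refine sum_congr rfl fun O hO => congrArg Finset.card ?_
  ext F
  rw [mem_filter, mem_inter, mem_inter]
  exact ⟨fun h => ⟨⟨B.subset_nb hO h.1, h.2⟩, (B.eq_orb hO h.1).symm⟩,
    fun h => ⟨h.2 ▸ B.self_mem_orb E F, h.1.2⟩⟩

theorem inter_smul (g : G) (O : Finset X) (Y : X) :
    (O.image (g • ·) ∩ B.nb (g • Y)).card = (O ∩ B.nb Y).card := by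
  rw [B.nb_smul, ← image_inter _ _ (MulAction.injective g),
    card_image_of_injective _ (MulAction.injective g)]

theorem six_const {E F : X} (hF : F ∈ B.nb E) {O₁ O₂ : Finset X} (h1 : O₁ ∈ B.orbs E)
    (h2 : O₂ ∈ B.orbs E) (n1 : F ∉ O₁) (n2 : F ∉ O₂) :
    (O₁ ∩ B.nb F).card = (O₂ ∩ B.nb F).card := by
  obtain ⟨F₁, hF₁, rfl⟩ := mem_image.mp h1
  obtain ⟨F₂, hF₂, rfl⟩ := mem_image.mp h2
  have key : ∀ Z, F ∉ B.orb E Z → ∀ k ∈ B.ker E, k • F ≠ Z := by
    intro Z hZ k hk he
    refine hZ (B.mem_orb.mpr ⟨k⁻¹, inv_mem hk, ?_⟩)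
    rw [← he, inv_smul_smul]
  obtain ⟨g, hgE, hgF, k, hk, he⟩ := B.six E F F₁ F₂ (B.mem_nb.mp hF) (B.mem_nb.mp hF₁)
    (B.mem_nb.mp hF₂) (key _ n1) (key _ n2)
  have := B.inter_smul g (B.orb E F₁) F
  rw [← B.orb_smul, hgE, hgF, he, B.orb_eq (B.mem_orb.mpr ⟨k, hk, rfl⟩)] at this
  exact this.symm

theorem own_orbit {E F : X} (hF : F ∈ B.nb E) :
    (B.orb E F ∩ B.nb F).card = 0 ∨ (B.orb E F ∩ B.nb F).card = 15 := by
  rcases (B.orb E F ∩ B.nb F).eq_empty_or_nonempty with h | ⟨Y, hY⟩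
  · left; rw [h]; rfl
  · right
    rw [mem_inter, mem_orb] at hY
    obtain ⟨⟨k₀, hk₀, rfl⟩, hY⟩ := hY
    have h0 : k₀ ≠ 1 := fun h => B.not_mem_nb_self F (by rwa [h, one_smul] at hY)
    have : B.orb E F ∩ B.nb F = (B.orb E F).erase F := by
      ext Z
      rw [mem_inter, mem_erase, and_comm]
      constructor
      · rintro ⟨h1, h2⟩
        exact ⟨fun h => B.not_mem_nb_self F (h ▸ h1), h2⟩
      · rintro ⟨hne, hZ⟩
        refine ⟨?_, hZ⟩
        obtain ⟨k, hk, rfl⟩ := B.mem_orb.mp hZ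
        obtain ⟨g, hgE, hgF, hg⟩ := B.conj_ker E F k₀ k (B.mem_nb.mp hF) hk₀ h0 hk
          (fun h => hne (by rw [h, one_smul]))
        have hg' : g • k₀ • F = k • F := by
          rw [← hg, mul_smul, mul_smul, inv_smul_eq_iff.mpr hgF.symm]
        rw [← hg']
        have := B.nb_smul_mem (g := g) |>.mpr hY
        rwa [hgF] at this
    rw [this, card_erase_of_mem (B.self_mem_orb E F), B.card_orb hF]

theorem trace_test {l m : ℕ} (hl : ∀ E F, F ∈ B.nb E → B.common E F = l)
    (hm : ∀ E F, F ∉ B.nb E → F ≠ E → B.common E F = m) (p : ℕ) [Fact p.Prime] :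
    powTest p l m = 0 := by
  classical
  refine powTest_eq_zero p l m (Matrix.of fun i j => if j ∈ B.nb i then 1 else 0)
    (Matrix.of fun _ _ => 1)
    B.card_univ_X (fun _ _ => rfl) (fun i => if_neg (B.not_mem_nb_self i)) ?_ ?_
  · ext i j
    have hs : ((Matrix.of fun i j => if j ∈ B.nb i then (1 : ZMod p) else 0) *
        (Matrix.of fun i j => if j ∈ B.nb i then (1 : ZMod p) else 0) : Matrix X X (ZMod p)) i j
        = (B.common i j : ZMod p) := by
      rw [Matrix.mul_apply, common, ← filter_mem_eq_inter, card_filter, Nat.cast_sum]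
      simp only [Matrix.of_apply]
      rw [← sum_subset (subset_univ (B.nb i)) (fun k _ hk => by rw [if_neg hk, zero_mul])]
      refine sum_congr rfl fun k hk => ?_
      simp only [if_pos hk, one_mul, B.nb_symm (E := k) (F := j)]
      split_ifs <;> simp
    rw [hs]
    simp only [Matrix.add_apply, Matrix.smul_apply, Matrix.one_apply, Matrix.of_apply, smul_eq_mul]
    by_cases hij : i = j
    · subst hij
      rw [B.common_self, if_pos rfl, if_neg (B.not_mem_nb_self i)]
      push_cast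
      ring
    · by_cases hj : j ∈ B.nb i
      · rw [hl i j hj, if_neg hij, if_pos hj]; ring
      · rw [hm i j hj (Ne.symm hij), if_neg hij, if_neg hj]; ring
  · ext i j
    rw [Matrix.mul_apply, Matrix.smul_apply, smul_eq_mul]
    simp only [Matrix.of_apply, one_mul, mul_one]
    rw [← Nat.cast_ofNat (n := 112), ← B.card_nb j, card_eq_sum_ones, Nat.cast_sum,
      ← sum_subset (subset_univ (B.nb j)) (fun k _ hk => if_neg (fun h => hk (B.nb_symm.mp h)))]
    exact sum_congr rfl fun k hk => by rw [if_pos (B.nb_symm.mp hk), Nat.cast_one]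

/-- The parameters are (253, 112, 36, 60); kernel orbits are cocliques, meeting other orbits
in six neighbours. -/
theorem parameters :
    (∀ E F, F ∈ B.nb E → B.common E F = 36) ∧
    (∀ E F, F ∉ B.nb E → F ≠ E → B.common E F = 60) ∧
    (∀ E F, ∀ O ∈ B.orbs E, F ∈ B.nb E →
      (O ∩ B.nb F).card = if F ∈ O then 0 else 6) := by
  classical
  obtain ⟨l, m, hl, hm⟩ := B.exists_const
  have hp := B.param hl hm
  have split : ∀ E F, F ∈ B.nb E → ∃ e a, (e = 0 ∨ e = 15) ∧ a ≤ 16 ∧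
      (B.orb E F ∩ B.nb F).card = e ∧
      (∀ O ∈ B.orbs E, F ∉ O → (O ∩ B.nb F).card = a) ∧ l = e + 6 * a := by
    intro E F hF
    have hO := B.orb_mem_orbs hF
    obtain ⟨O', hO'⟩ : ((B.orbs E).erase (B.orb E F)).Nonempty := card_pos.mp (by
      rw [card_erase_of_mem hO, B.card_orbs]; norm_num)
    rw [mem_erase] at hO'
    have hnot : ∀ O ∈ B.orbs E, O ≠ B.orb E F → F ∉ O := fun O hO hne hFO => hne (B.eq_orb hO hFO)
    have ha : ∀ O ∈ B.orbs E, F ∉ O → (O ∩ B.nb F).card = (O' ∩ B.nb F).card := fun O hO1 hn =>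
      B.six_const hF hO1 hO'.2 hn (hnot O' hO'.2 hO'.1)
    refine ⟨_, _, B.own_orbit hF, ?_, rfl, ha, ?_⟩
    · exact (card_le_card inter_subset_left).trans (B.card_of_mem hO'.2).le
    · rw [← hl E F hF, ← B.sum_inter_orbs E F, ← add_sum_erase _ _ hO,
        sum_congr rfl (fun O hO1 => ha O (mem_erase.mp hO1).2
          (hnot O (mem_erase.mp hO1).2 (mem_erase.mp hO1).1)), sum_const,
        card_erase_of_mem hO, B.card_orbs, smul_eq_mul]
  obtain ⟨E₀⟩ : Nonempty X := Fintype.card_pos_iff.mp (by rw [B.card_univ_X]; norm_num)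
  obtain ⟨F₀, hF₀⟩ : (B.nb E₀).Nonempty := card_pos.mp (by rw [B.card_nb]; norm_num)
  have hlm : l = 36 ∧ m = 60 := by
    obtain ⟨e, a, he, ha, -, -, hla⟩ := split E₀ F₀ hF₀
    haveI : Fact (Nat.Prime 13) := ⟨by norm_num⟩
    haveI : Fact (Nat.Prime 113) := ⟨by norm_num⟩
    have h13 := B.trace_test hl hm 13
    have h113 := B.trace_test hl hm 113
    have hcases : (l = 6 ∧ m = 84) ∨ (l = 21 ∧ m = 72) ∨ (l = 36 ∧ m = 60) ∨ (l = 51 ∧ m = 48) ∨
        (l = 66 ∧ m = 36) ∨ (l = 81 ∧ m = 24) ∨ (l = 96 ∧ m = 12) ∨ (l = 111 ∧ m = 0) := by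
      rcases he with he | he <;> interval_cases a <;> omega
    rcases hcases with ⟨rfl, rfl⟩ | ⟨rfl, rfl⟩ | h | ⟨rfl, rfl⟩ | ⟨rfl, rfl⟩ | ⟨rfl, rfl⟩ |
        ⟨rfl, rfl⟩ | ⟨rfl, rfl⟩
    · exact absurd h13 (by decide +kernel +revert)
    · exact absurd h13 (by decide +kernel +revert)
    · exact h
    · exact absurd h13 (by decide +kernel +revert)
    · exact absurd h13 (by decide +kernel +revert)
    · exact absurd h13 (by decide +kernel +revert)
    · exact absurd h13 (by decide +kernel +revert)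
    · exact absurd h113 (by decide +kernel +revert)
  obtain ⟨rfl, rfl⟩ := hlm
  refine ⟨hl, hm, fun E F O hO hF => ?_⟩
  obtain ⟨e, a, he, -, h0, hoth, hla⟩ := split E F hF
  split_ifs with hFO
  · rw [B.eq_orb hO hFO, h0]; omega
  · rw [hoth O hO hFO]; omega

end Blocks

end CfsgLib.M23Nse
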