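import Cfsg.Agent.M23Nse.GeomPoints
import Cfsg.Agent.Steiner.Transport23
import Cfsg.Prelude.Def_Spor_Mathieu

/-!
A simple group of order 10200960 acting on 253 blocks is the Mathieu group M₂₃: the recovered
points and blocks form a Steiner system S(4, 7, 23).
-/

set_option autoImplicit false

namespace CfsgLib.M23Nse

open MulAction Finset
open Cfsg (IsSteinerSystem GolayPt M24 golayCode)

universe u v

variable {G : Type u} [Group G] {X : Type v} [MulAction G X] [Fintype X] [DecidableEq X]
  (B : Blocks G X)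

namespace Blocks

include B

/-- The points: for each, the set of blocks through it. -/
noncomputable def points (B : Blocks G X) : Finset (Finset X) :=
  univ.biUnion fun E => (B.orbs E).image (B.ptOf E)

theorem mem_points {p : Finset X} : p ∈ B.points ↔ ∃ E, ∃ O ∈ B.orbs E, B.ptOf E O = p := by
  simp [points]

theorem flag_of_mem {p : Finset X} (hp : p ∈ B.points) {Y : X} (hY : Y ∈ p) :
    ∃ P ∈ B.orbs Y, B.ptOf Y P = p := by
  obtain ⟨E, O, hO, rfl⟩ := B.mem_points.mp hp
  obtain ⟨P, hP, he⟩ := B.exists_flag hO hY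
  exact ⟨P, hP, by rw [ptOf, ptOf, he]⟩

theorem filter_points (E : X) :
    B.points.filter (fun p => E ∈ p) = (B.orbs E).image (B.ptOf E) := by
  ext p
  rw [mem_filter, mem_image]
  constructor
  · rintro ⟨hp, hE⟩; exact B.flag_of_mem hp hE
  · rintro ⟨O, hO, rfl⟩
    exact ⟨B.mem_points.mpr ⟨E, O, hO, rfl⟩, B.mem_ptOf.mpr (B.vec_self hO)⟩

theorem ptOf_inj (E : X) : Set.InjOn (B.ptOf E) (B.orbs E : Set (Finset X)) := by
  intro O hO O' hO' he
  obtain ⟨F, hF⟩ : O.Nonempty := card_pos.mp (by rw [B.card_of_mem hO]; norm_num)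
  by_contra hne
  have hF' : F ∉ O' := fun h => hne ((B.eq_orb hO hF).trans (B.eq_orb hO' h).symm)
  have h := B.mem_ptOf.mpr (B.vec_mem hO hF)
  rw [he, mem_ptOf, B.vec_nb hO' (B.subset_nb hO hF) hF'] at h
  norm_num at h

theorem card_filter_points (E : X) : (B.points.filter fun p => E ∈ p).card = 7 := by
  rw [B.filter_points, card_image_of_injOn (B.ptOf_inj E), B.card_orbs]

theorem card_points : B.points.card = 23 := by
  have h1 : ∑ p ∈ B.points, p.card = 253 * 7 := by
    calc ∑ p ∈ B.points, p.card = ∑ p ∈ B.points, ∑ Y, (if Y ∈ p then 1 else 0) :=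
          sum_congr rfl fun p _ => by rw [← card_filter, filter_univ_mem]
      _ = ∑ Y, ∑ p ∈ B.points, (if Y ∈ p then 1 else 0) := sum_comm
      _ = ∑ Y : X, 7 := sum_congr rfl fun Y _ => by rw [← card_filter, B.card_filter_points]
      _ = 253 * 7 := by rw [sum_const, card_univ, B.card_univ_X, smul_eq_mul]
  have h2 : ∑ p ∈ B.points, p.card = B.points.card * 77 := by
    rw [sum_congr rfl (fun p hp => ?_), sum_const, smul_eq_mul]
    obtain ⟨E, O, hO, rfl⟩ := B.mem_points.mp hp
    exact B.card_ptOf hO
  omega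

/-- The blocks as sets of points. -/
noncomputable def blk (B : Blocks G X) (E : X) : Finset {p // p ∈ B.points} :=
  univ.filter fun p => E ∈ p.1

theorem card_blk (E : X) : (B.blk E).card = 7 := by
  rw [← B.card_filter_points E, ← card_map (Function.Embedding.subtype _)]
  congr 1
  ext p
  simp [blk, and_comm]

theorem card_blk_inter {E F : X} (hne : F ≠ E) : (B.blk E ∩ B.blk F).card ≤ 3 := by
  have h : (B.blk E ∩ B.blk F).card = ((B.orbs E).filter fun O => F ∈ B.ptOf E O).card := by
    rw [← card_map (Function.Embedding.subtype _),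
      ← card_image_of_injOn (s := (B.orbs E).filter fun O => F ∈ B.ptOf E O) (f := B.ptOf E)
        ((B.ptOf_inj E).mono (by intro O hO; exact (mem_filter.mp hO).1))]
    congr 1
    ext p
    simp only [mem_map, mem_inter, blk, mem_filter, mem_univ, true_and, mem_image,
      Function.Embedding.subtype_apply]
    constructor
    · rintro ⟨q, ⟨hE, hF⟩, rfl⟩
      obtain ⟨P, hP, he⟩ := B.flag_of_mem q.2 hE
      exact ⟨P, ⟨hP, he ▸ hF⟩, he⟩
    · rintro ⟨O, ⟨hO, hF⟩, rfl⟩
      exact ⟨⟨_, B.mem_points.mpr ⟨E, O, hO, rfl⟩⟩, ⟨B.mem_ptOf.mpr (B.vec_self hO), hF⟩, rfl⟩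
  rw [h]
  by_cases hn : F ∈ B.nb E
  · have : ((B.orbs E).filter fun O => F ∈ B.ptOf E O) ⊆ {B.orb E F} := by
      intro O hO
      rw [mem_filter, mem_ptOf] at hO
      rw [mem_singleton]
      by_contra hc
      rw [B.vec_nb hO.1 hn (fun h => hc (B.eq_orb hO.1 h))] at hO
      norm_num at hO
    exact (card_le_card this).trans (by simp)
  · rw [← (B.non_counts hn hne).2]
    refine card_le_card fun O hO => ?_
    rw [mem_filter, mem_ptOf] at hO
    rw [mem_filter]
    refine ⟨hO.1, ?_⟩
    rw [B.vec_non hO.1 hn hne] at hO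
    omega

theorem blk_injective : Function.Injective B.blk := by
  intro E F he
  by_contra hne
  have h := B.card_blk_inter (E := E) (F := F) (Ne.symm hne)
  rw [← he, inter_self, B.card_blk] at h
  omega

theorem card_pts : Fintype.card {p // p ∈ B.points} = 23 := by
  rw [Fintype.card_coe, B.card_points]

/-- The recovered system is a Steiner system S(4, 7, 23). -/
theorem steiner : IsSteinerSystem 4 7 (Set.range B.blk) := by
  classical
  refine ⟨?_, ?_⟩
  · rintro _ ⟨E, rfl⟩; exact B.card_blk E
  · let T : Finset (Σ _E : X, Finset {p // p ∈ B.points}) :=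
      (univ : Finset X).sigma fun E => (B.blk E).powersetCard 4
    let U : Finset (Finset {p // p ∈ B.points}) := (univ : Finset _).powersetCard 4
    have uniq : ∀ E F (s : Finset {p // p ∈ B.points}), s.card = 4 → s ⊆ B.blk E → s ⊆ B.blk F →
        E = F := by
      intro E F s hs h1 h2
      by_contra hne
      have := (card_le_card (subset_inter h1 h2)).trans
        (B.card_blk_inter (E := E) (F := F) (Ne.symm hne))
      omega
    have hinj : Set.InjOn (fun x => x.2) (T : Set (Σ _E : X, Finset {p // p ∈ B.points})) := by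
      rintro ⟨E, s⟩ hs ⟨F, s'⟩ hs' he
      simp only [T, coe_sigma, Set.mem_sigma_iff, mem_coe, mem_powersetCard] at hs hs'
      simp only at he
      subst he
      rw [uniq E F s hs.2.2 hs.2.1 hs'.2.1]
    have himg : T.image (fun x => x.2) = U := by
      refine eq_of_subset_of_card_le ?_ ?_
      · intro s hs
        obtain ⟨⟨E, t⟩, ht, rfl⟩ := mem_image.mp hs
        simp only [T, mem_sigma, mem_powersetCard] at ht
        exact mem_powersetCard.mpr ⟨subset_univ _, ht.2.2⟩
      · rw [card_image_of_injOn hinj, card_powersetCard, card_univ, B.card_pts, card_sigma,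
          sum_congr rfl (fun E _ => by rw [card_powersetCard, B.card_blk]), sum_const, card_univ,
          B.card_univ_X]
        decide
    intro s hs
    have hsU : s ∈ U := mem_powersetCard.mpr ⟨subset_univ _, hs⟩
    rw [← himg] at hsU
    obtain ⟨⟨E, t⟩, ht, rfl⟩ := mem_image.mp hsU
    simp only [T, mem_sigma, mem_powersetCard] at ht
    refine ⟨B.blk E, ⟨⟨E, rfl⟩, ht.2.1⟩, ?_⟩
    rintro _ ⟨⟨F, rfl⟩, hF⟩
    rw [uniq F E t hs hF ht.2.1]

theorem image_points (g : G) {p : Finset X} (hp : p ∈ B.points) :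
    p.image (g • ·) ∈ B.points := by
  obtain ⟨E, O, hO, rfl⟩ := B.mem_points.mp hp
  refine B.mem_points.mpr ⟨g • E, O.image (g • ·), by
    rw [B.orbs_smul]; exact mem_image_of_mem _ hO, ?_⟩
  ext Y
  obtain ⟨Z, rfl⟩ : ∃ Z, g • Z = Y := ⟨g⁻¹ • Y, smul_inv_smul g Y⟩
  rw [mem_ptOf, B.vec_smul, (MulAction.injective g).mem_finset_image, B.mem_ptOf]

/-- A group element as a permutation of the points. -/
noncomputable def ptPerm (B : Blocks G X) : G →* Equiv.Perm {p // p ∈ B.points} where
  toFun g :=
    { toFun := fun p => ⟨p.1.image (g • ·), B.image_points g p.2⟩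
      invFun := fun p => ⟨p.1.image (g⁻¹ • ·), B.image_points g⁻¹ p.2⟩
      left_inv := fun p => Subtype.ext (by simp [image_image, Function.comp_def])
      right_inv := fun p => Subtype.ext (by simp [image_image, Function.comp_def]) }
  map_one' := Equiv.ext fun p => Subtype.ext (by simp)
  map_mul' g h := Equiv.ext fun p => Subtype.ext (by
    simp [image_image, Function.comp_def, mul_smul])

theorem blk_smul (g : G) (E : X) : (B.blk E).image (B.ptPerm g) = B.blk (g • E) := by
  ext p
  obtain ⟨q, rfl⟩ := (B.ptPerm g).surjective p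
  rw [(B.ptPerm g).injective.mem_finset_image]
  simp only [blk, mem_filter, mem_univ, true_and]
  exact ((MulAction.injective g).mem_finset_image (s := q.1) (a := E)).symm

theorem ptPerm_injective (hs : IsSimpleGroup G) : Function.Injective B.ptPerm := by
  classical
  haveI := B.trans
  rw [← MonoidHom.ker_eq_bot_iff]
  rcases hs.eq_bot_or_eq_top_of_normal B.ptPerm.ker inferInstance with h | h
  · exact h
  · exfalso
    haveI : Nontrivial X := Fintype.one_lt_card_iff_nontrivial.mp (by
      rw [B.card_univ_X]; norm_num)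
    obtain ⟨E, F, hne⟩ := exists_pair_ne X
    obtain ⟨g, rfl⟩ := MulAction.exists_smul_eq G E F
    have hg : B.ptPerm g = 1 := MonoidHom.mem_ker.mp (h ▸ Subgroup.mem_top g)
    have h1 := B.blk_smul g E
    rw [hg] at h1
    exact hne (B.blk_injective (by simpa using h1))

end Blocks

open Blocks in
/-- A simple group of order 10200960 with such an action is isomorphic to M₂₃. -/
theorem iso_of_blocks {G : Type u} {X : Type v} [Group G] [Finite G] [MulAction G X]
    (hs : IsSimpleGroup G) (hc : Nat.card G = 10200960) (B : Blocks G X) :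
    Nonempty (G ≃* ↥Cfsg.Spor.M23) := by
  classical
  haveI : Finite X := Nat.finite_of_card_ne_zero (by rw [B.card_X]; norm_num)
  haveI : Fintype X := Fintype.ofFinite X
  obtain ⟨e, hev, -⟩ := Steiner.exists_model23 B.steiner B.card_pts
  let Φ : G →* Equiv.Perm GolayPt :=
    { toFun := fun g => e.permCongr (Equiv.optionCongr (B.ptPerm g))
      map_one' := by ext x; simp
      map_mul' := fun g h => by
        ext x
        obtain ⟨o, rfl⟩ := e.surjective x
        rcases o with _ | p <;> simp }
  have hmem : ∀ g, Φ g ∈ M24 := fun g => Steiner.conj_mem_M24 e hev _ fun v hv => by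
    induction hv using Submodule.span_induction with
    | mem y hy =>
      obtain ⟨b, ⟨E, rfl⟩, rfl⟩ := hy
      refine Submodule.subset_span ⟨(B.blk E).image (B.ptPerm g), ⟨g • E, (B.blk_smul g E).symm⟩, ?_⟩
      show Steiner.ind _ = _
      rw [Steiner.ind_comp_symm]
      congr 1
      ext (_ | a)
      · simp
      · obtain ⟨q, rfl⟩ := (B.ptPerm g).surjective a
        have hq : some (B.ptPerm g q) = Equiv.optionCongr (B.ptPerm g) (some q) := rfl
        simp only [some_mem_insertNone, (B.ptPerm g).injective.mem_finset_image]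
        rw [hq, (Equiv.optionCongr (B.ptPerm g)).injective.mem_finset_image, some_mem_insertNone]
    | zero => exact Submodule.zero_mem _
    | add y z _ _ hy hz => exact Submodule.add_mem _ hy hz
    | smul r y _ hy => exact Submodule.smul_mem _ r hy
  haveI := Golay.pretransitive
  obtain ⟨σ, hσ⟩ := MulAction.exists_smul_eq M24 (e none) (none : GolayPt)
  let Ψ : G →* Equiv.Perm GolayPt := (MulAut.conj (σ : Equiv.Perm GolayPt)).toMonoidHom.comp Φ
  have hΨ : ∀ g, Ψ g ∈ Cfsg.Spor.M23 := by
    intro g
    refine Subgroup.mem_inf.mpr ⟨mul_mem (mul_mem σ.2 (hmem g)) (inv_mem σ.2), ?_⟩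
    show ((σ : Equiv.Perm GolayPt) * Φ g * (σ : Equiv.Perm GolayPt)⁻¹) none = none
    have h0 : (σ : Equiv.Perm GolayPt) (e none) = none := hσ
    have h1 : (σ : Equiv.Perm GolayPt)⁻¹ none = e none := by
      rw [Equiv.Perm.inv_eq_iff_eq, h0]
    rw [Equiv.Perm.mul_apply, Equiv.Perm.mul_apply, h1]
    simpa [Φ] using h0
  have hinj : Function.Injective (Ψ.codRestrict Cfsg.Spor.M23 hΨ) := by
    intro g g' hgg
    have h1 : Φ g = Φ g' := (MulAut.conj (σ : Equiv.Perm GolayPt)).injective
      (congrArg Subtype.val hgg : Ψ g = Ψ g')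
    exact B.ptPerm_injective hs (Equiv.optionCongr_injective (e.permCongr.injective h1))
  have hcard : Nat.card ↥Cfsg.Spor.M23 = 10200960 := by
    rw [show Cfsg.Spor.M23 = (MulAction.stabilizer M24 (none : GolayPt)).map M24.subtype from ?_,
      Subgroup.card_map_of_injective M24.subtype_injective, Golay.card_stab_point]
    ext x
    constructor
    · rintro ⟨h1, h2⟩; exact ⟨⟨x, h1⟩, h2, rfl⟩
    · rintro ⟨⟨y, hy⟩, h2, rfl⟩; exact ⟨hy, h2⟩
  exact ⟨MulEquiv.ofBijective _ ((Nat.bijective_iff_injective_and_card _).mpr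
    ⟨hinj, hc.trans hcard.symm⟩)⟩

end CfsgLib.M23Nse
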