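import Cfsg.Agent.M23Nse.GeomGraph

/-!
The 23 points recovered from the block graph: each flag (block, kernel orbit on its neighbours)
has a Gram vector taking the value 256 on 77 blocks and -112 on the others.
-/

set_option autoImplicit false

namespace CfsgLib.M23Nse

open MulAction Finset

universe u v

variable {G : Type u} [Group G] {X : Type v} [MulAction G X] [Fintype X] [DecidableEq X]
  (B : Blocks G X)

namespace Blocks

include B

/-- The adjacency function. -/
noncomputable def adjZ (E F : X) : ℤ := if F ∈ B.nb E then 1 else 0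

/-- The identity function. -/
noncomputable def selfZ (_S : Blocks G X) (E F : X) : ℤ := if F = E then 1 else 0

/-- The Gram entries of the blocks in the 22-dimensional eigenspace. -/
noncomputable def gram (E F : X) : ℤ := 92 * B.selfZ E F + 20 - 46 * B.adjZ E F

theorem gram_self (E : X) : B.gram E E = 112 := by
  simp [gram, selfZ, adjZ, B.not_mem_nb_self E]

theorem gram_adj {E F : X} (h : F ∈ B.nb E) : B.gram E F = -26 := by
  have hne : F ≠ E := fun he => B.not_mem_nb_self E (he ▸ h)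
  simp [gram, selfZ, adjZ, h, hne]

theorem gram_non {E F : X} (h : F ∉ B.nb E) (hne : F ≠ E) : B.gram E F = 20 := by
  simp [gram, selfZ, adjZ, h, hne]

theorem adjZ_comm (E F : X) : B.adjZ E F = B.adjZ F E := by
  simp only [adjZ, B.nb_symm (E := E) (F := F)]

theorem selfZ_comm (E F : X) : B.selfZ E F = B.selfZ F E := by simp only [selfZ, eq_comm]

theorem gram_comm (E F : X) : B.gram E F = B.gram F E := by
  rw [gram, gram, B.adjZ_comm, B.selfZ_comm]

theorem gram_smul (g : G) (E F : X) : B.gram (g • E) (g • F) = B.gram E F := by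
  simp only [gram, selfZ, adjZ, B.nb_smul_mem, smul_left_cancel_iff]

theorem sum_adjZ (E : X) : ∑ F, B.adjZ E F = 112 := by
  simp [adjZ, B.card_nb]

theorem sum_selfZ (E : X) (f : X → ℤ) : ∑ F, B.selfZ E F * f F = f E := by
  simp [selfZ, ite_mul]

theorem sum_selfZ_one (E : X) : ∑ F, B.selfZ E F = 1 := by simp [selfZ]

theorem sum_adjZ_mul (E F : X) :
    ∑ Y, B.adjZ E Y * B.adjZ F Y = 52 * B.selfZ E F + (-24) * B.adjZ E F + 60 := by
  have h : ∑ Y, B.adjZ E Y * B.adjZ F Y = (B.common E F : ℤ) := by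
    simp only [adjZ, common, ite_mul, one_mul, zero_mul, ← ite_and]
    rw [← sum_filter, sum_const, nsmul_one]
    exact congrArg Nat.cast (congrArg Finset.card (by ext Y; simp))
  rw [h]
  obtain ⟨hl, hm, -⟩ := B.parameters
  by_cases he : F = E
  · subst he
    rw [B.common_self]; simp [selfZ, adjZ, B.not_mem_nb_self F]
  · by_cases ha : F ∈ B.nb E
    · rw [hl E F ha]; simp [selfZ, adjZ, ha, he]
    · rw [hm E F ha he]; simp [selfZ, adjZ, ha, he]

theorem sum_gram (E : X) : ∑ F, B.gram E F = 0 := by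
  simp only [gram, sum_sub_distrib, sum_add_distrib, ← mul_sum, B.sum_adjZ, B.sum_selfZ_one,
    sum_const, card_univ, B.card_univ_X]
  norm_num

theorem gram_sq (E F : X) : ∑ Y, B.gram E Y * B.gram Y F = 1288 * B.gram E F := by
  have e1 : ∀ Y, B.gram E Y * B.gram Y F =
      92 * (B.selfZ E Y * B.gram Y F) + 20 * B.gram F Y + (-46) * (92 * (B.selfZ F Y * B.adjZ E Y))
        + (-920) * B.adjZ E Y + 2116 * (B.adjZ E Y * B.adjZ F Y) := fun Y => by
    rw [B.gram_comm Y F]
    simp only [gram]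
    ring
  simp only [e1, sum_add_distrib, ← mul_sum, B.sum_selfZ, B.sum_gram, B.sum_adjZ, B.sum_adjZ_mul]
  simp only [gram]
  ring

/-- The Gram vector of the flag `(E, O)`. -/
noncomputable def vec (E : X) (O : Finset X) (Y : X) : ℤ :=
  6 * B.gram Y E + ∑ Z ∈ O, B.gram Y Z

/-- The pairing of a flag with a function. -/
noncomputable def pair (_S : Blocks G X) (E : X) (O : Finset X) (f : X → ℤ) : ℤ := 6 * f E + ∑ Z ∈ O, f Z

theorem sum_vec_mul (E : X) (O : Finset X) (f : X → ℤ) :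
    ∑ Y, B.vec E O Y * f Y = B.pair E O (fun Z => ∑ Y, B.gram Y Z * f Y) := by
  simp only [vec, pair, add_mul, sum_mul, sum_add_distrib, mul_sum, mul_assoc]
  rw [sum_comm (s := (univ : Finset X))]

theorem sum_gram_vec (E : X) (O : Finset X) (Z : X) :
    ∑ Y, B.gram Y Z * B.vec E O Y = 1288 * B.vec E O Z := by
  have h : ∀ Y, B.gram Y Z * B.vec E O Y =
      6 * (B.gram Z Y * B.gram Y E) + ∑ W ∈ O, B.gram Z Y * B.gram Y W := fun Y => by
    rw [vec, mul_add, mul_sum, B.gram_comm Y Z]; ring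
  simp only [h, sum_add_distrib]
  rw [sum_comm (s := (univ : Finset X))]
  simp only [B.gram_sq, vec, ← mul_sum]
  ring

theorem sum_vec (E : X) (O : Finset X) : ∑ Y, B.vec E O Y = 0 := by
  simp only [vec, sum_add_distrib, ← mul_sum]
  rw [sum_comm]
  simp [fun Z => (sum_congr rfl fun Y _ => B.gram_comm Y Z).trans (B.sum_gram Z)]

/-- The inner product of two Gram vectors. -/
theorem sum_vec_vec (E F : X) (O P : Finset X) :
    ∑ Y, B.vec E O Y * B.vec F P Y = 1288 * B.pair E O (B.vec F P) := by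
  rw [B.sum_vec_mul, pair, pair]
  simp only [B.sum_gram_vec, ← mul_sum]
  ring

/-- Number of neighbours of `Y` in an orbit. -/
noncomputable def cnt (O : Finset X) (Y : X) : ℕ := (O ∩ B.nb Y).card

theorem cnt_inside {E F : X} {O : Finset X} (hO : O ∈ B.orbs E) (hF : F ∈ O) : B.cnt O F = 0 := by
  rw [cnt, B.parameters.2.2 E F O hO (B.subset_nb hO hF), if_pos hF]

theorem cnt_six {E F : X} {O : Finset X} (hO : O ∈ B.orbs E) (hE : F ∈ B.nb E) (hF : F ∉ O) :
    B.cnt O F = 6 := by
  rw [cnt, B.parameters.2.2 E F O hO hE, if_neg hF]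

theorem sum_gram_orbit {O : Finset X} (hO : O.card = 16) (Y : X) :
    ∑ Z ∈ O, B.gram Y Z = 92 * (if Y ∈ O then 1 else 0) + 320 - 46 * (B.cnt O Y : ℤ) := by
  simp only [gram, sum_sub_distrib, sum_add_distrib, ← mul_sum, sum_const, hO]
  have h1 : ∑ Z ∈ O, B.selfZ Y Z = if Y ∈ O then 1 else 0 := by simp [selfZ]
  have h2 : ∑ Z ∈ O, B.adjZ Y Z = (B.cnt O Y : ℤ) := by
    simp only [adjZ, cnt]
    rw [sum_ite_mem, sum_const, nsmul_one]
  rw [h1, h2]
  norm_num

section Flag

variable {E : X} {O : Finset X} (hO : O ∈ B.orbs E)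

include hO

theorem vec_self : B.vec E O E = 256 := by
  have hn : E ∉ O := fun h => B.not_mem_nb_self E (B.subset_nb hO h)
  have hc : B.cnt O E = 16 := by
    rw [cnt, inter_eq_left.mpr (B.subset_nb hO), B.card_of_mem hO]
  rw [vec, B.sum_gram_orbit (B.card_of_mem hO), B.gram_self, if_neg hn, hc]
  norm_num

theorem vec_mem {F : X} (hF : F ∈ O) : B.vec E O F = 256 := by
  rw [vec, B.sum_gram_orbit (B.card_of_mem hO), B.gram_adj (B.nb_symm.mp (B.subset_nb hO hF)),
    if_pos hF, B.cnt_inside hO hF]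
  norm_num

theorem vec_nb {F : X} (hE : F ∈ B.nb E) (hF : F ∉ O) : B.vec E O F = -112 := by
  rw [vec, B.sum_gram_orbit (B.card_of_mem hO), B.gram_adj (B.nb_symm.mp hE),
    if_neg hF, B.cnt_six hO hE hF]
  norm_num

theorem vec_non {F : X} (hE : F ∉ B.nb E) (hne : F ≠ E) :
    B.vec E O F = 440 - 46 * (B.cnt O F : ℤ) := by
  have hF : F ∉ O := fun h => hE (B.subset_nb hO h)
  rw [vec, B.sum_gram_orbit (B.card_of_mem hO),
    B.gram_non (fun h => hE (B.nb_symm.mp h)) (Ne.symm hne), if_neg hF]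
  ring

theorem pair_self : B.pair E O (B.vec E O) = 5632 := by
  rw [pair, B.vec_self hO, sum_congr rfl (fun Z hZ => B.vec_mem hO hZ), sum_const,
    B.card_of_mem hO]
  norm_num

theorem sum_quadratic : ∑ Y, (B.vec E O Y - 256) * (B.vec E O Y + 112) = 0 := by
  have h : ∀ Y, (B.vec E O Y - 256) * (B.vec E O Y + 112) =
      B.vec E O Y * B.vec E O Y + (-144) * B.vec E O Y + (-28672) := fun Y => by ring
  simp only [h, sum_add_distrib, ← mul_sum, B.sum_vec_vec, B.pair_self hO, B.sum_vec, sum_const,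
    card_univ, B.card_univ_X]
  norm_num

end Flag

theorem orbs_smul (g : G) (E : X) : B.orbs (g • E) = (B.orbs E).image (Finset.image (g • ·)) := by
  rw [orbs, orbs, B.nb_smul, image_image, image_image]
  exact image_congr fun F _ => B.orb_smul g E F

theorem vec_smul (g : G) (E : X) (O : Finset X) (Y : X) :
    B.vec (g • E) (O.image (g • ·)) (g • Y) = B.vec E O Y := by
  simp only [vec, B.gram_smul, sum_image (MulAction.injective g).injOn]

theorem four_dvd_cnt {E F : X} {O : Finset X} (hE : F ∉ B.nb E) (hne : F ≠ E)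
    (hO : O ∈ B.orbs E) : 4 ∣ B.cnt O F := by
  classical
  let S : Subgroup G := B.ker E ⊓ stabilizer G F
  haveI : Finite S := Nat.finite_of_card_ne_zero (by
    rw [B.card_non E F hne (fun h => hE (B.mem_nb.mpr h))]; norm_num)
  let T : Finset X := O ∩ B.nb F
  let f : X → Finset X := fun Y => univ.filter fun Z => ∃ k ∈ S, k • Y = Z
  have hmem : ∀ Y ∈ T, ∀ k ∈ S, k • Y ∈ T := by
    intro Y hY k hk
    rw [mem_inter] at hY ⊢
    refine ⟨?_, ?_⟩
    · rw [B.eq_orb hO hY.1]; exact B.mem_orb.mpr ⟨k, hk.1, rfl⟩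
    · have := B.nb_smul_mem (g := k) |>.mpr hY.2
      rwa [mem_stabilizer_iff.mp hk.2] at this
  have hfc : ∀ Y ∈ T, (f Y).card = 4 := by
    intro Y hY
    rw [← B.card_non E F hne (fun h => hE (B.mem_nb.mpr h)), ← Nat.card_eq_finsetCard]
    refine (Nat.card_congr (Equiv.ofBijective
      (fun k : S => (⟨(k : G) • Y, by simp only [f, mem_filter, mem_univ, true_and]
                                      exact ⟨k, k.2, rfl⟩⟩ : ↥(f Y))) ⟨?_, ?_⟩)).symm
    · intro k k' hkk
      have he : (k : G) • Y = (k' : G) • Y := congrArg Subtype.val hkk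
      have hYE : Adj B.ker E Y := B.mem_nb.mp (B.subset_nb hO (mem_inter.mp hY).1)
      have h1 : ((k : G)⁻¹ * k') = 1 := (Subgroup.eq_bot_iff_forall _).mp hYE.2 _
        ⟨(B.ker E).mul_mem ((B.ker E).inv_mem k.2.1) k'.2.1,
          mem_stabilizer_iff.mpr (by rw [mul_smul, ← he, inv_smul_smul])⟩
      exact Subtype.ext (inv_mul_eq_one.mp h1)
    · rintro ⟨Z, hZ⟩
      simp only [f, mem_filter, mem_univ, true_and] at hZ
      obtain ⟨k, hk, rfl⟩ := hZ
      exact ⟨⟨k, hk⟩, rfl⟩
  have h := card_eq_sum_card_fiberwise (s := T) (t := T.image f) (f := f)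
    (fun Y hY => mem_image_of_mem _ hY)
  have hfib : ∀ P ∈ T.image f, (T.filter fun Y => f Y = P).card = 4 := by
    intro P hP
    obtain ⟨Y₀, hY₀, rfl⟩ := mem_image.mp hP
    rw [← hfc Y₀ hY₀]
    congr 1
    ext Z
    simp only [mem_filter]
    constructor
    · rintro ⟨-, hZ⟩
      have : Z ∈ f Z := by
        simp only [f, mem_filter, mem_univ, true_and]
        exact ⟨1, one_mem _, one_smul _ _⟩
      rw [hZ] at this
      simpa only [f, mem_filter, mem_univ, true_and] using this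
    · intro hZ
      simp only [f, mem_filter, mem_univ, true_and] at hZ
      obtain ⟨k, hk, rfl⟩ := hZ
      refine ⟨hmem Y₀ hY₀ k hk, ?_⟩
      ext W
      simp only [f, mem_filter, mem_univ, true_and]
      constructor
      · rintro ⟨k', hk', rfl⟩; exact ⟨k' * k, mul_mem hk' hk, mul_smul _ _ _⟩
      · rintro ⟨k', hk', rfl⟩
        exact ⟨k' * k⁻¹, mul_mem hk' (S.inv_mem hk), by rw [smul_smul, inv_mul_cancel_right]⟩
  rw [sum_congr rfl hfib, sum_const, smul_eq_mul] at h
  exact ⟨_, h.trans (mul_comm _ _)⟩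

/-- The numbers of orbits with each count, from the two moments. -/
theorem counts_of_moments (n0 n1 n2 n3 n4 : ℕ) (h7 : n0 + n1 + n2 + n3 + n4 = 7)
    (h15 : n1 + 2 * n2 + 3 * n3 + 4 * n4 = 15) (hq : 3 * n0 + 3 * n4 = n2) :
    (n0 = 0 ∧ n2 = 0 ∧ n4 = 0 ∧ n1 = 3 ∧ n3 = 4) ∨ (n0 = 1 ∧ n4 = 0) ∨ (n0 = 0 ∧ n4 = 1) := by
  omega

omit B in
theorem step_cases {a : ℕ} (h4 : 4 ∣ a) (h : a ≤ 16) :
    a = 0 ∨ a = 4 ∨ a = 8 ∨ a = 12 ∨ a = 16 := by
  obtain ⟨b, rfl⟩ := h4
  omega

theorem non_counts {E F : X} (hE : F ∉ B.nb E) (hne : F ≠ E) :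
    (∀ O ∈ B.orbs E, B.cnt O F = 4 ∨ B.cnt O F = 12) ∧
      ((B.orbs E).filter fun O => B.cnt O F = 4).card = 3 := by
  classical
  let f : Finset X → X → ℤ := fun O Y => (B.vec E O Y - 256) * (B.vec E O Y + 112)
  have hzero : ∀ Y, (Y ∈ insert E (B.nb E)) → ∀ O ∈ B.orbs E, f O Y = 0 := by
    intro Y hY O hO
    rcases mem_insert.mp hY with rfl | hY
    · simp [f, B.vec_self hO]
    · by_cases h : Y ∈ O
      · simp [f, B.vec_mem hO h]
      · simp [f, B.vec_nb hO hY h]
  have hconst : ∀ Y ∈ univ \ insert E (B.nb E),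
      ∑ O ∈ B.orbs E, f O Y = ∑ O ∈ B.orbs E, f O F := by
    intro Y hY
    rw [mem_sdiff, mem_insert, not_or] at hY
    obtain ⟨g, hgE, hgF⟩ := B.trans_non E F Y hne (fun h => hE (B.mem_nb.mpr h)) hY.2.1
      (fun h => hY.2.2 (B.mem_nb.mpr h))
    conv_lhs => rw [← hgE, B.orbs_smul, ← hgF]
    rw [sum_image (Finset.image_injective (MulAction.injective g)).injOn]
    refine sum_congr rfl fun O _ => ?_
    have := B.vec_smul g E O F
    rw [hgE] at this
    simp only [f, this]
  have htot : ∑ Y, ∑ O ∈ B.orbs E, f O Y = 0 := by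
    rw [sum_comm]; exact sum_eq_zero fun O hO => B.sum_quadratic hO
  rw [← sum_sdiff (subset_univ (insert E (B.nb E))), sum_congr rfl hconst,
    sum_eq_zero (fun Y hY => sum_eq_zero (hzero Y hY)), add_zero, sum_const, card_univ_diff,
    card_insert_of_notMem (B.not_mem_nb_self E), B.card_nb, B.card_univ_X] at htot
  have hS : ∑ O ∈ B.orbs E, f O F = 0 := by simpa using htot
  set n : ℕ → ℕ := fun a => ((B.orbs E).filter fun O => B.cnt O F = a).card with hn
  have hmaps : ∀ O ∈ B.orbs E, B.cnt O F ∈ ({0, 4, 8, 12, 16} : Finset ℕ) := by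
    intro O hO
    have h := step_cases (B.four_dvd_cnt hE hne hO)
      ((card_le_card inter_subset_left).trans (B.card_of_mem hO).le)
    simpa using h
  have h7 : n 0 + n 4 + n 8 + n 12 + n 16 = 7 := by
    rw [← B.card_orbs E, card_eq_sum_card_fiberwise hmaps]
    simp [n, add_assoc]
  have h60 : 4 * n 4 + 8 * n 8 + 12 * n 12 + 16 * n 16 = 60 := by
    rw [← B.parameters.2.1 E F hE hne, ← B.sum_inter_orbs E F,
      ← sum_fiberwise_of_maps_to hmaps]
    have : ∀ a, ∑ O ∈ (B.orbs E).filter (fun O => B.cnt O F = a), (O ∩ B.nb F).card = n a * a := by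
      intro a
      calc _ = ∑ O ∈ (B.orbs E).filter (fun O => B.cnt O F = a), a :=
            sum_congr rfl fun O hO => (mem_filter.mp hO).2
        _ = _ := by rw [sum_const, smul_eq_mul]
    simp [this]
    ring
  have hq : 3 * n 0 + 3 * n 16 = n 8 := by
    rw [← sum_fiberwise_of_maps_to hmaps] at hS
    have : ∀ a, ∑ O ∈ (B.orbs E).filter (fun O => B.cnt O F = a), f O F =
        (n a : ℤ) * ((184 - 46 * (a : ℤ)) * (552 - 46 * (a : ℤ))) := by
      intro a
      rw [sum_congr rfl (fun O hO => (show f O F = (184 - 46 * (a : ℤ)) * (552 - 46 * (a : ℤ)) by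
        obtain ⟨hO1, hO2⟩ := mem_filter.mp hO
        simp only [f, B.vec_non hO1 hE hne, hO2]
        ring)), sum_const, nsmul_eq_mul]
    simp [this] at hS
    omega
  have bad : ∀ a, n a = 1 → a ∈ ({0, 16} : Finset ℕ) → False := by
    intro a ha _
    obtain ⟨O₁, hO₁⟩ := card_eq_one.mp ha
    have h₁ : O₁ ∈ B.orbs E ∧ B.cnt O₁ F = a := mem_filter.mp (hO₁ ▸ mem_singleton_self O₁)
    obtain ⟨F₁, hF₁, hOF₁⟩ := mem_image.mp h₁.1
    obtain ⟨g, hgE, hgF, hg⟩ := B.nofix E F F₁ hne (fun h => hE (B.mem_nb.mpr h))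
      (B.mem_nb.mp hF₁)
    have hc : O₁.image (g • ·) ∈ (B.orbs E).filter fun O => B.cnt O F = a := by
      refine mem_filter.mpr ⟨?_, ?_⟩
      · have := B.orbs_smul g E
        rw [hgE] at this
        rw [this]
        exact mem_image_of_mem _ h₁.1
      · rw [cnt]
        conv_lhs => rw [← hgF]
        rw [B.inter_smul]
        exact h₁.2
    rw [hO₁, mem_singleton] at hc
    have hmem : g • F₁ ∈ B.orb E F₁ := by
      rw [hOF₁, ← hc]
      exact mem_image_of_mem _ (hOF₁ ▸ B.self_mem_orb E F₁)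
    obtain ⟨k, hk, he⟩ := B.mem_orb.mp hmem
    exact hg k hk he.symm
  rcases B.counts_of_moments (n 0) (n 4) (n 8) (n 12) (n 16) h7 (by omega) hq with
    ⟨a0, a8, a16, a4, -⟩ | ⟨h, -⟩ | ⟨-, h⟩
  · refine ⟨fun O hO => ?_, a4⟩
    have h := hmaps O hO
    simp only [mem_insert, mem_singleton] at h
    have pos : ∀ a, B.cnt O F = a → 0 < n a := fun a ha =>
      card_pos.mpr ⟨O, mem_filter.mpr ⟨hO, ha⟩⟩
    rcases h with h | h | h | h | h
    · have := pos _ h; omega
    · exact Or.inl h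
    · have := pos _ h; omega
    · exact Or.inr h
    · have := pos _ h; omega
  · exact absurd h (fun h => bad 0 h (by simp))
  · exact absurd h (fun h => bad 16 h (by simp))

theorem vec_values {E : X} {O : Finset X} (hO : O ∈ B.orbs E) (Y : X) :
    B.vec E O Y = 256 ∨ B.vec E O Y = -112 := by
  by_cases he : Y = E
  · subst he; exact Or.inl (B.vec_self hO)
  by_cases hn : Y ∈ B.nb E
  · by_cases h : Y ∈ O
    · exact Or.inl (B.vec_mem hO h)
    · exact Or.inr (B.vec_nb hO hn h)
  · rw [B.vec_non hO hn he]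
    rcases (B.non_counts hn he).1 O hO with h | h <;> rw [h] <;> norm_num

theorem exists_mate {E F : X} {O : Finset X} (hO : O ∈ B.orbs E) (hF : F ∈ O) :
    E ∈ B.nb F ∧ B.vec F (B.orb F E) = B.vec E O := by
  classical
  have hEF : F ∈ B.nb E := B.subset_nb hO hF
  have hFE : E ∈ B.nb F := B.nb_symm.mp hEF
  set P := B.orb F E with hPdef
  have hP : P ∈ B.orbs F := B.orb_mem_orbs hFE
  have hEP : E ∈ P := B.self_mem_orb F E
  refine ⟨hFE, ?_⟩
  have hsame : ∀ Y ∈ P.erase E, ∀ Z ∈ P.erase E, B.vec E O Y = B.vec E O Z := by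
    intro Y hY Z hZ
    rw [mem_erase] at hY hZ
    obtain ⟨k, hk, rfl⟩ := B.mem_orb.mp hY.2
    obtain ⟨k', hk', rfl⟩ := B.mem_orb.mp hZ.2
    obtain ⟨g, hgF, hgE, hg⟩ := B.conj_ker F E k k' (B.mem_nb.mp hFE) hk
      (fun h => hY.1 (by rw [h, one_smul])) hk' (fun h => hZ.1 (by rw [h, one_smul]))
    have hgY : g • k • E = k' • E := by
      rw [← hg, mul_smul, mul_smul, inv_smul_eq_iff.mpr hgE.symm]
    have hgO : O.image (g • ·) = O := by
      rw [B.eq_orb hO hF, ← B.orb_smul, hgE, hgF]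
    have := B.vec_smul g E O (k • E)
    rw [hgE, hgO, hgY] at this
    exact this.symm
  obtain ⟨Y₀, hY₀⟩ : (P.erase E).Nonempty := card_pos.mp (by
    rw [card_erase_of_mem hEP, B.card_of_mem hP]; norm_num)
  have hpair : B.pair F P (B.vec E O) = 6 * 256 + (256 + 15 * B.vec E O Y₀) := by
    rw [pair, B.vec_mem hO hF, ← add_sum_erase _ _ hEP, B.vec_self hO,
      sum_congr rfl (fun Z hZ => hsame Z hZ Y₀ hY₀), sum_const, card_erase_of_mem hEP,
      B.card_of_mem hP]
    simp
  rcases B.vec_values hO Y₀ with h256 | h112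
  · have hz : ∑ Y, (B.vec F P Y - B.vec E O Y) * (B.vec F P Y - B.vec E O Y) = 0 := by
      have e : ∀ Y, (B.vec F P Y - B.vec E O Y) * (B.vec F P Y - B.vec E O Y) =
          B.vec F P Y * B.vec F P Y + B.vec E O Y * B.vec E O Y +
            (-2) * (B.vec F P Y * B.vec E O Y) := fun Y => by ring
      simp only [e, sum_add_distrib, ← mul_sum, B.sum_vec_vec, B.pair_self hO, B.pair_self hP,
        hpair, h256]
      norm_num
    funext Y
    exact sub_eq_zero.mp (mul_self_eq_zero.mp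
      ((sum_eq_zero_iff_of_nonneg fun Y _ => mul_self_nonneg _).mp hz Y (mem_univ Y)))
  · exfalso
    have hd : ∀ Y, (135424 : ℤ) ∣ (B.vec F P Y + 112) * (B.vec E O Y + 112) := fun Y => by
      rcases B.vec_values hP Y with h | h <;> rcases B.vec_values hO Y with h' | h' <;>
        rw [h, h'] <;> norm_num
    have hs : ∑ Y, (B.vec F P Y + 112) * (B.vec E O Y + 112) = 3317888 := by
      have e : ∀ Y, (B.vec F P Y + 112) * (B.vec E O Y + 112) =
          B.vec F P Y * B.vec E O Y + 112 * B.vec F P Y + 112 * B.vec E O Y + 12544 :=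
        fun Y => by ring
      simp only [e, sum_add_distrib, ← mul_sum, B.sum_vec_vec, B.sum_vec, hpair, h112, sum_const,
        card_univ, B.card_univ_X]
      norm_num
    have := dvd_sum (s := (univ : Finset X)) (fun Y _ => hd Y)
    rw [hs] at this
    norm_num at this

/-- The blocks through the point of a flag. -/
noncomputable def ptOf (E : X) (O : Finset X) : Finset X :=
  univ.filter fun Y => B.vec E O Y = 256

theorem mem_ptOf {E Y : X} {O : Finset X} : Y ∈ B.ptOf E O ↔ B.vec E O Y = 256 := by simp [ptOf]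

theorem card_ptOf {E : X} {O : Finset X} (hO : O ∈ B.orbs E) : (B.ptOf E O).card = 77 := by
  have h := B.sum_vec E O
  have e : ∀ Y, B.vec E O Y = (-112) + (if Y ∈ B.ptOf E O then 368 else 0) := fun Y => by
    rcases B.vec_values hO Y with hy | hy <;> simp [mem_ptOf, hy]
  rw [sum_congr rfl (fun Y _ => e Y), sum_add_distrib, sum_const, card_univ, B.card_univ_X,
    sum_ite_mem, univ_inter, sum_const] at h
  simp only [nsmul_eq_mul] at h
  push_cast at h
  omega

theorem exists_flag {E Y : X} {O : Finset X} (hO : O ∈ B.orbs E) (hY : Y ∈ B.ptOf E O) :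
    ∃ P ∈ B.orbs Y, B.vec Y P = B.vec E O := by
  rw [mem_ptOf] at hY
  have step : ∀ {E' Y' : X} {O' : Finset X}, O' ∈ B.orbs E' → Y' ∈ O' →
      ∃ P ∈ B.orbs Y', B.vec Y' P = B.vec E' O' := fun hO' hY' =>
    ⟨_, B.orb_mem_orbs (B.exists_mate hO' hY').1, (B.exists_mate hO' hY').2⟩
  by_cases he : Y = E
  · subst he; exact ⟨O, hO, rfl⟩
  by_cases hn : Y ∈ B.nb E
  · by_cases h : Y ∈ O
    · exact step hO h
    · rw [B.vec_nb hO hn h] at hY; norm_num at hY
  · rw [B.vec_non hO hn he] at hY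
    obtain ⟨Z, hZ⟩ : (O ∩ B.nb Y).Nonempty := card_pos.mp (by
      have : B.cnt O Y = 4 := by omega
      rw [cnt] at this; omega)
    rw [mem_inter] at hZ
    obtain ⟨Q, hQ, hQe⟩ := step hO hZ.1
    have hval : B.vec Z Q Y = 256 := by
      rw [hQe, B.vec_non hO hn he]; exact hY
    have hYQ : Y ∈ Q := by
      by_contra hc
      rw [B.vec_nb hQ (B.nb_symm.mp hZ.2) hc] at hval
      norm_num at hval
    obtain ⟨P, hP, hPe⟩ := step hQ hYQ
    exact ⟨P, hP, hPe.trans hQe⟩

end Blocks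

end CfsgLib.M23Nse
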