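import Cfsg.Prelude.Def_Spor_Mathieu
import Mathlib.GroupTheory.GroupAction.Basic
import Mathlib.GroupTheory.GroupAction.Quotient

/-!
Interface between the local analysis of a simple group of order 10200960 and the geometry of
blocks: an action on 253 objects, each carrying a subgroup of order sixteen fixing it.
-/

set_option autoImplicit false

namespace CfsgLib.M23Nse

open MulAction

universe u v

variable {G : Type u} [Group G] {X : Type v} [MulAction G X]

/-- The two blocks meet in one point: no nontrivial element of the kernel of `E` fixes `F`. -/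
def Adj (ker : X → Subgroup G) (E F : X) : Prop :=
  E ≠ F ∧ ker E ⊓ stabilizer G F = ⊥

/-- The action of the group on its 253 blocks. -/
structure Blocks (G : Type u) [Group G] (X : Type v) [MulAction G X] where
  /-- The pointwise stabiliser of a block. -/
  ker : X → Subgroup G
  card_X : Nat.card X = 253
  trans : IsPretransitive G X
  ker_le : ∀ E, ker E ≤ stabilizer G E
  ker_smul : ∀ (g : G) (E : X) (k : G), k ∈ ker (g • E) ↔ g⁻¹ * k * g ∈ ker E
  card_ker : ∀ E, Nat.card (ker E) = 16
  adj_symm : ∀ E F, Adj ker E F → Adj ker F E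
  card_adj : ∀ E, Nat.card {F // Adj ker E F} = 112
  trans_adj : ∀ E F F', Adj ker E F → Adj ker E F' → ∃ g : G, g • E = E ∧ g • F = F'
  trans_non : ∀ E F F', F ≠ E → ¬ Adj ker E F → F' ≠ E → ¬ Adj ker E F' →
    ∃ g : G, g • E = E ∧ g • F = F'
  card_non : ∀ E F, F ≠ E → ¬ Adj ker E F → Nat.card ↥(ker E ⊓ stabilizer G F) = 4
  /-- The common stabiliser of adjacent blocks is transitive on the nontrivial kernel elements. -/
  conj_ker : ∀ E F k k', Adj ker E F → k ∈ ker E → k ≠ 1 → k' ∈ ker E → k' ≠ 1 →
    ∃ g : G, g • E = E ∧ g • F = F ∧ g * k * g⁻¹ = k'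
  /-- The common stabiliser of adjacent blocks is transitive on the six other kernel orbits. -/
  six : ∀ E F F₁ F₂, Adj ker E F → Adj ker E F₁ → Adj ker E F₂ →
    (∀ k ∈ ker E, k • F ≠ F₁) → (∀ k ∈ ker E, k • F ≠ F₂) →
    ∃ g : G, g • E = E ∧ g • F = F ∧ ∃ k ∈ ker E, g • F₁ = k • F₂
  /-- The common stabiliser of other pairs of blocks fixes none of the seven kernel orbits. -/
  nofix : ∀ E F F₁, F ≠ E → ¬ Adj ker E F → Adj ker E F₁ →
    ∃ g : G, g • E = E ∧ g • F = F ∧ ∀ k ∈ ker E, g • F₁ ≠ k • F₁

end CfsgLib.M23Nse
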