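import Cfsg.Agent.M23Nse.TI

/-!
# The configuration attached to the local data
-/

set_option autoImplicit false
set_option linter.style.haveILetI false
set_option linter.unusedSectionVars false

namespace CfsgLib.M23Nse

open Subgroup
open CfsgLib.M12Nse (cz mem_cz)

universe u

variable {G : Type u} [Group G] [Finite G]

theorem card_sub_pair (H : Subgroup G) {z : G} (hzH : z ∈ H) (hz : z ≠ 1) :
    Nat.card {a : G // a ∈ H ∧ a ≠ 1 ∧ a ≠ z} + 2 = Nat.card H := by
  classical
  haveI := Fintype.ofFinite G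
  rw [Nat.card_eq_fintype_card, Nat.card_eq_fintype_card, Fintype.card_subtype,
    show Fintype.card H = (Finset.univ.filter fun a : G => a ∈ H).card from Fintype.card_subtype _,
    ← Finset.card_pair hz.symm, ← Finset.card_union_of_disjoint]
  · congr 1
    ext a
    simp only [Finset.mem_union, Finset.mem_filter, Finset.mem_univ, true_and, Finset.mem_insert,
      Finset.mem_singleton]
    constructor
    · rintro (h | rfl | rfl)
      exacts [h.1, one_mem _, hzH]
    · intro h
      by_cases h1 : a = 1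
      · exact Or.inr (Or.inl h1)
      by_cases h2 : a = z
      · exact Or.inr (Or.inr h2)
      exact Or.inl ⟨h, h1, h2⟩
  · rw [Finset.disjoint_left]
    intro a ha hb
    simp only [Finset.mem_insert, Finset.mem_singleton] at hb
    exact hb.elim (Finset.mem_filter.1 ha).2.2.1 (Finset.mem_filter.1 ha).2.2.2

namespace Local

variable (L : Local G) {z : G} (hz : orderOf z = 2)
include L hz

theorem outer_card :
    Nat.card {t : G // orderOf t = 2 ∧ Commute t z ∧ t ∉ kerGroup z} = 84 := by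
  classical
  haveI := Fintype.ofFinite G
  obtain ⟨x, y, B⟩ := L.exists_base hz
  let O := {t : G // orderOf t = 2 ∧ Commute t z ∧ t ∉ kerGroup z}
  let A := {a : G // a ∈ kerGroup z ∧ a ≠ 1 ∧ a ≠ z}
  have hO : ∀ t : O, Nat.card {a : A // Commute t.1 a.1} = 2 := by
    intro t
    have h := card_sub_pair (kerGroup z ⊓ cz t.1) (z := z)
      ⟨L.ker_self hz, mem_cz.2 t.2.2.1.eq.symm⟩ B.z_ne
    rw [B.card_fix_outer t.2.2.1 t.2.2.2 (by rw [B.sq_one t.2.1]; exact one_mem _)] at h
    have e : Nat.card {a : A // Commute t.1 a.1} = Nat.card {a : G // a ∈ kerGroup z ⊓ cz t.1 ∧ a ≠ 1 ∧ a ≠ z} :=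
      Nat.card_congr ⟨fun a => ⟨a.1.1, ⟨a.1.2.1, mem_cz.2 a.2.eq.symm⟩, a.1.2.2⟩,
        fun a => ⟨⟨a.1, a.2.1.1, a.2.2⟩, (mem_cz.1 a.2.1.2 : a.1 * t.1 = t.1 * a.1).symm⟩,
        fun _ => rfl, fun _ => rfl⟩
    omega
  have hA : ∀ a : A, Nat.card {t : O // Commute t.1 a.1} = 12 := by
    rintro ⟨a, ha, ha1, haz⟩
    obtain ⟨g, hgz, rfl⟩ := B.cover ha ha1 haz
    rw [← (B.conj_base hgz).card_outer_fix]
    exact Nat.card_congr (Equiv.subtypeSubtypeEquivSubtypeInter
      (fun t : G => orderOf t = 2 ∧ Commute t z ∧ t ∉ kerGroup z) (fun t : G => Commute t (g * y * g⁻¹)))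
  have h : Nat.card (Σ t : O, {a : A // Commute t.1 a.1}) = Nat.card (Σ a : A, {t : O // Commute t.1 a.1}) :=
    Nat.card_congr ⟨fun p => ⟨p.2.1, ⟨p.1, p.2.2⟩⟩, fun p => ⟨p.2.1, ⟨p.1, p.2.2⟩⟩, fun _ => rfl, fun _ => rfl⟩
  rw [Nat.card_sigma, Nat.card_sigma] at h
  simp only [hO, hA, Finset.sum_const, Finset.card_univ, smul_eq_mul] at h
  have h14 : Fintype.card A = 14 := by rw [← Nat.card_eq_fintype_card]; exact B.card_noncentral
  rw [h14, ← Nat.card_eq_fintype_card] at h
  change Nat.card O = 84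
  omega

end Local

/-- The configuration attached to the local data. -/
noncomputable def Local.toKern (L : Local G) : Kern G where
  E := kerGroup
  loc := L
  mem z hz := L.ker_self hz
  card_E z hz := L.ker_card hz
  sq z y hz hy := L.ker_sq hz hy
  conj g z hz := L.ker_conj hz g
  eq_of_mem z y hz hy hy1 := by
    by_cases hyz : y = z
    · rw [hyz]
    obtain ⟨x, y₀, B⟩ := L.exists_base hz
    obtain ⟨g, hgz, rfl⟩ := B.cover hy hy1 hyz
    exact (B.conj_base hgz).ker_eq_base
  self_cent z g hz hg := L.ker_cent hz hg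
  trans z y y' hz hy hy1 hyz hy' hy1' hyz' := by
    obtain ⟨x, y₀, B⟩ := L.exists_base hz
    obtain ⟨g, hgz, hg⟩ := B.cover hy hy1 hyz
    obtain ⟨g', hgz', hg'⟩ := B.cover hy' hy1' hyz'
    refine ⟨g' * g⁻¹, hgz'.mul_left hgz.inv_left, ?_⟩
    rw [← hg, ← hg']
    group
  quot z K hz hle hK hn := L.ker_above hz hle hK fun g a hg ha => hn g a hg ha
  fix_card z t hz htz hte htt := by
    obtain ⟨x, y, B⟩ := L.exists_base hz
    exact B.card_fix_outer htz hte htt
  outer_conj z t t' hz ht ht' htz htz' hte hte' := by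
    obtain ⟨x, y, B⟩ := L.exists_base hz
    obtain ⟨g, hgz, hgR, hgE⟩ := B.into_R htz hte (by rw [B.sq_one ht]; exact one_mem _)
    obtain ⟨k, hkz, hkR, hkE⟩ := B.into_R htz' hte' (by rw [B.sq_one ht']; exact one_mem _)
    obtain ⟨h, hhz, hh⟩ := B.outer_conj_R hgR hgE
      (B.sq_one (((MulAut.conj g).orderOf_eq t).trans ht)) hkR hkE
      (B.sq_one (((MulAut.conj k).orderOf_eq t').trans ht'))
    refine ⟨k⁻¹ * h * g, (hkz.inv_left.mul_left hhz).mul_left hgz, ?_⟩
    calc k⁻¹ * h * g * t * (k⁻¹ * h * g)⁻¹ = k⁻¹ * (h * (g * t * g⁻¹) * h⁻¹) * k := by group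
      _ = t' := by rw [hh]; group
  outer_card z hz := L.outer_card hz

end CfsgLib.M23Nse
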