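import Cfsg.Agent.M23Nse.EGroup

/-!
# The groups of order sixteen inside the whole group
-/

set_option autoImplicit false
set_option linter.style.haveILetI false
set_option linter.unusedSectionVars false

namespace CfsgLib.M23Nse

open Subgroup
open CfsgLib.M12Nse (cz mem_cz)

universe u

variable {G : Type u} [Group G] [Finite G]

open Classical in
/-- The group of order sixteen attached to an involution. -/
noncomputable def kerGroup (z : G) : Subgroup G :=
  if h : Local G ∧ orderOf z = 2 then (h.1.core h.2).map (cz z).subtype else ⊥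

namespace Local

variable (L : Local G) {z : G} (hz : orderOf z = 2)
include L hz

theorem ker_eq : kerGroup z = (L.core hz).map (cz z).subtype := by
  rw [kerGroup, dif_pos ⟨L, hz⟩]

theorem mem_ker {y : G} : y ∈ kerGroup z ↔ ∃ h : y ∈ cz z, (⟨y, h⟩ : cz z) ∈ L.core hz := by
  rw [L.ker_eq hz]
  exact ⟨fun ⟨a, ha, e⟩ => e ▸ ⟨a.2, ha⟩, fun ⟨h, hy⟩ => ⟨⟨y, h⟩, hy, rfl⟩⟩

theorem ker_self : z ∈ kerGroup z := (L.mem_ker hz).2 ⟨(L.zc hz).2, L.zc_mem hz⟩

theorem ker_le : kerGroup z ≤ cz z := fun _ hy => ((L.mem_ker hz).1 hy).1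

theorem ker_commute {y : G} (hy : y ∈ kerGroup z) : Commute y z :=
  mem_centralizer_singleton_iff.1 (L.ker_le hz hy)

theorem ker_card : Nat.card (kerGroup z) = 16 := by
  rw [L.ker_eq hz, card_map_of_injective (cz z).subtype_injective, L.core_card hz]

theorem ker_sq {y : G} (hy : y ∈ kerGroup z) : y * y = 1 := by
  obtain ⟨h, hc⟩ := (L.mem_ker hz).1 hy
  exact congrArg Subtype.val (L.core_sq hz hc)

theorem ker_inv {y : G} (hy : y ∈ kerGroup z) : y⁻¹ = y := inv_eq_of_mul_eq_one_left (L.ker_sq hz hy)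

theorem ker_comm {a b : G} (ha : a ∈ kerGroup z) (hb : b ∈ kerGroup z) : Commute a b := by
  have h := L.ker_inv hz (mul_mem ha hb)
  rw [mul_inv_rev, L.ker_inv hz ha, L.ker_inv hz hb] at h
  exact h.symm

theorem ker_normal {g y : G} (hg : Commute g z) (hy : y ∈ kerGroup z) : g * y * g⁻¹ ∈ kerGroup z := by
  obtain ⟨h, hc⟩ := (L.mem_ker hz).1 hy
  have h1 := (L.core_normal hz).conj_mem _ hc ⟨g, mem_centralizer_singleton_iff.2 hg.eq⟩
  exact (L.mem_ker hz).2 ⟨_, h1⟩

theorem ker_cent {g : G} (hg : ∀ y ∈ kerGroup z, Commute g y) : g ∈ kerGroup z := by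
  have hgz := mem_centralizer_singleton_iff.2 (hg z (L.ker_self hz)).eq
  refine (L.mem_ker hz).2 ⟨hgz, L.cent_core hz fun y hy => Subtype.ext ?_⟩
  exact hg y ((L.mem_ker hz).2 ⟨y.2, hy⟩)

theorem le_ker {A : Subgroup G} {k : ℕ} (hA : A ≤ cz z) (hk : Nat.card A = 2 ^ k)
    (hn : ∀ g a : G, Commute g z → a ∈ A → g * a * g⁻¹ ∈ A) : A ≤ kerGroup z := by
  haveI : (A.subgroupOf (cz z)).Normal := ⟨fun a ha g => hn g a (mem_centralizer_singleton_iff.1 g.2) ha⟩
  have h := L.le_core hz (M := A.subgroupOf (cz z)) (k := k)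
    (by rw [Nat.card_congr (subgroupOfEquivOfLe hA).toEquiv, hk])
  exact fun a ha => (L.mem_ker hz).2 ⟨hA ha, h (mem_subgroupOf.2 ha)⟩

theorem ker_above {K : Subgroup G} (hle : kerGroup z ≤ K) (hK : K ≤ cz z)
    (hn : ∀ g a : G, Commute g z → a ∈ K → g * a * g⁻¹ ∈ K) : K = kerGroup z ∨ K = cz z := by
  haveI : (K.subgroupOf (cz z)).Normal := ⟨fun a ha g => hn g a (mem_centralizer_singleton_iff.1 g.2) ha⟩
  have hc : L.core hz ≤ K.subgroupOf (cz z) := fun a ha =>
    mem_subgroupOf.2 (hle ((L.mem_ker hz).2 ⟨a.2, ha⟩))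
  rcases L.above_core hz hc with h | h
  · refine Or.inl (le_antisymm (fun a ha => (L.mem_ker hz).2 ⟨hK ha, ?_⟩) hle)
    rw [← h]; exact mem_subgroupOf.2 ha
  · exact Or.inr (le_antisymm hK fun a ha =>
      (mem_subgroupOf (K := cz z) (h := ⟨a, ha⟩)).1 (h ▸ mem_top _))

theorem ker_conj (g : G) : kerGroup (g * z * g⁻¹) = (kerGroup z).map (MulAut.conj g).toMonoidHom := by
  have hz' : orderOf (g * z * g⁻¹) = 2 := ((MulAut.conj g).orderOf_eq z).trans hz
  refine (eq_of_le_of_card_ge ?_ ?_).symm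
  · refine L.le_ker hz' (k := 4) ?_ ?_ ?_
    · rintro _ ⟨a, ha, rfl⟩
      refine mem_centralizer_singleton_iff.2 ?_
      show g * a * g⁻¹ * (g * z * g⁻¹) = g * z * g⁻¹ * (g * a * g⁻¹)
      rw [show g * a * g⁻¹ * (g * z * g⁻¹) = g * (a * z) * g⁻¹ by group, (L.ker_commute hz ha).eq]
      group
    · rw [card_map_of_injective (MulAut.conj g).injective, L.ker_card hz]; norm_num
    · rintro t _ ht ⟨a, ha, rfl⟩
      refine ⟨g⁻¹ * t * g * a * (g⁻¹ * t * g)⁻¹, L.ker_normal hz ?_ ha, ?_⟩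
      · calc g⁻¹ * t * g * z = g⁻¹ * (t * (g * z * g⁻¹)) * g := by group
          _ = g⁻¹ * (g * z * g⁻¹ * t) * g := by rw [ht.eq]
          _ = _ := by group
      · show g * (g⁻¹ * t * g * a * (g⁻¹ * t * g)⁻¹) * g⁻¹ = t * (g * a * g⁻¹) * t⁻¹
        group
  · rw [card_map_of_injective (MulAut.conj g).injective, L.ker_card hz, L.ker_card hz']

end Local

end CfsgLib.M23Nse
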