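import Mathlib.GroupTheory.Subgroup.Simple
import Mathlib.GroupTheory.OrderOfElement
import Mathlib.GroupTheory.Subgroup.Centralizer
import Mathlib.Algebra.Group.End

/-!
Local data of a simple group of order 10200960, and the elementary abelian group of order sixteen
attached to each involution.
-/

set_option autoImplicit false

namespace CfsgLib.M23Nse

open Subgroup

universe u

/-- The centraliser orders used in the analysis. -/
structure Local (G : Type u) [Group G] : Prop where
  simple : IsSimpleGroup G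
  card : Nat.card G = 10200960
  inv_conj : ∀ z z' : G, orderOf z = 2 → orderOf z' = 2 → IsConj z z'
  inv_card : ∀ z : G, orderOf z = 2 → Nat.card (centralizer ({z} : Set G)) = 2688
  three : ∀ x : G, orderOf x = 3 → Nat.card (centralizer ({x} : Set G)) = 180
  three_inv : ∀ x z : G, orderOf x = 3 → orderOf z = 2 → Commute x z →
    Nat.card ↥(centralizer ({x} : Set G) ⊓ centralizer ({z} : Set G)) = 12 ∧
      ∃ s : G, Commute s z ∧ s * x * s⁻¹ = x⁻¹
  five : ∀ x : G, orderOf x = 5 → Nat.card (centralizer ({x} : Set G)) = 15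
  five_norm : ∀ x : G, orderOf x = 5 → Nat.card (normalizer (zpowers x : Set G)) = 60
  seven : ∀ x : G, orderOf x = 7 → Nat.card (centralizer ({x} : Set G)) = 14
  seven_norm : ∀ x : G, orderOf x = 7 → Nat.card (normalizer (zpowers x : Set G)) = 42

/-- The groups of order sixteen attached to the involutions, with the action of their centralisers. -/
structure Kern (G : Type u) [Group G] where
  /-- The group attached to an involution. -/
  E : G → Subgroup G
  loc : Local G
  mem : ∀ z : G, orderOf z = 2 → z ∈ E z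
  card_E : ∀ z : G, orderOf z = 2 → Nat.card (E z) = 16
  sq : ∀ z y : G, orderOf z = 2 → y ∈ E z → y * y = 1
  conj : ∀ g z : G, orderOf z = 2 → E (g * z * g⁻¹) = (E z).map (MulAut.conj g).toMonoidHom
  eq_of_mem : ∀ z y : G, orderOf z = 2 → y ∈ E z → y ≠ 1 → E y = E z
  self_cent : ∀ z g : G, orderOf z = 2 → (∀ y ∈ E z, Commute g y) → g ∈ E z
  trans : ∀ z y y' : G, orderOf z = 2 → y ∈ E z → y ≠ 1 → y ≠ z → y' ∈ E z → y' ≠ 1 → y' ≠ z →
    ∃ g : G, Commute g z ∧ g * y * g⁻¹ = y'
  /-- The centraliser is simple over the attached group. -/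
  quot : ∀ (z : G) (K : Subgroup G), orderOf z = 2 → E z ≤ K → K ≤ centralizer ({z} : Set G) →
    (∀ g k : G, Commute g z → k ∈ K → g * k * g⁻¹ ∈ K) → K = E z ∨ K = centralizer ({z} : Set G)
  fix_card : ∀ z t : G, orderOf z = 2 → Commute t z → t ∉ E z → t * t ∈ E z →
    Nat.card ↥(E z ⊓ centralizer ({t} : Set G)) = 4
  outer_conj : ∀ z t t' : G, orderOf z = 2 → orderOf t = 2 → orderOf t' = 2 → Commute t z → Commute t' z →
    t ∉ E z → t' ∉ E z → ∃ g : G, Commute g z ∧ g * t * g⁻¹ = t'
  outer_card : ∀ z : G, orderOf z = 2 → Nat.card {t : G // orderOf t = 2 ∧ Commute t z ∧ t ∉ E z} = 84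

end CfsgLib.M23Nse
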