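import Cfsg.Agent.M23Nse.ModelSearch
import Cfsg.Agent.Nse.Basic

/-!
# The numbers of elements of each order in the model
-/

set_option autoImplicit false
set_option linter.style.haveILetI false

namespace CfsgLib.M23Nse.Model

open Cfsg CfsgLib.Golay CfsgLib.Golay.Cert CfsgLib.Golay.SylowCert CfsgLib.ThreeCounts Subgroup

/-- The inclusion in the large group. -/
noncomputable def incl : ↥Spor.M23 →* M24 := Subgroup.inclusion inf_le_left

theorem incl_injective : Function.Injective incl := Subgroup.inclusion_injective inf_le_left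

theorem incl_fix (g : ↥Spor.M23) : (toList (incl g : Equiv.Perm GolayPt)).getD 23 0 = 23 := by
  have h : (g : Equiv.Perm GolayPt) none = none := g.2.2
  show (toList (g : Equiv.Perm GolayPt)).getD (idx none) 0 = idx none
  rw [toList_getD_idx, h]

/-- The tests for a representative. -/
def repOK (L : List ℕ) (n : ℕ) : Bool :=
  genOK L && Nat.beq (L.getD 23 0) 23 && (powL L n == List.range 24) &&
    (List.range n).all fun d => Nat.beq d 0 || !(powL L d == List.range 24)

theorem exists_rep {L : List ℕ} {n : ℕ} (hn : 0 < n) (h : repOK L n = true) :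
    ∃ x : ↥Spor.M23, toList (x : Equiv.Perm GolayPt) = L ∧ orderOf x = n := by
  simp only [repOK, Bool.and_eq_true, Nat.beq_eq, beq_iff_eq, List.all_eq_true, List.mem_range,
    Bool.or_eq_true, Bool.not_eq_true', beq_eq_false_iff_ne] at h
  obtain ⟨⟨⟨hg, h23⟩, hp⟩, hd⟩ := h
  obtain ⟨σ, hσ⟩ := genOK_spec hg
  have hfix : (σ : Equiv.Perm GolayPt) none = none := idx_injective (by
    rw [← toList_getD_idx, hσ]; exact h23)
  refine ⟨⟨σ, σ.2, hfix⟩, hσ, (orderOf_eq_iff hn).2 ⟨?_, fun m hm hm0 e => ?_⟩⟩
  · refine Subtype.ext (Cert.toList_injective ?_)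
    rw [SubgroupClass.coe_pow, toList_pow, OneMemClass.coe_one, toList_one]
    exact hσ.symm ▸ hp
  · have h1 := congrArg (fun u : ↥Spor.M23 => toList (u : Equiv.Perm GolayPt)) e
    simp only [SubgroupClass.coe_pow, toList_pow, OneMemClass.coe_one, toList_one] at h1
    rcases hd m hm with h2 | h2
    · omega
    · exact h2 (hσ ▸ h1)

theorem card_le_length {H : Type*} [Group H] (K : Subgroup H) (f : ↥K → ℕ) (hf : Function.Injective f)
    (l : List ℕ) (hl : ∀ c, f c ∈ l) : Nat.card ↥K ≤ l.length := by
  refine (Nat.card_le_card_of_injective (fun c => (⟨f c, List.mem_toFinset.2 (hl c)⟩ : l.toFinset))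
    fun a b e => hf (congrArg Subtype.val e)).trans ?_
  rw [Nat.card_eq_finsetCard]
  exact List.toFinset_card_le _

theorem card_centralizer_le {x : ↥Spor.M23} {X : List ℕ} (hX : toList (x : Equiv.Perm GolayPt) = X) :
    Nat.card (centralizer ({x} : Set ↥Spor.M23)) ≤ (conjs X X).length := by
  have hmem : ∀ c : ↥(centralizer ({x} : Set ↥Spor.M23)), code (incl c.1) ∈ conjs X X :=
    fun c => mem_conjs (x := incl x) (y := incl x) (g := incl c.1) hX hX (incl_fix _)
      (by rw [← map_mul, ← map_mul, mem_centralizer_singleton_iff.1 c.2])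
  revert hmem
  generalize conjs X X = l
  intro hmem
  exact card_le_length (centralizer ({x} : Set ↥Spor.M23)) (fun c => code (incl c.1))
    (fun a b e => Subtype.ext (incl_injective (code_injective e))) l hmem

theorem index_ge {x : ↥Spor.M23} {X : List ℕ} (hX : toList (x : Equiv.Perm GolayPt) = X) {c m : ℕ}
    (hc : (conjs X X).length = c) (hm : m * c = 10200960) :
    m ≤ (centralizer ({x} : Set ↥Spor.M23)).index := by
  have h1 := (centralizer ({x} : Set ↥Spor.M23)).card_mul_index
  rw [card_M23] at h1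
  have h2 := card_centralizer_le hX
  rw [hc] at h2
  have hc0 : 0 < c := Nat.pos_of_ne_zero fun e => by simp [e] at hm
  refine Nat.le_of_mul_le_mul_left ?_ hc0
  calc c * m = 10200960 := by rw [mul_comm, hm]
    _ = _ := h1.symm
    _ ≤ _ := Nat.mul_le_mul_right _ h2

theorem one_class {X : List ℕ} {n c m : ℕ} (hn : 0 < n) (h : repOK X n = true)
    (hc : (conjs X X).length = c) (hm : m * c = 10200960) : m ≤ cnt ↥Spor.M23 n := by
  obtain ⟨x, hX, hxn⟩ := exists_rep hn h
  exact (index_ge hX hc hm).trans (hxn ▸ CfsgLib.Nse.index_centralizer_le x)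

theorem card_isConj (x : ↥Spor.M23) :
    Nat.card {y : ↥Spor.M23 // IsConj x y} = (centralizer ({x} : Set ↥Spor.M23)).index := by
  have h : (centralizer ({x} : Set ↥Spor.M23)).index = (MulAction.orbit (ConjAct ↥Spor.M23) x).ncard := by
    rw [← MulAction.index_stabilizer, ConjAct.stabilizer_eq_centralizer]
    rfl
  rw [h, ← Nat.card_coe_set_eq]
  exact Nat.card_congr (Equiv.subtypeEquivRight fun y => (ConjAct.mem_orbit_conjAct.trans isConj_comm).symm)

theorem two_classes {X X' : List ℕ} {n c c' m m' : ℕ} (hn : 0 < n) (h : repOK X n = true)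
    (h' : repOK X' n = true) (hc : (conjs X X).length = c) (hm : m * c = 10200960)
    (hc' : (conjs X' X').length = c') (hm' : m' * c' = 10200960) (hd : (conjs X X').length = 0) :
    m + m' ≤ cnt ↥Spor.M23 n := by
  obtain ⟨x, hX, hxn⟩ := exists_rep hn h
  obtain ⟨x', hX', hxn'⟩ := exists_rep hn h'
  have hne : ¬ IsConj x x' := fun e => by
    obtain ⟨g, hg⟩ := e
    have := mem_conjs (x := incl x) (y := incl x') (g := incl (g : ↥Spor.M23)) hX hX' (incl_fix _)
      (by rw [← map_mul, ← map_mul, hg.eq])
    rw [List.eq_nil_of_length_eq_zero hd] at this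
    exact List.not_mem_nil this
  have ho : ∀ {a y : ↥Spor.M23}, orderOf a = n → IsConj a y → orderOf y = n := fun ha hy => by
    obtain ⟨d, rfl⟩ := isConj_iff.1 hy
    rw [← ha]; exact (MulAut.conj d).orderOf_eq _
  refine (Nat.add_le_add (index_ge hX hc hm) (index_ge hX' hc' hm')).trans ?_
  rw [← card_isConj, ← card_isConj, ← Nat.card_sum]
  refine Nat.card_le_card_of_injective
    (Sum.elim (fun y => (⟨y.1, ho hxn y.2⟩ : {g : ↥Spor.M23 // orderOf g = n}))
      (fun y => ⟨y.1, ho hxn' y.2⟩)) ?_
  rintro (y | y) (z | z) e <;> simp only [Sum.elim_inl, Sum.elim_inr, Subtype.mk.injEq] at e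
  · exact congrArg Sum.inl (Subtype.ext e)
  · exact absurd (y.2.trans (e ▸ z.2.symm)) hne
  · exact absurd (z.2.trans (e ▸ y.2.symm)) hne
  · exact congrArg Sum.inr (Subtype.ext e)

theorem le_2 : 3795 ≤ cnt ↥Spor.M23 2 :=
  one_class (c := 2688) (by norm_num) (X := rep2) (by decide +kernel) (by decide +kernel) (by norm_num)

theorem le_3 : 56672 ≤ cnt ↥Spor.M23 3 :=
  one_class (c := 180) (by norm_num) (X := rep3) (by decide +kernel) (by decide +kernel) (by norm_num)

theorem le_4 : 318780 ≤ cnt ↥Spor.M23 4 :=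
  one_class (c := 32) (by norm_num) (X := rep4) (by decide +kernel) (by decide +kernel) (by norm_num)

theorem le_5 : 680064 ≤ cnt ↥Spor.M23 5 :=
  one_class (c := 15) (by norm_num) (X := rep5) (by decide +kernel) (by decide +kernel) (by norm_num)

theorem le_6 : 850080 ≤ cnt ↥Spor.M23 6 :=
  one_class (c := 12) (by norm_num) (X := rep6) (by decide +kernel) (by decide +kernel) (by norm_num)

theorem le_7 : 1457280 ≤ cnt ↥Spor.M23 7 :=
  two_classes (m := 728640) (m' := 728640) (c := 14) (c' := 14) (by norm_num) (X := rep7) (X' := rep7b)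
    (by decide +kernel) (by decide +kernel) (by decide +kernel) (by norm_num) (by decide +kernel)
    (by norm_num) (by decide +kernel)

theorem le_8 : 1275120 ≤ cnt ↥Spor.M23 8 :=
  one_class (c := 8) (by norm_num) (X := rep8) (by decide +kernel) (by decide +kernel) (by norm_num)

theorem le_11 : 1854720 ≤ cnt ↥Spor.M23 11 :=
  two_classes (m := 927360) (m' := 927360) (c := 11) (c' := 11) (by norm_num) (X := rep11) (X' := rep11b)
    (by decide +kernel) (by decide +kernel) (by decide +kernel) (by norm_num) (by decide +kernel)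
    (by norm_num) (by decide +kernel)

theorem le_14 : 1457280 ≤ cnt ↥Spor.M23 14 :=
  two_classes (m := 728640) (m' := 728640) (c := 14) (c' := 14) (by norm_num) (X := rep14) (X' := rep14b)
    (by decide +kernel) (by decide +kernel) (by decide +kernel) (by norm_num) (by decide +kernel)
    (by norm_num) (by decide +kernel)

theorem le_15 : 1360128 ≤ cnt ↥Spor.M23 15 :=
  two_classes (m := 680064) (m' := 680064) (c := 15) (c' := 15) (by norm_num) (X := rep15) (X' := rep15b)
    (by decide +kernel) (by decide +kernel) (by decide +kernel) (by norm_num) (by decide +kernel)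
    (by norm_num) (by decide +kernel)

theorem le_23 : 887040 ≤ cnt ↥Spor.M23 23 :=
  two_classes (m := 443520) (m' := 443520) (c := 23) (c' := 23) (by norm_num) (X := rep23) (X' := rep23b)
    (by decide +kernel) (by decide +kernel) (by decide +kernel) (by norm_num) (by decide +kernel)
    (by norm_num) (by decide +kernel)

/-- The orders of elements. -/
def ords : Finset ℕ := {1, 2, 3, 4, 5, 6, 7, 8, 11, 14, 15, 23}

/-- The numbers of elements of each order. -/
def cval : ℕ → ℕ
  | 1 => 1 | 2 => 3795 | 3 => 56672 | 4 => 318780 | 5 => 680064 | 6 => 850080 | 7 => 1457280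
  | 8 => 1275120 | 11 => 1854720 | 14 => 1457280 | 15 => 1360128 | 23 => 887040
  | _ => 0

theorem cval_le (n : ℕ) : cval n ≤ cnt ↥Spor.M23 n := by
  unfold cval
  split
  · exact cnt_one.ge
  · exact le_2
  · exact le_3
  · exact le_4
  · exact le_5
  · exact le_6
  · exact le_7
  · exact le_8
  · exact le_11
  · exact le_14
  · exact le_15
  · exact le_23
  · exact Nat.zero_le _

theorem sum_cnt_le {G : Type*} [Group G] [Finite G] (S : Finset ℕ) : ∑ n ∈ S, cnt G n ≤ Nat.card G := by
  classical
  haveI := Fintype.ofFinite G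
  have e : ∀ n, cnt G n = ((Finset.univ : Finset G).filter fun g => orderOf g = n).card := fun n => by
    rw [cnt, Nat.card_eq_fintype_card, Fintype.card_subtype]
  simp only [e]
  rw [Nat.card_eq_fintype_card, ← Finset.card_univ, ← Finset.card_biUnion]
  · exact Finset.card_le_card (Finset.subset_univ _)
  · intro a _ b _ hab
    exact Finset.disjoint_left.2 fun g hg hg' =>
      hab ((Finset.mem_filter.1 hg).2.symm.trans (Finset.mem_filter.1 hg').2)

theorem sum_cval : ∑ n ∈ ords, cval n = 10200960 := by decide +kernel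

theorem cnt_model (n : ℕ) : cnt ↥Spor.M23 n = cval n := by
  refine le_antisymm ?_ (cval_le n)
  have h := sum_cnt_le (G := ↥Spor.M23) (insert n ords)
  rw [card_M23] at h
  have h2 := sum_cval
  by_cases hn : n ∈ ords
  · rw [Finset.insert_eq_of_mem hn, ← Finset.add_sum_erase _ _ hn] at h
    have h1 : ∑ m ∈ ords.erase n, cval m ≤ ∑ m ∈ ords.erase n, cnt ↥Spor.M23 m :=
      Finset.sum_le_sum fun m _ => cval_le m
    rw [← Finset.add_sum_erase _ _ hn] at h2
    omega
  · rw [Finset.sum_insert hn] at h
    have h1 : ∑ m ∈ ords, cval m ≤ ∑ m ∈ ords, cnt ↥Spor.M23 m := Finset.sum_le_sum fun m _ => cval_le m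
    omega

end CfsgLib.M23Nse.Model
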