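import Cfsg.Agent.M23Nse.Counts

/-!
# Simplicity from the values of the counting function
-/

set_option autoImplicit false
set_option linter.style.haveILetI false
set_option linter.unusedSectionVars false

namespace CfsgLib.M23Nse.Nse

open Subgroup CfsgLib.ThreeCounts

universe u

variable {G : Type u} [Group G] [Finite G] (h : Nse G)
include h

/-- The elements of order prime to the index lie in a normal subgroup. -/
theorem mem_of_coprime {N : Subgroup G} [N.Normal] {g : G} (hc : (orderOf g).Coprime N.index) : g ∈ N := by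
  rw [← QuotientGroup.eq_one_iff, ← orderOf_eq_one_iff]
  refine Nat.eq_one_of_dvd_coprimes hc (orderOf_map_dvd (QuotientGroup.mk' N) g) ?_
  rw [index_eq_card]
  exact orderOf_dvd_natCard _

theorem sum_le_of_coprime {N : Subgroup G} [N.Normal] (S : Finset ℕ) (hS : ∀ n ∈ S, n.Coprime N.index) :
    ∑ n ∈ S, cnt G n ≤ Nat.card N := by
  classical
  haveI := Fintype.ofFinite G
  have e : ∀ n, cnt G n = ((Finset.univ : Finset G).filter fun g => orderOf g = n).card := fun n => by
    rw [cnt, Nat.card_eq_fintype_card, Fintype.card_subtype]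
  simp only [e]
  rw [Nat.card_eq_fintype_card, Fintype.card_subtype, ← Finset.card_biUnion]
  · refine Finset.card_le_card fun g hg => ?_
    obtain ⟨n, hn, hg⟩ := Finset.mem_biUnion.1 hg
    exact Finset.mem_filter.2 ⟨Finset.mem_univ _,
      h.mem_of_coprime ((Finset.mem_filter.1 hg).2.symm ▸ hS n hn)⟩
  · intro a _ b _ hab
    exact Finset.disjoint_left.2 fun g hg hg' =>
      hab ((Finset.mem_filter.1 hg).2.symm.trans (Finset.mem_filter.1 hg').2)

/-- A self-centralising element of prime order acts freely on a normal subgroup avoiding it. -/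
theorem normal_modEq {N : Subgroup G} [N.Normal] {p : ℕ} [hp : Fact p.Prime] (hN : ¬ p ∣ Nat.card N)
    {x : G} (hx : orderOf x = p) (hc : Nat.card (centralizer ({x} : Set G)) = p) : Nat.card N % p = 1 := by
  have h1 := CfsgLib.M12Nse.card_modEq_fixed (p := p) (n := 1) (x := x) (by rw [pow_one, ← hx, pow_orderOf_eq_one])
    (· ∈ N) (fun g => ⟨fun hg => Normal.conj_mem inferInstance g hg x, fun hg => by
      have := Normal.conj_mem (inferInstance : N.Normal) _ hg x⁻¹
      simpa [mul_assoc] using this⟩)
  have h2 : Nat.card {g : G // g ∈ N ∧ g * x = x * g} = 1 := by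
    refine Nat.card_eq_one_iff_unique.2 ⟨⟨fun a b => Subtype.ext ?_⟩, ⟨⟨1, N.one_mem, by simp⟩⟩⟩
    have key : ∀ g, g ∈ N → g * x = x * g → g = 1 := fun g hg hgx => by
      have h3 : orderOf g ∣ Nat.card N := orderOf_dvd_natCard _ hg
      have h4 : orderOf g ∣ p := hc ▸ orderOf_dvd_natCard _ (mem_centralizer_singleton_iff.2 hgx)
      rcases (Nat.dvd_prime hp.out).1 h4 with h5 | h5
      · exact orderOf_eq_one_iff.1 h5
      · exact absurd (h5 ▸ h3) hN
    rw [key _ a.2.1 a.2.2, key _ b.2.1 b.2.2]
  have h3 : Nat.card N ≡ 1 [MOD p] := h2 ▸ h1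
  exact Eq.trans h3 (Nat.mod_eq_of_lt hp.out.one_lt)

theorem isSimple : IsSimpleGroup G := by
  haveI : Nontrivial G := (Finite.one_lt_card_iff_nontrivial).1 (by rw [h.card]; norm_num)
  refine ⟨fun N hN => ?_⟩
  haveI := hN
  have hmul := N.index_mul_card
  rw [h.card] at hmul
  have hc : ∀ {a : ℕ}, a.Prime → ¬ a ∣ N.index → a.Coprime N.index := fun ha hd =>
    ha.coprime_iff_not_dvd.2 hd
  haveI : Fact (Nat.Prime 11) := ⟨by norm_num⟩
  haveI : Fact (Nat.Prime 23) := ⟨by norm_num⟩
  by_cases h23 : 23 ∣ Nat.card N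
  · refine Or.inr (index_eq_one.1 ?_)
    have hi : N.index ∣ 443520 := by
      obtain ⟨k, hk⟩ := h23
      rw [hk] at hmul
      exact ⟨k, by linarith⟩
    have h1 := h.sum_le_of_coprime (N := N) {23} (fun n hn => by
      rw [Finset.mem_singleton.1 hn]
      exact hc (by norm_num) fun hd => absurd (hd.trans hi) (by norm_num))
    rw [Finset.sum_singleton, h.c23] at h1
    have hle : N.index ≤ 11 := by
      by_contra hgt
      nlinarith
    have hi0 : 0 < N.index := Nat.pos_of_ne_zero index_ne_zero_of_finite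
    obtain ⟨j, hj⟩ : ∃ j, N.index = j := ⟨_, rfl⟩
    have key : ∀ S : Finset ℕ, (∀ n ∈ S, n.Coprime j) → ∑ n ∈ S, cnt G n ≤ Nat.card N := fun S hS =>
      h.sum_le_of_coprime (N := N) S (hj ▸ hS)
    rw [hj] at hmul hi hle hi0 ⊢
    have e4 : j = 2 ∨ j = 4 ∨ j = 8 → False := fun hcase => by
      have := key {3, 5, 7, 11, 15, 23} (by rcases hcase with rfl | rfl | rfl <;> decide)
      simp [h.c3, h.c5, h.c7, h.c11, h.c15, h.c23] at this
      rcases hcase with rfl | rfl | rfl <;> omega
    have e3 : j = 3 ∨ j = 6 ∨ j = 9 → False := fun hcase => by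
      have := key {5, 7, 11, 23} (by rcases hcase with rfl | rfl | rfl <;> decide)
      simp [h.c5, h.c7, h.c11, h.c23] at this
      rcases hcase with rfl | rfl | rfl <;> omega
    have e5 : j = 5 ∨ j = 10 → False := fun hcase => by
      have := key {7, 11, 23} (by rcases hcase with rfl | rfl <;> decide)
      simp [h.c7, h.c11, h.c23] at this
      rcases hcase with rfl | rfl <;> omega
    have e7 : j = 7 → False := fun hcase => by
      have := key {11, 23} (by subst hcase; decide)
      simp [h.c11, h.c23] at this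
      subst hcase
      omega
    have e11 : j = 11 → False := fun hcase => by
      have := key {2, 3, 5, 7, 14, 15, 23} (by subst hcase; decide)
      simp [h.c2, h.c3, h.c5, h.c7, h.c14, h.c15, h.c23] at this
      subst hcase
      omega
    by_contra hne
    rcases (show j = 2 ∨ j = 3 ∨ j = 4 ∨ j = 5 ∨ j = 6 ∨ j = 7 ∨ j = 8 ∨ j = 9 ∨ j = 10 ∨ j = 11 by omega) with
      e | e | e | e | e | e | e | e | e | e
    exacts [e4 (by omega), e3 (by omega), e4 (by omega), e5 (by omega), e3 (by omega), e7 e, e4 (by omega),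
      e3 (by omega), e5 (by omega), e11 e]
  · refine Or.inl (card_eq_one.1 ?_)
    have hj : Nat.card N ∣ 443520 := by
      have h1 : Nat.card N ∣ 443520 * 23 := ⟨N.index, by linarith⟩
      exact ((Nat.Prime.coprime_iff_not_dvd Fact.out).2 h23).symm.dvd_of_dvd_mul_right h1
    obtain ⟨y, hy⟩ := cnt_pos_iff.1 (show cnt G 23 ≠ 0 by rw [h.c23]; norm_num)
    have h1 := h.normal_modEq h23 hy (h.cent23 hy)
    by_cases h11 : 11 ∣ Nat.card N
    · exfalso
      have hi : ¬ 11 ∣ N.index := fun hd => by
        obtain ⟨a, ha⟩ := h11; obtain ⟨b, hb⟩ := hd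
        rw [ha, hb] at hmul
        have : 121 ∣ 10200960 := ⟨a * b, by linarith⟩
        revert this; norm_num
      have h2 := h.sum_le_of_coprime (N := N) {11} (fun n hn => by
        rw [Finset.mem_singleton.1 hn]; exact hc (by norm_num) hi)
      rw [Finset.sum_singleton, h.c11] at h2
      have := Nat.le_of_dvd (by norm_num) hj
      omega
    · obtain ⟨x, hx⟩ := cnt_pos_iff.1 (show cnt G 11 ≠ 0 by rw [h.c11]; norm_num)
      have h2 := h.normal_modEq h11 hx (h.cent11 hx)
      have hj' : Nat.card N ∣ 40320 :=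
        ((Nat.Prime.coprime_iff_not_dvd Fact.out).2 h11).symm.dvd_of_dvd_mul_right
          (show Nat.card N ∣ 40320 * 11 from hj)
      have h3 : Nat.card N % 253 = 1 := by omega
      have hk : ∀ k < 160, k * 253 + 1 ∣ 40320 → k = 0 := by decide +kernel
      have := Nat.le_of_dvd (by norm_num) hj'
      have h4 := hk (Nat.card N / 253) (by omega) (by
        rwa [show Nat.card N / 253 * 253 + 1 = Nat.card N by omega])
      omega

end CfsgLib.M23Nse.Nse
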