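import Cfsg.Agent.M23Nse.Cosets
import Cfsg.Agent.M23Nse.LocalDef

/-!
# The groups of order sixteen form a configuration of the expected kind
-/

set_option autoImplicit false
set_option linter.style.haveILetI false
set_option linter.unusedSectionVars false

namespace CfsgLib.M23Nse

open Subgroup
open CfsgLib.M12Nse (cz mem_cz)

universe u

variable {G : Type u} [Group G] [Finite G]

namespace Base

variable {z x y : G} (B : Base z x y)
include B

theorem z_mem_V : z ∈ kerGroup z ⊓ cz x := ⟨B.loc.ker_self B.hz, mem_cz.2 B.hc.eq.symm⟩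

theorem y_mem_V : y ∈ kerGroup z ⊓ cz x := ⟨B.hy, mem_cz.2 B.hyx.eq⟩

theorem yz_ne_one : y * z ≠ 1 := fun e => B.hyz (by
  rw [eq_inv_of_mul_eq_one_left e, B.loc.ker_inv B.hz (B.loc.ker_self B.hz)])

theorem yz_ne_z : y * z ≠ z := fun e => B.hy1 (mul_eq_right.1 e)

theorem fix_two {u : G} (hu : u ∈ kerGroup z ⊓ cz x) (hu1 : u ≠ 1) : orderOf u = 2 :=
  orderOf_eq_prime (by rw [pow_two]; exact B.loc.ker_sq B.hz hu.1) hu1

theorem fix_comm {u : G} (hu : u ∈ kerGroup z ⊓ cz x) : Commute x u := (mem_cz.1 hu.2).symm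

theorem V_le_ker {u w : G} (hu : u ∈ kerGroup z ⊓ cz x) (hu1 : u ≠ 1) (hw : w ∈ kerGroup z ⊓ cz x) :
    w ∈ kerGroup u := by
  have hu2 := B.fix_two hu hu1
  have hwu : Commute w u := B.loc.ker_comm B.hz hw.1 hu.1
  exact (B.loc.fix_sylow hu2 B.hx (B.fix_comm hu) (c := w) (mem_cz.1 hw.2) (k := 1)
    (by rw [pow_one, pow_two]; exact B.loc.ker_sq B.hz hw.1)
    fun w' hw' => B.loc.cent_fix hu2 B.hx (B.fix_comm hu) (mem_cz.1 hw.2) hwu hw').1

/-- The group of a further fixed point is the same or consists of the fixed points and outer involutions. -/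
theorem ker_desc {u : G} (hu : u ∈ kerGroup z ⊓ cz x) (hu1 : u ≠ 1) (hne : kerGroup u ≠ kerGroup z) (g : G) :
    g ∈ kerGroup u ↔ g ∈ kerGroup z ⊓ cz x ∨ (B.InR g ∧ g ∉ kerGroup z ∧ g * g = 1) := by
  have hu2 := B.fix_two hu hu1
  have hV : ∀ w ∈ kerGroup z ⊓ cz x, w ∈ kerGroup u := fun w hw => B.V_le_ker hu hu1 hw
  have hR : ∀ a ∈ kerGroup u, B.InR a := fun a ha =>
    ⟨B.loc.ker_comm hu2 ha (hV z B.z_mem_V), B.loc.ker_comm hu2 ha (hV y B.y_mem_V),
      by rw [show 64 = 2 * 32 by norm_num, pow_mul, pow_two a, B.loc.ker_sq hu2 ha, one_pow]⟩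
  obtain ⟨a, ha, haE⟩ : ∃ a ∈ kerGroup u, a ∉ kerGroup z := by
    by_contra h
    push Not at h
    exact hne (eq_of_le_of_card_ge h (by rw [B.loc.ker_card B.hz, B.loc.ker_card hu2]))
  constructor
  · intro hg
    by_cases hgE : g ∈ kerGroup z
    · left
      rw [← B.cent_eq (hR a ha) haE]
      exact ⟨hgE, mem_cz.2 (B.loc.ker_comm hu2 hg ha).eq⟩
    · exact Or.inr ⟨hR g hg, hgE, B.loc.ker_sq hu2 hg⟩
  · rintro (hg | ⟨hgR, hgE, hgg⟩)
    · exact hV g hg
    obtain ⟨h, hhz, hhy, -, hhe, h3⟩ := B.cover3 (hR a ha) haE hgR hgE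
    set a' := h * a * h⁻¹
    set e := a'⁻¹ * g with hedef
    have hhu : Commute h u := by
      rcases h3 with e3 | e3 | e3 <;> rw [e3]
      exacts [Commute.one_left u, B.fix_comm hu, (B.fix_comm hu).mul_left (B.fix_comm hu)]
    have ha' : a' ∈ kerGroup u := B.loc.ker_normal hu2 hhu ha
    have ha'E : a' ∉ kerGroup z := fun h' => haE ((B.conj_mem_iff hhz).1 h')
    have hge : g = a' * e := by rw [hedef, mul_inv_cancel_left]
    rw [hge] at hgg ⊢
    exact mul_mem ha' (hV e ((B.inv_coset (hR a' ha') ha'E (B.loc.ker_sq hu2 ha') hhe).1 hgg))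

theorem ker_pair : (kerGroup y = kerGroup z ↔ kerGroup (y * z) = kerGroup z) ∧
    (kerGroup y ≠ kerGroup z → kerGroup y = kerGroup (y * z)) := by
  have hiff : kerGroup y = kerGroup z ↔ kerGroup (y * z) = kerGroup z := by
    obtain ⟨-, s, hsz, hsx⟩ := B.loc.three_inv x z B.hx B.hz B.hc
    have h1 := B.loc.ker_conj B.y_two s
    rw [B.loc.flip B.hz B.hx B.hc hsz hsx B.hy B.hyx B.hy1 B.hyz] at h1
    have h2 := B.loc.ker_conj B.hz s
    rw [mul_inv_eq_iff_eq_mul.2 hsz.eq] at h2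
    refine ⟨fun e => by rw [h1, e, ← h2], fun e => map_injective (f := (MulAut.conj s).toMonoidHom) (MulAut.conj s).injective ?_⟩
    rw [← h1, e]
    exact h2
  refine ⟨hiff, fun hne => SetLike.ext fun g => ?_⟩
  rw [B.ker_desc B.y_mem_V B.hy1 hne,
    B.ker_desc (mul_mem B.y_mem_V B.z_mem_V) B.yz_ne_one fun e => hne (hiff.2 e)]

theorem swap : Base y x z :=
  ⟨B.loc, B.y_two, B.hx, B.hyx.symm, B.V_le_ker B.y_mem_V B.hy1 B.z_mem_V, B.hc.symm, B.z_ne, B.hyz.symm⟩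

theorem ker_eq_base : kerGroup y = kerGroup z := by
  by_contra hne
  have h := B.ker_pair.2 hne
  rw [B.yz_comm.eq] at h
  exact hne (B.swap.ker_pair.1.2 h.symm).symm

theorem conj_base {g : G} (hg : Commute g z) : Base z (g * x * g⁻¹) (g * y * g⁻¹) where
  loc := B.loc
  hz := B.hz
  hx := ((MulAut.conj g).orderOf_eq x).trans B.hx
  hc := (hg.mul_left B.hc).mul_left hg.inv_left
  hy := B.loc.ker_normal B.hz hg B.hy
  hyx := B.hyx.map (MulAut.conj g).toMonoidHom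
  hy1 := fun e => B.hy1 (conj_eq_one_iff.1 e)
  hyz := fun e => B.hyz (mul_left_cancel (mul_right_cancel (e.trans (mul_inv_eq_iff_eq_mul.2 hg.eq).symm)))

/-- An element of the centraliser fixing an element of the group can be moved into the stabiliser. -/
theorem into_R {t : G} (ht : Commute t z) (hte : t ∉ kerGroup z) (htt : t * t ∈ kerGroup z) :
    ∃ g : G, Commute g z ∧ B.InR (g * t * g⁻¹) ∧ g * t * g⁻¹ ∉ kerGroup z := by
  classical
  have h4 := B.loc.card_fix_two B.hz ht htt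
  obtain ⟨a, ha, ha1, haz⟩ : ∃ a ∈ kerGroup z ⊓ cz t, a ≠ 1 ∧ a ≠ z := by
    by_contra hcon
    push Not at hcon
    have h2 : Nat.card ↥(kerGroup z ⊓ cz t) ≤ ({1, z} : Finset G).card := by
      rw [← Nat.card_eq_finsetCard]
      exact Nat.card_le_card_of_injective (fun a : ↥(kerGroup z ⊓ cz t) => (⟨a.1, by
        rcases eq_or_ne (a : G) 1 with e | e
        · simp [e]
        · simp [hcon a.1 a.2 e]⟩ : ({1, z} : Finset G)))
        fun a b e => Subtype.ext (congrArg (fun t : ({1, z} : Finset G) => t.1) e)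
    have := (h4.trans h2).trans Finset.card_le_two
    omega
  obtain ⟨g, hgz, hgy⟩ := B.cover ha.1 ha1 haz
  have hgz' := hgz.inv_left
  refine ⟨g⁻¹, hgz', ⟨(hgz'.mul_left ht).mul_left hgz'.inv_left, ?_, ?_⟩,
    fun h => hte ((B.conj_mem_iff hgz').1 h)⟩
  · show g⁻¹ * t * g⁻¹⁻¹ * y = y * (g⁻¹ * t * g⁻¹⁻¹)
    rw [inv_inv]
    calc g⁻¹ * t * g * y = g⁻¹ * (t * (g * y * g⁻¹)) * g := by group
      _ = g⁻¹ * ((g * y * g⁻¹) * t) * g := by rw [hgy, (show a * t = t * a from mem_cz.1 ha.2)]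
      _ = _ := by group
  · rw [conj_pow, show 64 = 2 * 2 * 16 by norm_num, pow_mul t (2 * 2), pow_mul t 2 2, pow_two t,
      pow_two (t * t), B.loc.ker_sq B.hz htt, one_pow, mul_one, mul_inv_cancel]

theorem involution_R {t : G} (ht : orderOf t = 2) (htz : Commute t z) (hty : Commute t y) : B.InR t :=
  ⟨htz, hty, by rw [show 64 = orderOf t * 32 by rw [ht], pow_mul, pow_orderOf_eq_one, one_pow]⟩

theorem sq_one {t : G} (ht : orderOf t = 2) : t * t = 1 := by rw [← pow_two, ← ht, pow_orderOf_eq_one]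

/-- An outer involution exists. -/
theorem exists_outer : ∃ t : G, orderOf t = 2 ∧ Commute t z ∧ t ∉ kerGroup z := by
  obtain ⟨-, s₀, hsz₀, hsx₀⟩ := B.loc.three_inv x z B.hx B.hz B.hc
  obtain ⟨j, m, hm, hmo⟩ := Nat.exists_eq_pow_mul_and_not_dvd (orderOf_pos s₀).ne' 2 (by norm_num)
  obtain ⟨n, rfl⟩ : Odd m := Nat.odd_iff.2 (Nat.two_dvd_ne_zero.1 hm)
  set s := s₀ ^ (2 * n + 1) with hs
  have hsz : Commute s z := hsz₀.pow_left _
  have hsx : s * x * s⁻¹ = x⁻¹ := by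
    rw [hs]
    clear hs hsz hm hmo s
    induction n with
    | zero => simpa using hsx₀
    | succ n ih =>
      rw [show 2 * (n + 1) + 1 = 2 + (2 * n + 1) by ring, pow_add,
        show s₀ ^ 2 * s₀ ^ (2 * n + 1) * x * (s₀ ^ 2 * s₀ ^ (2 * n + 1))⁻¹ =
          s₀ ^ 2 * (s₀ ^ (2 * n + 1) * x * (s₀ ^ (2 * n + 1))⁻¹) * (s₀ ^ 2)⁻¹ by group, ih, pow_two,
        show s₀ * s₀ * x⁻¹ * (s₀ * s₀)⁻¹ = s₀ * (s₀ * x * s₀⁻¹)⁻¹ * s₀⁻¹ by group, hsx₀, inv_inv, hsx₀]
  have hsp : s ^ 2 ^ j = 1 := by rw [hs, ← pow_mul, mul_comm, ← hmo, pow_orderOf_eq_one]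
  have hsE : s ∉ kerGroup z := fun h => by
    have h1 : s * (x * s⁻¹ * x⁻¹) ∈ kerGroup z := mul_mem h (B.loc.ker_normal B.hz B.hc (inv_mem h))
    have e2 : s * (x * s⁻¹ * x⁻¹) = x := by
      rw [show s * (x * s⁻¹ * x⁻¹) = s * x * s⁻¹ * x⁻¹ by group, hsx, ← mul_inv_rev,
        inv_eq_iff_mul_eq_one, B.xxx]
    rw [e2] at h1
    have := Subgroup.orderOf_dvd_natCard _ h1
    rw [B.hx, B.loc.ker_card B.hz] at this
    norm_num at this
  have hs2x : Commute (s * s) x := by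
    refine mul_inv_eq_iff_eq_mul.1 ?_
    rw [show s * s * x * (s * s)⁻¹ = s * (s * x * s⁻¹) * s⁻¹ by group, hsx,
      show s * x⁻¹ * s⁻¹ = (s * x * s⁻¹)⁻¹ by group, hsx, inv_inv]
  have hs2z : Commute (s * s) z := hsz.mul_left hsz
  have hs2 : s * s ∈ kerGroup z ⊓ cz x := B.loc.fix_sylow B.hz B.hx B.hc hs2x (k := j)
    (by rw [← pow_two, ← pow_mul, mul_comm, pow_mul, hsp, one_pow])
    fun w hw => B.loc.cent_fix B.hz B.hx B.hc hs2x hs2z hw
  have hcase : s * s = 1 ∨ s * s = z := by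
    by_contra hcon
    push Not at hcon
    have h := B.loc.flip B.hz B.hx B.hc hsz hsx hs2.1 hs2x hcon.1 hcon.2
    rw [show s * (s * s) * s⁻¹ = s * s by group] at h
    exact B.z_ne (mul_eq_left.1 h.symm)
  rcases hcase with e | e
  · exact ⟨s, orderOf_eq_prime (by rw [pow_two, e]) (fun e' => hsE (e' ▸ one_mem _)), hsz, hsE⟩
  · have hsy : s * y ∉ kerGroup z := fun h => hsE ((mul_mem_cancel_right B.hy).1 h)
    refine ⟨s * y, orderOf_eq_prime ?_ (fun e' => hsy (e' ▸ one_mem _)), hsz.mul_left B.yz_comm, hsy⟩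
    rw [pow_two, show s * y * (s * y) = s * y * s⁻¹ * (s * s) * y by group,
      B.loc.flip B.hz B.hx B.hc hsz hsx B.hy B.hyx B.hy1 B.hyz, e, mul_assoc y z z,
      show z * z = 1 from B.sq_one B.hz, mul_one, B.loc.ker_sq B.hz B.hy]

theorem outer_conj_R {t t' : G} (ht : B.InR t) (htE : t ∉ kerGroup z) (htt : t * t = 1) (ht' : B.InR t')
    (htE' : t' ∉ kerGroup z) (htt' : t' * t' = 1) : ∃ g : G, Commute g z ∧ g * t * g⁻¹ = t' := by
  obtain ⟨h, hhz, hhy, -, he, -⟩ := B.cover3 ht htE ht' htE'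
  set a := h * t * h⁻¹ with hadef
  have haR : B.InR a := B.R_conj hhz hhy ht
  have haE : a ∉ kerGroup z := fun h' => htE ((B.conj_mem_iff hhz).1 h')
  have haa : a * a = 1 := by
    rw [hadef, show h * t * h⁻¹ * (h * t * h⁻¹) = h * (t * t) * h⁻¹ by group, htt]
    group
  have hv := (B.inv_coset haR haE haa he).1 (by rw [mul_inv_cancel_left]; exact htt')
  obtain ⟨e, hemem, hee⟩ := B.conj_coset haR haE haa hv
  refine ⟨e * h, (B.loc.ker_commute B.hz hemem).mul_left hhz, ?_⟩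
  rw [show e * h * t * (e * h)⁻¹ = e * a * e⁻¹ by rw [hadef]; group, hee, mul_inv_cancel_left]

/-- Twelve outer involutions commute with the further fixed point. -/
theorem card_outer_fix :
    Nat.card {t : G // (orderOf t = 2 ∧ Commute t z ∧ t ∉ kerGroup z) ∧ Commute t y} = 12 := by
  classical
  obtain ⟨t₁, h₁, h₁z, h₁E⟩ := B.exists_outer
  obtain ⟨g, hgz, hgR, hgE⟩ := B.into_R h₁z h₁E (by rw [B.sq_one h₁]; exact one_mem _)
  set t := g * t₁ * g⁻¹ with htdef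
  have htt : t * t = 1 := by
    rw [htdef, show g * t₁ * g⁻¹ * (g * t₁ * g⁻¹) = g * (t₁ * t₁) * g⁻¹ by group, B.sq_one h₁]
    group
  let h : Fin 3 → G := ![1, x, x * x]
  have hh : ∀ i, Commute (h i) z ∧ Commute (h i) y ∧ Commute (h i) x := by
    intro i
    fin_cases i
    exacts [⟨.one_left _, .one_left _, .one_left _⟩, ⟨B.hc, B.hyx.symm, .refl x⟩,
      ⟨B.hc.mul_left B.hc, B.hyx.symm.mul_left B.hyx.symm, (Commute.refl x).mul_left (Commute.refl x)⟩]
  let r : Fin 3 → G := fun i => h i * t * (h i)⁻¹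
  have hrR : ∀ i, B.InR (r i) := fun i => B.R_conj (hh i).1 (hh i).2.1 hgR
  have hrE : ∀ i, r i ∉ kerGroup z := fun i h' => hgE ((B.conj_mem_iff (hh i).1).1 h')
  have hrr : ∀ i, r i * r i = 1 := fun i => by
    show h i * t * (h i)⁻¹ * (h i * t * (h i)⁻¹) = 1
    rw [show h i * t * (h i)⁻¹ * (h i * t * (h i)⁻¹) = h i * (t * t) * (h i)⁻¹ by group, htt]
    group
  have hdis : ∀ i j, (r i)⁻¹ * r j ∈ kerGroup z → i = j := by
    have h01 : (r 0)⁻¹ * r 1 ∉ kerGroup z := fun h' => hgE (B.coset_fix hgR (by simpa [r, h] using h'))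
    have h12 : (r 1)⁻¹ * r 2 ∉ kerGroup z := fun h' => h01 ((B.conj_mem_iff B.hc).1 (by
      rwa [show x * ((r 0)⁻¹ * r 1) * x⁻¹ = (r 1)⁻¹ * r 2 by simp [r, h, mul_assoc]]))
    have h02 : (r 0)⁻¹ * r 2 ∉ kerGroup z := fun h' => h01 (by
      have h'' := inv_mem ((B.conj_mem_iff B.hc).2 h')
      rwa [show (x * ((r 0)⁻¹ * r 2) * x⁻¹)⁻¹ = (r 0)⁻¹ * r 1 by
        simp only [r, h, Matrix.cons_val_zero, Matrix.cons_val_one, Matrix.cons_val]
        rw [show (x * ((1 * t * 1⁻¹)⁻¹ * (x * x * t * (x * x)⁻¹)) * x⁻¹)⁻¹ =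
          x * x * x * t⁻¹ * (x * x * x)⁻¹ * (x * t * x⁻¹) by simp [mul_assoc], B.xxx]
        simp] at h'')
    intro i j h'
    have h'' : (r j)⁻¹ * r i ∈ kerGroup z := by simpa using inv_mem h'
    fin_cases i <;> fin_cases j <;> first
      | rfl
      | exact absurd h' h01
      | exact absurd h' h12
      | exact absurd h' h02
      | exact absurd h'' h01
      | exact absurd h'' h12
      | exact absurd h'' h02
  let f : Fin 3 × ↥(kerGroup z ⊓ cz x) →
      {t : G // (orderOf t = 2 ∧ Commute t z ∧ t ∉ kerGroup z) ∧ Commute t y} := fun a =>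
    ⟨r a.1 * a.2, by
      have hR := B.R_mul (hrR a.1) (B.ker_R a.2.2.1)
      have hE : r a.1 * (a.2 : G) ∉ kerGroup z := fun h' => hrE a.1 ((mul_mem_cancel_right (show (a.2 : G) ∈ kerGroup z from a.2.2.1)).1 h')
      refine ⟨⟨orderOf_eq_prime ?_ fun e => hE (e ▸ one_mem _), hR.1, hE⟩, hR.2.1⟩
      rw [pow_two]
      exact (B.inv_coset (hrR a.1) (hrE a.1) (hrr a.1) a.2.2.1).2 a.2.2⟩
  have hf : Function.Bijective f := by
    refine ⟨?_, ?_⟩
    · rintro ⟨i, v⟩ ⟨j, w⟩ e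
      have e' : r i * v = r j * w := congrArg Subtype.val e
      obtain rfl := hdis i j (by
        rw [show r j = r i * v * (w : G)⁻¹ by rw [e', mul_inv_cancel_right],
          show (r i)⁻¹ * (r i * v * (w : G)⁻¹) = v * (w : G)⁻¹ by group]
        exact mul_mem v.2.1 (inv_mem w.2.1))
      exact Prod.ext rfl (Subtype.ext (mul_left_cancel e'))
    · rintro ⟨a, ⟨ha, haz, haE⟩, hay⟩
      obtain ⟨k, -, -, -, hk, hk3⟩ := B.cover3 hgR hgE (B.involution_R ha haz hay) haE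
      obtain ⟨i, hi⟩ : ∃ i, r i = k * t * k⁻¹ := by
        rcases hk3 with e3 | e3 | e3 <;> rw [e3]
        exacts [⟨0, by simp [r, h]⟩, ⟨1, by simp [r, h]⟩, ⟨2, by simp [r, h]⟩]
      rw [← hi] at hk
      have hv := (B.inv_coset (hrR i) (hrE i) (hrr i) hk).1 (by rw [mul_inv_cancel_left]; exact B.sq_one ha)
      exact ⟨⟨i, ⟨_, hv⟩⟩, Subtype.ext (mul_inv_cancel_left _ _)⟩
  rw [← Nat.card_eq_of_bijective f hf, Nat.card_prod, Nat.card_fin, B.loc.card_fix B.hz B.hx B.hc]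

theorem card_fix_outer {t : G} (htz : Commute t z) (hte : t ∉ kerGroup z) (htt : t * t ∈ kerGroup z) :
    Nat.card ↥(kerGroup z ⊓ cz t) = 4 := by
  obtain ⟨g, hgz, hR, hE⟩ := B.into_R htz hte htt
  have e : (kerGroup z ⊓ cz t).map (MulAut.conj g).toMonoidHom = kerGroup z ⊓ cz (g * t * g⁻¹) := by
    refine le_antisymm ?_ fun a ha => ?_
    · rintro _ ⟨a, ha, rfl⟩
      exact ⟨B.loc.ker_normal B.hz hgz ha.1,
        mem_cz.2 ((show Commute a t from mem_cz.1 ha.2).map (MulAut.conj g).toMonoidHom).eq⟩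
    · refine ⟨g⁻¹ * a * g, ⟨by simpa using B.loc.ker_normal B.hz hgz.inv_left ha.1, mem_cz.2 ?_⟩,
        show g * (g⁻¹ * a * g) * g⁻¹ = a by group⟩
      calc g⁻¹ * a * g * t = g⁻¹ * (a * (g * t * g⁻¹)) * g := by group
        _ = g⁻¹ * ((g * t * g⁻¹) * a) * g := by rw [mem_cz.1 ha.2]
        _ = _ := by group
  rw [← card_map_of_injective (f := (MulAut.conj g).toMonoidHom) (MulAut.conj g).injective (K := kerGroup z ⊓ cz t)]
  erw [e]
  rw [B.cent_eq hR hE, B.loc.card_fix B.hz B.hx B.hc]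

end Base

end CfsgLib.M23Nse
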