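import Cfsg.Agent.M23Nse.Simple

/-!
# Centralisers of involutions and of elements of order three from the values
-/

set_option autoImplicit false
set_option linter.style.haveILetI false
set_option linter.unusedSectionVars false

namespace CfsgLib.M23Nse.Nse

open Subgroup CfsgLib.ThreeCounts CfsgLib.M12Nse

universe u

variable {G : Type u} [Group G] [Finite G] (h : Nse G)
include h

theorem not_two_dvd {p : ℕ} (hp : p = 5 ∨ p = 11 ∨ p = 23) {y : G} (hy : orderOf y = p) :
    ¬ 2 ∣ Nat.card (centralizer ({y} : Set G)) := by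
  rcases hp with rfl | rfl | rfl
  · rw [(h.cent5 hy).1]; norm_num
  · rw [h.cent11 hy]; norm_num
  · rw [h.cent23 hy]; norm_num

theorem inv_conj_card {z : G} (hz : orderOf z = 2) :
    Nat.card (centralizer ({z} : Set G)) = 2688 ∧ ∀ z' : G, orderOf z' = 2 → IsConj z z' := by
  haveI : Fact (Nat.Prime 7) := ⟨by norm_num⟩
  haveI : Fact (Nat.Prime 2) := ⟨by norm_num⟩
  set C := centralizer ({z} : Set G)
  have hnd : ∀ p : ℕ, (p = 5 ∨ p = 11 ∨ p = 23) → ¬ p ∣ Nat.card C := fun p hp hd => by
    haveI : Fact p.Prime := ⟨by rcases hp with rfl | rfl | rfl <;> norm_num⟩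
    obtain ⟨y, hy⟩ := exists_prime_orderOf_dvd_card' p hd
    refine h.not_two_dvd hp (y := (y : G)) (by rw [Subgroup.orderOf_coe, hy]) ?_
    exact hz ▸ Subgroup.orderOf_dvd_natCard _
      (mem_centralizer_singleton_iff.2 (mem_centralizer_singleton_iff.1 y.2).symm)
  have hdvd : Nat.card C ∣ 10200960 := h.card ▸ card_subgroup_dvd_card C
  have h8064 : Nat.card C ∣ 8064 := by
    have a5 := ((Nat.Prime.coprime_iff_not_dvd (by norm_num)).2 (hnd 5 (by norm_num))).symm
    have a11 := ((Nat.Prime.coprime_iff_not_dvd (by norm_num)).2 (hnd 11 (by norm_num))).symm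
    have a23 := ((Nat.Prime.coprime_iff_not_dvd (by norm_num)).2 (hnd 23 (by norm_num))).symm
    exact a23.dvd_of_dvd_mul_right (a11.dvd_of_dvd_mul_right (a5.dvd_of_dvd_mul_right
      (show Nat.card C ∣ 8064 * 23 * 11 * 5 by exact hdvd)))
  obtain ⟨m, hm⟩ := h8064
  have hi : C.index = 1265 * m := by
    have h1 := C.card_mul_index
    rw [h.card, show 10200960 = 8064 * 1265 by norm_num] at h1
    rw [hm] at h1
    exact Nat.eq_of_mul_eq_mul_left Nat.card_pos (by rw [h1]; ring)
  have hle : C.index ≤ 3795 := by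
    have := CfsgLib.Nse.index_centralizer_le z
    rwa [hz, h.c2] at this
  obtain ⟨x, hx⟩ := cnt_pos_iff.1 (show cnt G 7 ≠ 0 by rw [h.c7]; norm_num)
  have hmod := card_modEq_fixed (p := 7) (n := 1) (x := x) (by rw [pow_one, ← hx, pow_orderOf_eq_one])
    (IsConj z) (fun g => ⟨fun hg => hg.trans (isConj_iff.2 ⟨x, rfl⟩),
      fun hg => hg.trans (isConj_iff.2 ⟨x, rfl⟩).symm⟩)
  rw [card_conj] at hmod
  have hfix : Nat.card {g // IsConj z g ∧ g * x = x * g} ≤ 1 := by
    rw [← (h.cent7 hx).2, cnt_centralizer]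
    exact Nat.card_le_card_of_injective
      (fun g => (⟨g.1, (orderOf_eq_of_isConj g.2.1).trans hz, g.2.2⟩ :
        {g : G // orderOf g = 2 ∧ g * x = x * g}))
      fun a b e => Subtype.ext (congrArg (fun t : {g : G // orderOf g = 2 ∧ g * x = x * g} => t.1) e)
  change C.index % 7 = _ % 7 at hmod
  have hi0 : C.index ≠ 0 := index_ne_zero_of_finite
  have hidx : C.index = 3795 := by
    have hm3 : m ≤ 3 := by omega
    interval_cases m <;> omega
  refine ⟨by rw [hm] at *; have h1 := C.card_mul_index; rw [h.card, hidx] at h1; omega, fun z' hz' => ?_⟩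
  by_contra hne
  have h3 : Nat.card {g : G // IsConj z g} < cnt G 2 := by
    classical
    haveI := Fintype.ofFinite G
    rw [cnt, Nat.card_eq_fintype_card, Nat.card_eq_fintype_card, Fintype.card_subtype, Fintype.card_subtype]
    refine Finset.card_lt_card ⟨fun g hg => ?_, fun hsub => hne ?_⟩
    · exact Finset.mem_filter.2 ⟨Finset.mem_univ _, (orderOf_eq_of_isConj (Finset.mem_filter.1 hg).2).trans hz⟩
    · exact (Finset.mem_filter.1 (hsub (Finset.mem_filter.2 ⟨Finset.mem_univ _, hz'⟩))).2
  rw [card_conj, show (cz z).index = C.index from rfl, hidx, h.c2] at h3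
  exact lt_irrefl _ h3

theorem cnt_cz_conj {z z' : G} (hzz : IsConj z z') (m : ℕ) :
    cnt ↥(centralizer ({z'} : Set G)) m = cnt ↥(centralizer ({z} : Set G)) m := by
  obtain ⟨c, rfl⟩ := isConj_iff.1 hzz
  rw [cnt_centralizer, cnt_centralizer]
  refine (Nat.card_congr (conjEquiv c _ _ fun g => ?_)).symm
  refine and_congr (by rw [show orderOf (c * g * c⁻¹) = orderOf g from (MulAut.conj c).orderOf_eq g]) ?_
  exact mem_cz.symm.trans ((show g ∈ cz z ↔ c * g * c⁻¹ ∈ cz (c * z * c⁻¹) by
    rw [mem_cz, mem_cz]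
    constructor
    · intro e
      calc c * g * c⁻¹ * (c * z * c⁻¹) = c * (g * z) * c⁻¹ := by group
        _ = _ := by rw [e]; group
    · intro e
      have := congrArg (fun t => c⁻¹ * t * c) e
      simpa [mul_assoc] using this).trans mem_cz)

theorem cz_three {z : G} (hz : orderOf z = 2) :
    cnt ↥(centralizer ({z} : Set G)) 3 = 224 := by
  haveI : Fact (Nat.Prime 3) := ⟨by norm_num⟩
  set Z := centralizer ({z} : Set G)
  have hcard := (h.inv_conj_card hz).1
  have e1 : cnt G (2 * 3) = cnt G 2 * cnt Z 3 := by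
    show Nat.card {g : G // orderOf g = 2 * 3} = _
    rw [show Nat.card {g : G // orderOf g = 2 * 3} = CfsgLib.M11Nse.cnt G (2 * 3) from rfl,
      CfsgLib.M12Nse.cnt_mul (by norm_num) (by norm_num) (by norm_num)]
    exact card_pairs (fun a : G => orderOf a = 2) (fun a b => orderOf b = 3 ∧ Commute a b) fun a ha => by
      rw [← cnt_cz_conj h ((h.inv_conj_card hz).2 a ha) 3, cnt_centralizer]
      exact Nat.card_congr (Equiv.subtypeEquivRight fun b => and_congr Iff.rfl ⟨Eq.symm, Eq.symm⟩)
  have hk : (Nat.card Z).factorization 3 = 1 := by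
    rw [hcard, show (2688 : ℕ) = 3 ^ 1 * 896 by norm_num, Nat.factorization_mul (by norm_num) (by norm_num),
      Finsupp.add_apply, (Fact.out : Nat.Prime 3).factorization_pow, Finsupp.single_eq_same,
      Nat.factorization_eq_zero_of_not_dvd (by norm_num)]
  have e2 := CfsgLib.Nse.card_sylow_prime (G := Z) hk
  have e3 : Nat.card (Sylow 3 Z) % 3 = 1 := card_sylow_modEq_one 3 Z
  have h6 : cnt G 6 ≠ 0 := by
    obtain ⟨P⟩ : Nonempty (Sylow 3 Z) := inferInstance
    rw [show (6 : ℕ) = 2 * 3 from rfl, e1, h.c2, e2]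
    have := Nat.card_pos (α := Sylow 3 Z)
    omega
  have h7 := h.rest_mem (by decide) h6
  rw [show (6 : ℕ) = 2 * 3 from rfl, e1, h.c2, e2] at h7
  simp only [restSet, Finset.mem_insert, Finset.mem_singleton] at h7
  omega

/-- Any two commuting pairs of orders two and three are conjugate up to inversion. -/
theorem pair_conj {z x z' x' : G} (hz : orderOf z = 2) (hx : orderOf x = 3) (hc : Commute x z)
    (hz' : orderOf z' = 2) (hx' : orderOf x' = 3) (hc' : Commute x' z') :
    ∃ g, g * z * g⁻¹ = z' ∧ (g * x * g⁻¹ = x' ∨ g * x * g⁻¹ = x'⁻¹) := by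
  haveI : Fact (Nat.Prime 3) := ⟨by norm_num⟩
  obtain ⟨c, rfl⟩ := isConj_iff.1 ((h.inv_conj_card hz).2 z' hz')
  set Z := centralizer ({z} : Set G)
  have hk : (Nat.card Z).factorization 3 = 1 := by
    rw [(h.inv_conj_card hz).1, show (2688 : ℕ) = 3 ^ 1 * 896 by norm_num,
      Nat.factorization_mul (by norm_num) (by norm_num),
      Finsupp.add_apply, (Fact.out : Nat.Prime 3).factorization_pow, Finsupp.single_eq_same,
      Nat.factorization_eq_zero_of_not_dvd (by norm_num)]
  let a : Z := ⟨x, mem_centralizer_singleton_iff.2 hc.eq⟩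
  let b : Z := ⟨c⁻¹ * x' * c, mem_centralizer_singleton_iff.2 (by
    calc c⁻¹ * x' * c * z = c⁻¹ * (x' * (c * z * c⁻¹)) * c := by group
      _ = c⁻¹ * (c * z * c⁻¹ * x') * c := by rw [hc'.eq]
      _ = _ := by group)⟩
  have ha : orderOf a = 3 := by rw [← Subgroup.orderOf_coe]; exact hx
  have hb : orderOf b = 3 := by
    rw [← Subgroup.orderOf_coe, ← hx']
    show orderOf (c⁻¹ * x' * c) = _
    have := (MulAut.conj c⁻¹).orderOf_eq x'
    rw [← this]
    simp [MulAut.conj_apply]
  let P : Sylow 3 Z := Sylow.ofCard (zpowers a) (by rw [Nat.card_zpowers, ha, hk, pow_one])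
  let Q : Sylow 3 Z := Sylow.ofCard (zpowers b) (by rw [Nat.card_zpowers, hb, hk, pow_one])
  obtain ⟨d, hd⟩ := MulAction.exists_smul_eq Z P Q
  have hmap : (zpowers a).map (MulAut.conj d).toMonoidHom = zpowers b :=
    congrArg (fun R : Sylow 3 Z => (R : Subgroup Z)) hd
  have hmem : d * a * d⁻¹ ∈ zpowers b := hmap ▸ mem_map_of_mem _ (mem_zpowers a)
  obtain ⟨k, hk'⟩ := mem_powers_iff_mem_zpowers.2 hmem
  change b ^ k = d * a * d⁻¹ at hk'
  rw [← pow_mod_orderOf, hb] at hk'
  have hk1 : k % 3 ≠ 0 := fun e => by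
    rw [e, pow_zero, eq_comm] at hk'
    have : orderOf (d * a * d⁻¹) = 3 := ((MulAut.conj d).orderOf_eq a).trans ha
    rw [hk', orderOf_one] at this
    norm_num at this
  have hdz : (d : G) * z * (d : G)⁻¹ = z := mul_inv_eq_iff_eq_mul.2 (mem_centralizer_singleton_iff.1 d.2)
  refine ⟨c * d, by rw [show c * d * z * (c * d : G)⁻¹ = c * ((d : G) * z * (d : G)⁻¹) * c⁻¹ by group, hdz], ?_⟩
  have e : c * (d : G) * x * (c * d : G)⁻¹ = c * (((b ^ (k % 3) : Z)) : G) * c⁻¹ := by
    rw [hk']
    show c * (d : G) * x * (c * d : G)⁻¹ = c * ((d : G) * x * (d : G)⁻¹) * c⁻¹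
    group
  rw [e]
  rcases (show k % 3 = 1 ∨ k % 3 = 2 by omega) with e' | e' <;> rw [e']
  · left; rw [pow_one]; show c * (c⁻¹ * x' * c) * c⁻¹ = x'; group
  · right
    have hb2 : b ^ 2 = b⁻¹ := eq_inv_of_mul_eq_one_left (by rw [← pow_succ, show (2 : ℕ) + 1 = orderOf b from hb.symm, pow_orderOf_eq_one])
    rw [hb2]; show c * (c⁻¹ * x' * c)⁻¹ * c⁻¹ = x'⁻¹; group

theorem centralizer_inv (x : G) : centralizer ({x⁻¹} : Set G) = centralizer ({x} : Set G) := by
  ext g
  rw [mem_centralizer_singleton_iff, mem_centralizer_singleton_iff]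
  exact ⟨fun e => inv_inv x ▸ (show Commute g x⁻¹ from e).inv_right.eq, fun e => (show Commute g x from e).inv_right.eq⟩

/-- The centraliser of a commuting pair, with the inverting element. -/
theorem pair_cases {z x : G} (hz : orderOf z = 2) (hx : orderOf x = 3) (hc : Commute x z) :
    (Nat.card ↥(centralizer ({x} : Set G) ⊓ centralizer ({z} : Set G)) = 12 ∧
        ∃ s, Commute s z ∧ s * x * s⁻¹ = x⁻¹) ∨
      (Nat.card ↥(centralizer ({x} : Set G) ⊓ centralizer ({z} : Set G)) = 24 ∧
        ¬ ∃ s, Commute s z ∧ s * x * s⁻¹ = x⁻¹) := by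
  classical
  set Z := centralizer ({z} : Set G)
  let a : Z := ⟨x, mem_centralizer_singleton_iff.2 hc.eq⟩
  have ha : orderOf a = 3 := by rw [← Subgroup.orderOf_coe]; exact hx
  have hcc : Nat.card (cz a) = Nat.card ↥(centralizer ({x} : Set G) ⊓ Z) :=
    Nat.card_congr
      { toFun := fun g => ⟨g.1.1, mem_centralizer_singleton_iff.2 (congrArg Subtype.val (mem_cz.1 g.2)), g.1.2⟩
        invFun := fun g => ⟨⟨g.1, g.2.2⟩, mem_cz.2 (Subtype.ext (mem_centralizer_singleton_iff.1 g.2.1))⟩
        left_inv := fun _ => rfl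
        right_inv := fun _ => rfl }
  have hclass : ∀ y : Z, orderOf y = 3 → IsConj a y ∨ IsConj a⁻¹ y := by
    intro y hy
    obtain ⟨g, hg, hgx⟩ := h.pair_conj hz hx hc hz (x' := y) (by rw [Subgroup.orderOf_coe]; exact hy)
      (mem_centralizer_singleton_iff.1 y.2)
    let g' : Z := ⟨g, mem_centralizer_singleton_iff.2 (mul_inv_eq_iff_eq_mul.1 hg)⟩
    rcases hgx with e | e
    · exact Or.inl (isConj_iff.2 ⟨g', Subtype.ext e⟩)
    · exact Or.inr (isConj_iff.2 ⟨g', Subtype.ext (by
        show g * x⁻¹ * g⁻¹ = (y : G)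
        rw [show g * x⁻¹ * g⁻¹ = (g * x * g⁻¹)⁻¹ by group, e, inv_inv])⟩)
  have hinv : Nat.card {y : Z // IsConj a⁻¹ y} = Nat.card {y : Z // IsConj a y} := by
    refine Nat.card_congr (Equiv.subtypeEquiv (Equiv.inv Z) fun y => ?_)
    constructor
    · intro e
      obtain ⟨d, rfl⟩ := isConj_iff.1 e
      exact isConj_iff.2 ⟨d, by show d * a * d⁻¹ = (d * a⁻¹ * d⁻¹)⁻¹; group⟩
    · intro e
      obtain ⟨d, hd⟩ := isConj_iff.1 e
      exact isConj_iff.2 ⟨d, by
        rw [show d * a⁻¹ * d⁻¹ = (d * a * d⁻¹)⁻¹ by group, hd]; show (y⁻¹)⁻¹ = y; rw [inv_inv]⟩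
  have h224 : cnt Z 3 = 224 := h.cz_three hz
  have hidx := index_eq_div (g := a) (c := Nat.card ↥(centralizer ({x} : Set G) ⊓ Z)) hcc
  rw [show Nat.card Z = 2688 from (h.inv_conj_card hz).1, ← card_conj] at hidx
  have hord : ∀ {b y : Z}, orderOf b = 3 → IsConj b y → orderOf y = 3 := fun hb e => (orderOf_eq_of_isConj e).trans hb
  by_cases hs : ∃ s, Commute s z ∧ s * x * s⁻¹ = x⁻¹
  · refine Or.inl ⟨?_, hs⟩
    obtain ⟨s, hsz, hsx⟩ := hs
    have hconj : IsConj a a⁻¹ := isConj_iff.2 ⟨⟨s, mem_centralizer_singleton_iff.2 hsz.eq⟩, Subtype.ext hsx⟩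
    have e : Nat.card {y : Z // IsConj a y} = 224 := by
      rw [← h224, cnt]
      exact Nat.card_congr (Equiv.subtypeEquivRight fun y => ⟨hord ha, fun hy =>
        (hclass y hy).elim id fun e => hconj.trans e⟩)
    rw [e] at hidx
    omega
  · refine Or.inr ⟨?_, hs⟩
    have hne : ¬ IsConj a a⁻¹ := fun e => hs (by
      obtain ⟨d, hd⟩ := isConj_iff.1 e
      exact ⟨d, mem_centralizer_singleton_iff.1 d.2, congrArg Subtype.val hd⟩)
    have e : Nat.card {y : Z // IsConj a y} + Nat.card {y : Z // IsConj a⁻¹ y} = 224 := by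
      rw [← h224, cnt, ← Nat.card_sum]
      refine Nat.card_eq_of_bijective (Sum.elim (fun y => ⟨y.1, hord ha y.2⟩)
        (fun y => ⟨y.1, hord (by rw [orderOf_inv]; exact ha) y.2⟩)) ⟨?_, ?_⟩
      · rintro (y | y) (w | w) e <;> simp only [Sum.elim_inl, Sum.elim_inr, Subtype.mk.injEq] at e
        · exact congrArg Sum.inl (Subtype.ext e)
        · exact absurd (y.2.trans (e ▸ w.2.symm)) hne
        · exact absurd (w.2.trans (e ▸ y.2.symm)) hne
        · exact congrArg Sum.inr (Subtype.ext e)
      · rintro ⟨y, hy⟩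
        rcases hclass y hy with e | e
        · exact ⟨Sum.inl ⟨y, e⟩, rfl⟩
        · exact ⟨Sum.inr ⟨y, e⟩, rfl⟩
    rw [hinv] at e
    rw [show Nat.card {y : Z // IsConj a y} = 112 by omega] at hidx
    omega

theorem pair_card_eq {z x z' x' : G} (hz : orderOf z = 2) (hx : orderOf x = 3) (hc : Commute x z)
    (hz' : orderOf z' = 2) (hx' : orderOf x' = 3) (hc' : Commute x' z') :
    Nat.card ↥(centralizer ({x'} : Set G) ⊓ centralizer ({z'} : Set G)) =
      Nat.card ↥(centralizer ({x} : Set G) ⊓ centralizer ({z} : Set G)) := by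
  obtain ⟨g, hg, hgx⟩ := h.pair_conj hz hx hc hz' hx' hc'
  have hX : centralizer ({g * x * g⁻¹} : Set G) = centralizer ({x'} : Set G) := by
    rcases hgx with e | e <;> rw [e]
    exact h.centralizer_inv x'
  rw [← hX, ← hg]
  refine (Nat.card_congr (conjEquiv g _ _ fun t => ?_)).symm
  simp only [mem_inf, mem_centralizer_singleton_iff]
  have key : ∀ a : G, t * a = a * t ↔ g * t * g⁻¹ * (g * a * g⁻¹) = g * a * g⁻¹ * (g * t * g⁻¹) := fun a => by
    rw [show g * t * g⁻¹ * (g * a * g⁻¹) = g * (t * a) * g⁻¹ by group,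
      show g * a * g⁻¹ * (g * t * g⁻¹) = g * (a * t) * g⁻¹ by group]
    simp
  exact and_congr (key x) (key z)

theorem cent3_dvd {x : G} (hx : orderOf x = 3) {c : ℕ}
    (hc : ∀ u, orderOf u = 2 → Commute x u →
      Nat.card ↥(centralizer ({x} : Set G) ⊓ centralizer ({u} : Set G)) ∣ 3 * c) (hc2 : ¬ 3 ∣ c) :
    Nat.card (centralizer ({x} : Set G)) ∣ c * 45 := by
  haveI : Fact (Nat.Prime 2) := ⟨by norm_num⟩
  set C := centralizer ({x} : Set G)
  have hnd : ∀ p : ℕ, (p = 7 ∨ p = 11 ∨ p = 23) → ¬ p ∣ Nat.card C := fun p hp hd => by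
    haveI : Fact p.Prime := ⟨by rcases hp with rfl | rfl | rfl <;> norm_num⟩
    obtain ⟨y, hy⟩ := exists_prime_orderOf_dvd_card' p hd
    have h3 : 3 ∣ Nat.card (centralizer ({(y : G)} : Set G)) := hx ▸ Subgroup.orderOf_dvd_natCard _
      (mem_centralizer_singleton_iff.2 (mem_centralizer_singleton_iff.1 y.2).symm)
    have hy' : orderOf (y : G) = p := by rw [Subgroup.orderOf_coe, hy]
    rcases hp with rfl | rfl | rfl
    · rw [(h.cent7 hy').1] at h3; norm_num at h3
    · rw [h.cent11 hy'] at h3; norm_num at h3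
    · rw [h.cent23 hy'] at h3; norm_num at h3
  obtain ⟨T⟩ : Nonempty (Sylow 2 C) := inferInstance
  have hT := (T : Subgroup C).card_mul_index
  have hTi : ¬ 2 ∣ (T : Subgroup C).index := T.not_dvd_index
  have hdvd : Nat.card C ∣ 10200960 := h.card ▸ card_subgroup_dvd_card C
  have h1 : (T : Subgroup C).index ∣ 45 := by
    have hd : (T : Subgroup C).index ∣ Nat.card C := index_dvd_card _
    have a : ∀ p : ℕ, p.Prime → ¬ p ∣ (T : Subgroup C).index → (T : Subgroup C).index.Coprime p :=
      fun p hp hn => (hp.coprime_iff_not_dvd.2 hn).symm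
    have a2 := (a 2 (by norm_num) hTi).pow_right 7
    have a7 := a 7 (by norm_num) fun e => hnd 7 (by norm_num) (e.trans hd)
    have a11 := a 11 (by norm_num) fun e => hnd 11 (by norm_num) (e.trans hd)
    have a23 := a 23 (by norm_num) fun e => hnd 23 (by norm_num) (e.trans hd)
    exact a23.dvd_of_dvd_mul_right (a11.dvd_of_dvd_mul_right (a7.dvd_of_dvd_mul_right (a2.dvd_of_dvd_mul_right
      (show (T : Subgroup C).index ∣ 45 * 23 * 11 * 7 * 2 ^ 7 by exact hd.trans hdvd))))
  have h2 : Nat.card (T : Subgroup C) ∣ c := by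
    obtain ⟨k, hk⟩ := IsPGroup.iff_card.1 T.isPGroup'
    rcases eq_or_ne k 0 with rfl | hk0
    · rw [hk, pow_zero]; exact one_dvd _
    · haveI : Nontrivial (T : Subgroup C) := Finite.one_lt_card_iff_nontrivial.1 (by
        rw [hk]; exact Nat.one_lt_pow hk0 (by norm_num))
      haveI := T.isPGroup'.center_nontrivial
      have h2c : 2 ∣ Nat.card (center (T : Subgroup C)) := by
        obtain ⟨j, hj⟩ := IsPGroup.iff_card.1 (T.isPGroup'.to_subgroup (center (T : Subgroup C)))
        have hgt := Finite.one_lt_card (α := center (T : Subgroup C))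
        rw [hj] at hgt ⊢
        exact dvd_pow_self 2 fun e => by simp [e] at hgt
      obtain ⟨u, hu⟩ := exists_prime_orderOf_dvd_card' 2 h2c
      set u' : G := (((u : (T : Subgroup C)) : C) : G) with hu'
      have huo : orderOf u' = 2 := by rw [hu', Subgroup.orderOf_coe, Subgroup.orderOf_coe, Subgroup.orderOf_coe, hu]
      have hux : Commute x u' := (mem_centralizer_singleton_iff.1 ((u : (T : Subgroup C)) : C).2).symm
      have hle : ((T : Subgroup C).map C.subtype) ≤ C ⊓ centralizer ({u'} : Set G) := by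
        rintro _ ⟨t, ht, rfl⟩
        refine ⟨t.2, mem_centralizer_singleton_iff.2 ?_⟩
        exact congrArg (fun v : (T : Subgroup C) => ((v : C) : G)) (mem_center_iff.1 u.2 ⟨t, ht⟩)
      have hd := (card_dvd_of_le hle).trans (hc u' huo hux)
      rw [card_map_of_injective C.subtype_injective] at hd
      rw [hk] at hd ⊢
      exact ((Nat.coprime_primes Nat.prime_two Nat.prime_three).2 (by norm_num)).pow_left k
        |>.dvd_of_dvd_mul_left hd
  rw [← hT]
  exact Nat.mul_dvd_mul h2 h1

/-- A pair without inverting element does not occur. -/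
theorem no_free_pair {z x : G} (hz : orderOf z = 2) (hx : orderOf x = 3) (hc : Commute x z)
    (hcc : Nat.card ↥(centralizer ({x} : Set G) ⊓ centralizer ({z} : Set G)) = 24) : False := by
  classical
  haveI : Fact (Nat.Prime 5) := ⟨by norm_num⟩
  haveI : Fact (Nat.Prime 2) := ⟨by norm_num⟩
  have hdvd : Nat.card (centralizer ({x} : Set G)) ∣ 8 * 45 := h.cent3_dvd hx (fun u hu hxu => by
    rw [h.pair_card_eq hz hx hc hu hx hxu, hcc]) (by norm_num)
  have h24 : 24 ∣ Nat.card (centralizer ({x} : Set G)) := hcc ▸ card_dvd_of_le inf_le_left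
  have hge : 180 ≤ Nat.card (centralizer ({x} : Set G)) := by
    have h1 := (centralizer ({x} : Set G)).card_mul_index
    have h2 := CfsgLib.Nse.index_centralizer_le x
    rw [hx, h.c3] at h2
    rw [h.card] at h1
    nlinarith
  have hC : Nat.card (centralizer ({x} : Set G)) = 360 := by
    obtain ⟨k, hk⟩ := h24
    rw [hk] at hdvd hge ⊢
    have h15 : k ∣ 15 := Nat.dvd_of_mul_dvd_mul_left (by norm_num : 0 < 24) (by simpa using hdvd)
    have := Nat.le_of_dvd (by norm_num) h15
    interval_cases k <;> first | omega | (exfalso; revert h15; norm_num)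
  have hidx : (cz x).index = 28336 := by
    have h1 := (centralizer ({x} : Set G)).card_mul_index
    rw [h.card, hC] at h1
    show (centralizer ({x} : Set G)).index = _
    omega
  by_cases hconj : IsConj x x⁻¹
  · obtain ⟨y, hy, hxy⟩ : ∃ y, orderOf y = 3 ∧ ¬ IsConj x y := by
      by_contra hcon
      push Not at hcon
      have : cnt G 3 = 28336 := by
        rw [← hidx, ← card_conj, cnt]
        exact Nat.card_congr (Equiv.subtypeEquivRight fun y => ⟨hcon y, fun e => (orderOf_eq_of_isConj e).trans hx⟩)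
      rw [h.c3] at this
      norm_num at this
    have hno : ∀ u, orderOf u = 2 → ¬ Commute y u := fun u hu hyu => hxy (by
      obtain ⟨g, -, hg⟩ := h.pair_conj hz hx hc hu hy hyu
      rcases hg with e | e
      · exact isConj_iff.2 ⟨g, e⟩
      · refine hconj.trans (isConj_iff.2 ⟨g, ?_⟩)
        rw [show g * x⁻¹ * g⁻¹ = (g * x * g⁻¹)⁻¹ by group, e, inv_inv])
    have h45 : Nat.card (centralizer ({y} : Set G)) ∣ 1 * 45 :=
      h.cent3_dvd hy (fun u hu hyu => absurd hyu (hno u hu)) (by norm_num)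
    have h1 := (centralizer ({y} : Set G)).card_mul_index
    have h2 := CfsgLib.Nse.index_centralizer_le y
    rw [hy, h.c3] at h2
    rw [h.card] at h1
    have := Nat.le_of_dvd (by norm_num) h45
    nlinarith
  · -- the normaliser of a group of order five centralises `x`
    obtain ⟨f, hf⟩ := exists_prime_orderOf_dvd_card' (G := centralizer ({x} : Set G)) 5 (by rw [hC]; norm_num)
    set y : G := (f : G)
    have hy : orderOf y = 5 := by rw [Subgroup.orderOf_coe, hf]
    have hxy : x * y = y * x := (mem_centralizer_singleton_iff.1 f.2).symm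
    have hxc : ∀ g ∈ normalizer (zpowers y : Set G), g * x = x * g := by
      intro g hg
      have hgy : ∀ t, t * y = y * t → g * t * g⁻¹ * y = y * (g * t * g⁻¹) := by
        intro t ht
        obtain ⟨k, hk⟩ := mem_zpowers_iff.1 ((mem_normalizer_iff'.1 hg (g⁻¹ * y)).2 (by
          rw [mul_inv_cancel_left]; exact mem_zpowers y))
        have hk' : g⁻¹ * y * g = y ^ k := hk.symm
        calc g * t * g⁻¹ * y = g * (t * (g⁻¹ * y * g)) * g⁻¹ := by group
          _ = g * ((g⁻¹ * y * g) * t) * g⁻¹ := by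
              rw [hk', ((show Commute t y from ht).zpow_right k).eq]
          _ = _ := by group
      have h2 := (h.cent5 hy).2
      rw [cnt_centralizer] at h2
      by_contra hne
      let f3 : Fin 3 → {t : G // orderOf t = 3 ∧ t * y = y * t} := ![⟨x, hx, hxy⟩,
        ⟨x⁻¹, by rw [orderOf_inv, hx], (show Commute x y from hxy).inv_left.eq⟩,
        ⟨g * x * g⁻¹, ((MulAut.conj g).orderOf_eq x).trans hx, hgy x hxy⟩]
      have hxx : x⁻¹ ≠ x := fun e => by
        have h3 : x ^ 2 = 1 := by rw [pow_two]; exact inv_eq_iff_mul_eq_one.1 e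
        have := orderOf_dvd_of_pow_eq_one h3
        rw [hx] at this; norm_num at this
      have h3 : Function.Injective f3 := by
        intro i j e
        have e' := congrArg (fun t : {t : G // orderOf t = 3 ∧ t * y = y * t} => t.1) e
        fin_cases i <;> fin_cases j <;> simp [f3] at e' ⊢
        all_goals first
          | exact hxx e' | exact hxx e'.symm
          | exact hne (mul_inv_eq_iff_eq_mul.1 e') | exact hne (mul_inv_eq_iff_eq_mul.1 e'.symm)
          | exact hconj (isConj_iff.2 ⟨g, e'⟩) | exact hconj (isConj_iff.2 ⟨g, e'.symm⟩)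
      have := Nat.card_le_card_of_injective f3 h3
      rw [h2, Nat.card_fin] at this
      omega
    set N := normalizer (zpowers y : Set G)
    obtain ⟨W⟩ : Nonempty (Sylow 2 N) := inferInstance
    have hW : Nat.card (W : Subgroup N) = 4 := by
      rw [W.card_eq_multiplicity, h.norm5 hy, show (60 : ℕ) = 2 ^ 2 * 15 by norm_num,
        Nat.factorization_mul (by norm_num) (by norm_num),
        Finsupp.add_apply, (Fact.out : Nat.Prime 2).factorization_pow, Finsupp.single_eq_same,
        Nat.factorization_eq_zero_of_not_dvd (by norm_num)]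
      norm_num
    have hinv : ∀ w : (W : Subgroup N), orderOf w = 2 → ((w : N) : G) * y * ((w : N) : G)⁻¹ = y⁻¹ := by
      intro w hw
      set v : G := ((w : N) : G)
      have hv : orderOf v = 2 := by rw [Subgroup.orderOf_coe, Subgroup.orderOf_coe, hw]
      obtain ⟨k, hk⟩ := mem_powers_iff_mem_zpowers.2
        ((mem_normalizer_iff.1 (w : N).2 y).1 (mem_zpowers y))
      change y ^ k = v * y * v⁻¹ at hk
      rw [← pow_mod_orderOf, hy] at hk
      have hv2 : v * v = 1 := by rw [← pow_two, ← hv, pow_orderOf_eq_one]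
      have hkk : y ^ (k % 5 * (k % 5)) = y ^ 1 := by
        rw [pow_mul, hk, conj_pow, hk, pow_one]
        calc v * (v * y * v⁻¹) * v⁻¹ = (v * v) * y * (v * v)⁻¹ := by group
          _ = y := by rw [hv2]; simp
      rw [pow_eq_pow_iff_modEq, hy, Nat.ModEq] at hkk
      have hk5 : k % 5 < 5 := Nat.mod_lt _ (by norm_num)
      rcases (show k % 5 = 1 ∨ k % 5 = 4 by interval_cases h : k % 5 <;> omega) with e | e
      · exfalso
        rw [e, pow_one] at hk
        refine h.not_two_dvd (Or.inl rfl) hy ?_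
        exact hv ▸ Subgroup.orderOf_dvd_natCard _
          (mem_centralizer_singleton_iff.2 (mul_inv_eq_iff_eq_mul.1 hk.symm))
      · rw [← hk, e]
        exact eq_inv_of_mul_eq_one_left (by rw [← pow_succ, show (4 : ℕ) + 1 = orderOf y from hy.symm, pow_orderOf_eq_one])
    obtain ⟨w, hw⟩ : ∃ w : (W : Subgroup N), orderOf w = 4 := by
      by_contra hcon
      push Not at hcon
      haveI := Fintype.ofFinite (W : Subgroup N)
      have h2 : ∀ w : (W : Subgroup N), w ≠ 1 → orderOf w = 2 := fun w hw => by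
        have h1 := orderOf_dvd_natCard w
        rw [hW, show (4 : ℕ) = 2 ^ 2 by norm_num, Nat.dvd_prime_pow Nat.prime_two] at h1
        obtain ⟨i, hi, e⟩ := h1
        interval_cases i
        · exact absurd (orderOf_eq_one_iff.1 (e.trans (pow_zero _))) hw
        · simpa using e
        · exact absurd (by simpa using e) (hcon w)
      obtain ⟨a, ha⟩ := exists_prime_orderOf_dvd_card' (G := (W : Subgroup N)) 2 (by rw [hW]; norm_num)
      obtain ⟨b, hb, hba⟩ : ∃ b : (W : Subgroup N), b ≠ 1 ∧ b ≠ a := by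
        by_contra hb
        push Not at hb
        have : Fintype.card (W : Subgroup N) ≤ 2 := (Finset.card_le_card (t := {1, a}) fun b _ => by
          rcases eq_or_ne b 1 with e | e
          · simp [e]
          · simp [hb b e]).trans Finset.card_le_two
        rw [← Nat.card_eq_fintype_card, hW] at this
        omega
      have hab : a * b ≠ 1 := fun e => hba (by
        rw [eq_inv_of_mul_eq_one_right e]
        have haa := pow_orderOf_eq_one a
        rw [ha, pow_two] at haa
        exact inv_eq_of_mul_eq_one_left haa)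
      have e1 := hinv a ha
      have e2 := hinv b (h2 b hb)
      have e3 := hinv (a * b) (h2 _ hab)
      simp only [Subgroup.coe_mul] at e3
      have e4 : ((a : N) : G) * ((b : N) : G) * y * (((a : N) : G) * ((b : N) : G))⁻¹ = y := by
        rw [show ((a : N) : G) * ((b : N) : G) * y * (((a : N) : G) * ((b : N) : G))⁻¹ =
            ((a : N) : G) * (((b : N) : G) * y * ((b : N) : G)⁻¹) * ((a : N) : G)⁻¹ by group, e2,
          show ((a : N) : G) * y⁻¹ * ((a : N) : G)⁻¹ = (((a : N) : G) * y * ((a : N) : G)⁻¹)⁻¹ by group, e1, inv_inv]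
      rw [e4] at e3
      have h5 : y ^ 2 = 1 := by rw [pow_two]; exact inv_eq_iff_mul_eq_one.1 e3.symm
      have := orderOf_dvd_of_pow_eq_one h5
      rw [hy] at this; norm_num at this
    set v : G := ((w : N) : G)
    have hv : orderOf v = 4 := by rw [Subgroup.orderOf_coe, Subgroup.orderOf_coe, hw]
    have h12 : cnt G 12 ≠ 0 := cnt_pos_iff.2 ⟨v * x, by
      rw [(show Commute v x from hxc v (w : N).2).orderOf_mul_eq_mul_orderOf_of_coprime
        (by rw [hv, hx]; norm_num), hv, hx]⟩
    have h4 : cnt G 4 ≠ 0 := cnt_pos_iff.2 ⟨v, hv⟩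
    have h6 : cnt G 6 ≠ 0 := cnt_pos_iff.2 ⟨x * z, by
      rw [hc.orderOf_mul_eq_mul_orderOf_of_coprime (by rw [hx, hz]; norm_num), hx, hz]⟩
    have m4 := h.rest_mem (by decide) h4
    have m6 := h.rest_mem (by decide) h6
    have m12 := h.rest_mem (by decide) h12
    have d1 : cnt G 4 ≠ cnt G 6 := fun e => by simpa using h.rest_inj (by decide) (by decide) h4 e
    have d2 : cnt G 4 ≠ cnt G 12 := fun e => by simpa using h.rest_inj (by decide) (by decide) h4 e
    have d3 : cnt G 6 ≠ cnt G 12 := fun e => by simpa using h.rest_inj (by decide) (by decide) h6 e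
    have hz8 : ∀ n ∈ ({8, 16, 32, 64, 128} : Finset ℕ), cnt G n = 0 := by
      intro n hn
      by_contra h0
      have hk : n ∉ ({1, 2, 3, 5, 7, 11, 14, 15, 23} : Finset ℕ) := by fin_cases hn <;> decide
      have hm := h.rest_mem hk h0
      have f1 : cnt G n ≠ cnt G 4 := fun e => by
        have := h.rest_inj hk (by decide) h0 e; fin_cases hn <;> simp at this
      have f2 : cnt G n ≠ cnt G 6 := fun e => by
        have := h.rest_inj hk (by decide) h0 e; fin_cases hn <;> simp at this
      have f3 : cnt G n ≠ cnt G 12 := fun e => by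
        have := h.rest_inj hk (by decide) h0 e; fin_cases hn <;> simp at this
      simp [restSet] at m4 m6 m12 hm
      omega
    have hfr := CfsgLib.Nse.frob (G := G) (n := 128) (by rw [h.card]; norm_num)
    rw [show Nat.divisors 128 = {1, 2, 4, 8, 16, 32, 64, 128} by decide +kernel] at hfr
    simp [cnt_one, h.c2, hz8] at hfr
    simp [restSet] at m4
    omega

theorem exists_pair : ∃ z x : G, orderOf z = 2 ∧ orderOf x = 3 ∧ Commute x z := by
  haveI : Fact (Nat.Prime 2) := ⟨by norm_num⟩
  obtain ⟨z, hz⟩ := cnt_pos_iff.1 (show cnt G 2 ≠ 0 by rw [h.c2]; norm_num)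
  obtain ⟨x, hx⟩ := cnt_pos_iff.1 (show cnt ↥(centralizer ({z} : Set G)) 3 ≠ 0 by rw [h.cz_three hz]; norm_num)
  exact ⟨z, x, hz, by rw [Subgroup.orderOf_coe, hx], mem_centralizer_singleton_iff.1 x.2⟩

theorem pair_twelve {z x : G} (hz : orderOf z = 2) (hx : orderOf x = 3) (hc : Commute x z) :
    Nat.card ↥(centralizer ({x} : Set G) ⊓ centralizer ({z} : Set G)) = 12 ∧
      ∃ s, Commute s z ∧ s * x * s⁻¹ = x⁻¹ :=
  (h.pair_cases hz hx hc).elim id fun e => (h.no_free_pair hz hx hc e.1).elim

theorem cent3 {y : G} (hy : orderOf y = 3) : Nat.card (centralizer ({y} : Set G)) = 180 := by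
  obtain ⟨z, x, hz, hx, hc⟩ := h.exists_pair
  obtain ⟨h12, s, hsz, hsx⟩ := h.pair_twelve hz hx hc
  have hdvd : Nat.card (centralizer ({x} : Set G)) ∣ 4 * 45 := h.cent3_dvd hx (fun u hu hxu => by
    rw [h.pair_card_eq hz hx hc hu hx hxu, h12]) (by norm_num)
  have h1 := (centralizer ({x} : Set G)).card_mul_index
  have h2 := CfsgLib.Nse.index_centralizer_le x
  rw [hx, h.c3] at h2
  rw [h.card] at h1
  have hC : Nat.card (centralizer ({x} : Set G)) = 180 := by
    have := Nat.le_of_dvd (by norm_num) hdvd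
    nlinarith
  have hall : IsConj x y := by
    by_contra hne
    have h3 : Nat.card {g : G // IsConj x g} < cnt G 3 := by
      classical
      haveI := Fintype.ofFinite G
      rw [cnt, Nat.card_eq_fintype_card, Nat.card_eq_fintype_card, Fintype.card_subtype, Fintype.card_subtype]
      refine Finset.card_lt_card ⟨fun g hg => ?_, fun hsub => hne ?_⟩
      · exact Finset.mem_filter.2 ⟨Finset.mem_univ _, (orderOf_eq_of_isConj (Finset.mem_filter.1 hg).2).trans hx⟩
      · exact (Finset.mem_filter.1 (hsub (Finset.mem_filter.2 ⟨Finset.mem_univ _, hy⟩))).2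
    rw [card_conj, h.c3, show (cz x).index = (centralizer ({x} : Set G)).index from rfl] at h3
    rw [hC] at h1
    omega
  exact (card_cz_conj hall).trans hC

/-- The local data of a group with the values of the model. -/
theorem toLocal : Local G where
  simple := h.isSimple
  card := h.card
  inv_conj z z' hz hz' := (h.inv_conj_card hz).2 z' hz'
  inv_card z hz := (h.inv_conj_card hz).1
  three x hx := h.cent3 hx
  three_inv x z hx hz hc := h.pair_twelve hz hx hc
  five x hx := (h.cent5 hx).1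
  five_norm x hx := h.norm5 hx
  seven x hx := (h.cent7 hx).1
  seven_norm x hx := h.norm7 hx

end CfsgLib.M23Nse.Nse
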